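import Cfsg.Agent.S0953
import Cfsg.Agent.S0909
set_option linter.all false

/-!
# Blocks of full defect

* `card_full`: if the `p`-regular elements centralising a Sylow `p`-subgroup are exactly the elements
  of the centre, the number of `p`-blocks with Sylow defect group is the order of the centre.
* `card_split`: if every block has defect zero or full defect, the number of blocks is the number
  of blocks of defect zero plus the number of blocks of full defect.
-/

set_option autoImplicit false
open Cfsg

namespace Cfsg.Agent.H142.FullBlocks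

open Cfsg.Agent.Blocks.Local Cfsg.Agent.Blocks.Basic Cfsg.Agent.Blocks.FullDefect

variable {G : Type*} [Group G] [Finite G] {p : ℕ} [Fact p.Prime] {M : Ideal AlgInt}

/-- If the `p`-regular elements centralising the Sylow `p`-subgroup `P` are exactly the elements
of the centre of `G`, the number of blocks with defect group `P` is the order of the centre. -/
theorem card_full (hM : IsPModular p M) (P : Sylow p G)
    (hc : ∀ c : G, ¬ p ∣ orderOf c → c ∈ Subgroup.centralizer ((P : Subgroup G) : Set G) →
      c ∈ Subgroup.center G)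
    (hz : ∀ z ∈ Subgroup.center G, ¬ p ∣ orderOf z) :
    Nat.card {B : Set (IrrCharacter G) // IsPBlock M B ∧ IsDefectGroup p M B (P : Subgroup G)} =
      Nat.card (Subgroup.center G) := by
  rw [Cfsg.Agent.S0953.result p M hM P]
  have hmem : ∀ z : Subgroup.center G, (z : G) ∈ Subgroup.normalizer ((P : Subgroup G) : Set G) := by
    intro z
    exact Subgroup.center_le_normalizer _ z.2
  have hcen : ∀ z : Subgroup.center G, ∀ n : Subgroup.normalizer ((P : Subgroup G) : Set G),
      ConjClasses.mk n = ConjClasses.mk (⟨z, hmem z⟩ : Subgroup.normalizer ((P : Subgroup G) : Set G)) →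
        n = ⟨z, hmem z⟩ := by
    intro z n hn
    rw [ConjClasses.mk_eq_mk_iff_isConj] at hn
    obtain ⟨c, hc⟩ := isConj_iff.1 hn
    have h1 : ((c : G) * n * (c : G)⁻¹) = z := congrArg Subtype.val hc
    have h2 : (n : G) = z := by
      have h3 : (n : G) = (c : G)⁻¹ * z * c := by rw [← h1]; group
      rw [h3, mul_assoc, ← (Subgroup.mem_center_iff.1 z.2 c)]
      group
    exact Subtype.ext h2
  refine (Nat.card_congr (Equiv.ofBijective
    (fun z : Subgroup.center G =>
      (⟨ConjClasses.mk (⟨z, hmem z⟩ : Subgroup.normalizer ((P : Subgroup G) : Set G)), ?_⟩ :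
        {C : ConjClasses (Subgroup.normalizer ((P : Subgroup G) : Set G)) //
          ∀ n : Subgroup.normalizer ((P : Subgroup G) : Set G), ConjClasses.mk n = C →
            ¬ p ∣ orderOf n ∧ (n : G) ∈ Subgroup.centralizer ((P : Subgroup G) : Set G)})) ⟨?_, ?_⟩)).symm
  · intro n hn
    obtain rfl := hcen z n hn
    refine ⟨?_, Subgroup.center_le_centralizer _ z.2⟩
    rw [← Subgroup.orderOf_coe]
    exact hz z z.2
  · intro z z' h
    have h1 := hcen z' _ (congrArg Subtype.val h)
    exact Subtype.ext (congrArg (fun x : Subgroup.normalizer ((P : Subgroup G) : Set G) => (x : G)) h1)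
  · rintro ⟨C, hC⟩
    obtain ⟨n, rfl⟩ := ConjClasses.exists_rep C
    obtain ⟨h1, h2⟩ := hC n rfl
    rw [← Subgroup.orderOf_coe] at h1
    exact ⟨⟨n, hc n h1 h2⟩, rfl⟩

/-- A block has full defect exactly when a Sylow subgroup is one of its defect groups. -/
theorem blockDefect_eq_iff (hM : IsPModular p M) (P : Sylow p G) {B : Set (IrrCharacter G)}
    (hB : IsPBlock M B) :
    blockDefect p B = (Nat.card G).factorization p ↔ IsDefectGroup p M B (P : Subgroup G) := by
  have := isPrime_of_isPModular hM
  have hp : p.Prime := Fact.out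
  constructor
  · intro h
    obtain ⟨g, hg⟩ := Cfsg.Agent.S0906.result p M hM B hB
    have hdef : ∃ D : Subgroup G, IsDefectGroup p M B D := by
      obtain ⟨D, hD, -⟩ := exists_isSylowCentralizer (p := p) (g := g) (Q := (⊥ : Subgroup G))
        (IsPGroup.of_bot) bot_le
      exact ⟨D, isDefectGroup_iff.2 ⟨g, hg, hD⟩⟩
    obtain ⟨D, hD⟩ := hdef
    have h1 := Cfsg.Agent.S0908.result p M hM B hB _ hD
    have h2 : Nat.card D = p ^ (Nat.card G).factorization p := by rw [h1, h]
    have h3 : ∃ x : G, (P : Subgroup G).map (MulAut.conj x).toMonoidHom = D := by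
      obtain ⟨Q, hQ⟩ := (isPGroup_of_isDefectGroup hD).exists_le_sylow
      have hcard : Nat.card Q = Nat.card D := by rw [Q.card_eq_multiplicity, h2]
      have hQD : D = Q := Subgroup.eq_of_le_of_card_ge hQ hcard.le
      obtain ⟨x, hx⟩ := MulAction.exists_smul_eq G P Q
      refine ⟨x, ?_⟩
      rw [hQD, ← hx]
      rfl
    obtain ⟨x, hx⟩ := h3
    have h4 := isDefectGroup_conj hD x⁻¹
    rwa [← hx, map_conj_map_conj, inv_mul_cancel, map_conj_one] at h4
  · intro h
    have h1 := Cfsg.Agent.S0908.result p M hM B hB _ h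
    rw [P.card_eq_multiplicity] at h1
    exact (Nat.pow_right_injective hp.two_le h1).symm

/-- If every block has defect zero or full defect, and `p` divides the order of the group, the
blocks are those of defect zero and those of full defect. -/
theorem card_split (hM : IsPModular p M) (P : Sylow p G) (hdvd : p ∣ Nat.card G)
    (hall : ∀ B : Set (IrrCharacter G), IsPBlock M B →
      blockDefect p B = 0 ∨ blockDefect p B = (Nat.card G).factorization p) :
    Nat.card {B : Set (IrrCharacter G) // IsPBlock M B} =
      Nat.card {B : Set (IrrCharacter G) // IsPBlock M B ∧ blockDefect p B = 0} +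
      Nat.card {B : Set (IrrCharacter G) // IsPBlock M B ∧ IsDefectGroup p M B (P : Subgroup G)} := by
  classical
  have hp : p.Prime := Fact.out
  have hpos : 0 < (Nat.card G).factorization p :=
    hp.factorization_pos_of_dvd Nat.card_pos.ne' hdvd
  have : Finite (IrrCharacter G) := Cfsg.Agent.S0909.finite_irr
  have : Finite (Set (IrrCharacter G)) := inferInstance
  rw [← Nat.card_sum]
  refine Nat.card_congr (Equiv.symm (Equiv.ofBijective
    (fun x : {B : Set (IrrCharacter G) // IsPBlock M B ∧ blockDefect p B = 0} ⊕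
      {B : Set (IrrCharacter G) // IsPBlock M B ∧ IsDefectGroup p M B (P : Subgroup G)} =>
      (Sum.elim (fun B => ⟨B.1, B.2.1⟩) (fun B => ⟨B.1, B.2.1⟩) x :
        {B : Set (IrrCharacter G) // IsPBlock M B})) ⟨?_, ?_⟩))
  · rintro (⟨B, hB, h0⟩ | ⟨B, hB, h0⟩) (⟨B', hB', h0'⟩ | ⟨B', hB', h0'⟩) h
    · simp only [Sum.elim_inl, Subtype.mk.injEq] at h
      subst h; rfl
    · simp only [Sum.elim_inl, Sum.elim_inr, Subtype.mk.injEq] at h
      subst h
      rw [← blockDefect_eq_iff hM P hB] at h0'
      omega
    · simp only [Sum.elim_inl, Sum.elim_inr, Subtype.mk.injEq] at h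
      subst h
      rw [← blockDefect_eq_iff hM P hB] at h0
      omega
    · simp only [Sum.elim_inr, Subtype.mk.injEq] at h
      subst h; rfl
  · rintro ⟨B, hB⟩
    rcases hall B hB with h | h
    · exact ⟨Sum.inl ⟨B, hB, h⟩, rfl⟩
    · exact ⟨Sum.inr ⟨B, hB, (blockDefect_eq_iff hM P hB).1 h⟩, rfl⟩

end Cfsg.Agent.H142.FullBlocks
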