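import Mathlib.LinearAlgebra.Matrix.SpecialLinearGroup
import Mathlib.LinearAlgebra.Matrix.Transvection
import Mathlib.GroupTheory.Sylow
import Mathlib.GroupTheory.SpecificGroups.Cyclic
import Mathlib.FieldTheory.Finite.Basic
import Mathlib.Algebra.CharP.Lemmas
import Mathlib.RingTheory.RootsOfUnity.Basic
import Mathlib.RingTheory.IntegralDomain
import Mathlib.LinearAlgebra.Matrix.CharP
import Cfsg.Agent.H142.FullBlocks
import Cfsg.Agent.S0157
import Cfsg.Agent.S0914
import Cfsg.Agent.ClassicalGeometry.PSL2Basic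
import Cfsg.Agent.CharactersDeep.Extraspecial
import Mathlib.LinearAlgebra.Projectivization.Action
import Mathlib.LinearAlgebra.Projectivization.Cardinality
set_option linter.all false

-- part: H142/SLCent
section
/-!
# Elements of `SL_n(F)` centralising a Sylow `p`-subgroup, in characteristic `p`

`mem_center_of_centralizes_sylow`: a `p`-regular element of `SL_n(F)` (`F` a finite field of
characteristic `p`) centralising a Sylow `p`-subgroup is a scalar.
-/

set_option autoImplicit false

namespace Cfsg.Agent.H142.SLCent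

open Matrix

variable {F : Type*} [Field F] {n : ℕ}

/-- The elementary matrix `1 + a E_{ij}` in `SL_n`. -/
def elem (i j : Fin n) (h : i ≠ j) (a : F) : Matrix.SpecialLinearGroup (Fin n) F :=
  ⟨Matrix.transvection i j a, Matrix.det_transvection_of_ne i j h a⟩

/-- The group of all matrices differing from the identity only in the first row, off the diagonal. -/
def rowGroup (i : Fin n) : Subgroup (Matrix.SpecialLinearGroup (Fin n) F) :=
  Subgroup.closure {x | ∃ (j : Fin n) (h : i ≠ j) (a : F), x = elem i j h a}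

/-- Two elementary matrices with the same row index commute. -/
theorem elem_comm (i j k : Fin n) (h : i ≠ j) (h' : i ≠ k) (a b : F) :
    elem i j h a * elem i k h' b = elem i k h' b * elem i j h a := by
  apply Subtype.ext
  change Matrix.transvection i j a * Matrix.transvection i k b =
    Matrix.transvection i k b * Matrix.transvection i j a
  simp only [Matrix.transvection, add_mul, mul_add, one_mul, mul_one]
  rw [Matrix.single_mul_single_of_ne _ _ _ _ (Ne.symm h), Matrix.single_mul_single_of_ne _ _ _ _ (Ne.symm h')]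
  abel

theorem elem_pow (i j : Fin n) (h : i ≠ j) (a : F) (m : ℕ) :
    (elem i j h a) ^ m = elem i j h (m * a) := by
  induction m with
  | zero =>
    rw [pow_zero]
    apply Subtype.ext
    change (1 : Matrix (Fin n) (Fin n) F) = Matrix.transvection i j _
    simp
  | succ m ih =>
    rw [pow_succ, ih]
    apply Subtype.ext
    change Matrix.transvection i j (m * a) * Matrix.transvection i j a = Matrix.transvection i j _
    rw [Matrix.transvection_mul_transvection_same _ _ h]
    congr 1
    push_cast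
    ring

/-- The row group is an elementary abelian `p`-group. -/
theorem isPGroup_rowGroup (p : ℕ) [Fact p.Prime] [CharP F p] (i : Fin n) :
    IsPGroup p (rowGroup (F := F) i) := by
  have hcomm : ∀ x ∈ rowGroup (F := F) i, ∀ y ∈ rowGroup (F := F) i, x * y = y * x := by
    intro x hx y hy
    have h1 : IsMulCommutative (Subgroup.closure
        {x : Matrix.SpecialLinearGroup (Fin n) F | ∃ (j : Fin n) (h : i ≠ j) (a : F), x = elem i j h a}) := by
      apply Subgroup.isMulCommutative_closure
      rintro x ⟨j, hj, a, rfl⟩ y ⟨k, hk, b, rfl⟩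
      exact elem_comm i j k hj hk a b
    have h2 := h1.is_comm.comm (⟨x, hx⟩ : rowGroup (F := F) i) ⟨y, hy⟩
    exact congrArg Subtype.val h2
  intro x
  refine ⟨1, ?_⟩
  have h : ∀ y ∈ rowGroup (F := F) i, y ^ p = 1 := by
    intro y hy
    refine Subgroup.closure_induction (p := fun y _ => y ^ p = 1) ?_ ?_ ?_ ?_ hy
    · rintro y ⟨j, hj, a, rfl⟩
      rw [elem_pow, CharP.cast_eq_zero, zero_mul]
      apply Subtype.ext
      simp [elem]
    · exact one_pow _
    · intro a b ha hb ha' hb'
      rw [(show Commute a b from hcomm a ha b hb).mul_pow, ha', hb', one_mul]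
    · intro a _ ha'
      rw [inv_pow, ha', inv_one]
  apply Subtype.ext
  rw [pow_one]
  exact h x x.2

/-- A matrix commuting with all the elementary matrices in row `i` is a scalar plus a matrix
concentrated in row `i`; if it is `p`-regular it is a scalar. -/
theorem mem_center_of_commute (p : ℕ) [Fact p.Prime] [CharP F p] [Finite F] (i : Fin n)
    (hn : 2 ≤ n) (c : Matrix.SpecialLinearGroup (Fin n) F) (hc : ¬ p ∣ orderOf c)
    (hcomm : ∀ (j : Fin n) (h : i ≠ j), c * elem i j h 1 = elem i j h 1 * c) :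
    c ∈ Subgroup.center (Matrix.SpecialLinearGroup (Fin n) F) := by
  have hp : p.Prime := Fact.out
  have h1 : ∀ (j : Fin n) (h : i ≠ j), c.1 * Matrix.single i j (1 : F) = Matrix.single i j (1 : F) * c.1 := by
    intro j h
    have h2 : c.1 * Matrix.transvection i j (1 : F) = Matrix.transvection i j (1 : F) * c.1 :=
      congrArg Subtype.val (hcomm j h)
    simp only [Matrix.transvection, add_mul, mul_add, one_mul, mul_one] at h2
    exact add_left_cancel h2
  -- entries
  have hcol : ∀ a : Fin n, a ≠ i → c.1 a i = 0 := by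
    intro a ha
    obtain ⟨j, hj⟩ : ∃ j : Fin n, i ≠ j := by
      have : Nontrivial (Fin n) := Fin.nontrivial_iff_two_le.2 hn
      obtain ⟨j, hj⟩ := exists_ne i
      exact ⟨j, hj.symm⟩
    have h2 := congrFun (congrFun (h1 j hj) a) j
    rw [Matrix.mul_single_apply_same, Matrix.single_mul_apply_of_ne _ _ _ _ _ ha, mul_one] at h2
    exact h2
  have hent : ∀ (j : Fin n), i ≠ j → ∀ b : Fin n, c.1 j b = if b = j then c.1 i i else 0 := by
    intro j hj b
    have h2 := congrFun (congrFun (h1 j hj) i) b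
    rw [Matrix.single_mul_apply_same, one_mul] at h2
    rw [← h2]
    split_ifs with hb
    · subst hb
      rw [Matrix.mul_single_apply_same, mul_one]
    · rw [Matrix.mul_single_apply_of_ne _ _ _ _ _ hb]
  -- c = s + N
  set s : F := c.1 i i with hs
  set N : Matrix (Fin n) (Fin n) F := c.1 - Matrix.scalar (Fin n) s with hN
  have hNe : ∀ a b, a ≠ i → N a b = 0 := by
    intro a b ha
    rw [hN, Matrix.sub_apply, hent a (Ne.symm ha) b, Matrix.scalar_apply, Matrix.diagonal_apply]
    split_ifs with h2 h3 h3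
    · rw [hs]; ring
    · exact absurd h2.symm h3
    · exact absurd h3.symm h2
    · ring
  have hNi : N i i = 0 := by
    rw [hN, Matrix.sub_apply, Matrix.scalar_apply, Matrix.diagonal_apply_eq, hs, sub_self]
  have hN2 : N * N = 0 := by
    ext a b
    rw [Matrix.mul_apply, Matrix.zero_apply]
    apply Finset.sum_eq_zero
    intro k _
    by_cases hk : k = i
    · subst hk
      by_cases ha : a = k
      · subst ha; rw [hNi, zero_mul]
      · rw [hNe a _ ha, zero_mul]
    · rw [hNe k b hk, mul_zero]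
  have hcN : c.1 = Matrix.scalar (Fin n) s + N := by rw [hN]; abel
  have hpow : (c ^ p).1 = Matrix.scalar (Fin n) (s ^ p) := by
    have h2 : (c ^ p).1 = c.1 ^ p := rfl
    rw [h2, hcN]
    have : CharP (Matrix (Fin n) (Fin n) F) p := by
      have : Nonempty (Fin n) := ⟨i⟩
      infer_instance
    have : ExpChar (Matrix (Fin n) (Fin n) F) p := ExpChar.prime hp
    rw [add_pow_expChar_of_commute p (Matrix.scalar_commute s (fun r => mul_comm _ _) N)]
    have h3 : N ^ p = 0 := by
      obtain ⟨k, hk⟩ : ∃ k, p = 2 + k := ⟨p - 2, by have := hp.two_le; omega⟩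
      rw [hk, pow_add, pow_two, hN2, zero_mul]
    rw [h3, add_zero, ← map_pow]
  have hcen : c ^ p ∈ Subgroup.center (Matrix.SpecialLinearGroup (Fin n) F) := by
    rw [Matrix.SpecialLinearGroup.mem_center_iff]
    refine ⟨s ^ p, ?_, hpow.symm⟩
    have h2 := (c ^ p).2
    rw [hpow] at h2
    simpa [Matrix.scalar_apply, Matrix.det_diagonal] using h2
  have hcop : Nat.Coprime (orderOf c) p := (Nat.Coprime.symm ((Nat.Prime.coprime_iff_not_dvd hp).2 hc))
  obtain ⟨m, hm⟩ := exists_pow_eq_self_of_coprime hcop.symm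
  rw [← hm]
  exact pow_mem hcen m

/-- A `p`-regular element of `SL_n(F)` centralising a Sylow `p`-subgroup is central. -/
theorem mem_center_of_centralizes_sylow (p : ℕ) [Fact p.Prime] [CharP F p] [Finite F]
    (hn : 2 ≤ n) (P : Sylow p (Matrix.SpecialLinearGroup (Fin n) F))
    (c : Matrix.SpecialLinearGroup (Fin n) F) (hc : ¬ p ∣ orderOf c)
    (hcP : c ∈ Subgroup.centralizer ((P : Subgroup (Matrix.SpecialLinearGroup (Fin n) F)) :
      Set (Matrix.SpecialLinearGroup (Fin n) F))) :
    c ∈ Subgroup.center (Matrix.SpecialLinearGroup (Fin n) F) := by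
  let i : Fin n := ⟨0, by omega⟩
  obtain ⟨Q, hQ⟩ := (isPGroup_rowGroup (F := F) p i).exists_le_sylow
  obtain ⟨x, hx⟩ := MulAction.exists_smul_eq (Matrix.SpecialLinearGroup (Fin n) F) P Q
  have hmem : ∀ y ∈ Q, x⁻¹ * y * x ∈ P := by
    intro y hy
    rw [← hx] at hy
    obtain ⟨z, hz, rfl⟩ := hy
    change x⁻¹ * (x * z * x⁻¹) * x ∈ P
    have : x⁻¹ * (x * z * x⁻¹) * x = z := by group
    rw [this]
    exact hz
  have h1 : x * c * x⁻¹ ∈ Subgroup.center (Matrix.SpecialLinearGroup (Fin n) F) := by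
    apply mem_center_of_commute p i hn
    · have : orderOf (x * c * x⁻¹) = orderOf c := by
        have := orderOf_injective (MulAut.conj x).toMonoidHom (MulAut.conj x).injective c
        simpa using this
      rwa [this]
    · intro j h
      have h2 : elem i j h (1 : F) ∈ Q := hQ (Subgroup.subset_closure ⟨j, h, 1, rfl⟩)
      have h3 := Subgroup.mem_centralizer_iff.1 hcP _ (hmem _ h2)
      have h4 : x * (x⁻¹ * elem i j h 1 * x * c) * x⁻¹ = x * (c * (x⁻¹ * elem i j h 1 * x)) * x⁻¹ := by
        rw [h3]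
      have h5 : x * (x⁻¹ * elem i j h 1 * x * c) * x⁻¹ = elem i j h 1 * (x * c * x⁻¹) := by group
      have h6 : x * (c * (x⁻¹ * elem i j h 1 * x)) * x⁻¹ = (x * c * x⁻¹) * elem i j h 1 := by group
      rw [← h5, ← h6, h4]
  have h2 : c = x * c * x⁻¹ := by
    have h3 := Subgroup.mem_center_iff.1 h1 x
    have h4 : x * (x * c * x⁻¹) = x * (x * c * x⁻¹) := rfl
    have : x * c = x * (x * c * x⁻¹) := by
      rw [h3]; group
    exact mul_left_cancel this
  rw [h2]
  exact h1

/-- The centre of `SL_n(F)` consists of `p`-regular elements. -/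
theorem not_dvd_orderOf_of_mem_center (p : ℕ) [Fact p.Prime] [CharP F p] [Finite F]
    (z : Matrix.SpecialLinearGroup (Fin n) F)
    (hz : z ∈ Subgroup.center (Matrix.SpecialLinearGroup (Fin n) F)) : ¬ p ∣ orderOf z := by
  classical
  have : Fintype F := Fintype.ofFinite F
  have hp : p.Prime := Fact.out
  obtain ⟨r, hr, hrz⟩ := Matrix.SpecialLinearGroup.mem_center_iff.1 hz
  rcases Nat.eq_zero_or_pos n with hn | hn
  · subst hn
    have : z = 1 := by
      apply Subtype.ext
      ext i
      exact i.elim0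
    rw [this, orderOf_one]
    exact hp.one_lt.ne' ∘ Nat.dvd_one.1
  have hr0 : r ≠ 0 := by
    rintro rfl
    rw [Fintype.card_fin, zero_pow hn.ne'] at hr
    exact zero_ne_one hr
  have h1 : z ^ (Fintype.card F - 1) = 1 := by
    apply Subtype.ext
    change z.1 ^ (Fintype.card F - 1) = 1
    rw [← hrz, ← map_pow, FiniteField.pow_card_sub_one_eq_one r hr0, map_one]
  intro h
  have h2 : p ∣ Fintype.card F - 1 := h.trans (orderOf_dvd_of_pow_eq_one h1)
  have h3 : p ∣ Fintype.card F := by
    obtain ⟨k, hk⟩ := FiniteField.card F p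
    rw [hk.2]
    exact dvd_pow_self p k.2.ne'
  have h4 : p ∣ 1 := by
    have h5 : Fintype.card F - (Fintype.card F - 1) = 1 := by
      have := Fintype.card_pos (α := F)
      omega
    rw [← h5]
    exact Nat.dvd_sub h3 h2
  exact hp.one_lt.ne' (Nat.dvd_one.1 h4)

end Cfsg.Agent.H142.SLCent
end

-- part: H142/SLTwoBlocks
section
/-!
# The `p`-blocks of `SL_2(q)`, `q` odd, in its own characteristic `p`

Everything is deduced from the fact that there is exactly one block of defect zero and that all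
other blocks have full defect (hypothesis `h` below).
-/

set_option autoImplicit false
open Cfsg

namespace Cfsg.Agent.H142.SLTwoBlocks

open Cfsg.Agent.Blocks.Local Cfsg.Agent.Blocks.Basic
open scoped LinearAlgebra.Projectivization

/-- The centre of `SL_n(q)` has order `gcd(n, q - 1)`. -/
theorem card_center_SL {K : Type*} [Field K] [Fintype K] {n : ℕ} (hn : 1 ≤ n) :
    Nat.card (Subgroup.center (Matrix.SpecialLinearGroup (Fin n) K)) =
      Nat.gcd n (Fintype.card K - 1) := by
  have : Nonempty (Fin n) := ⟨⟨0, by omega⟩⟩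
  rw [Nat.card_congr (Matrix.SpecialLinearGroup.center_equiv_rootsOfUnity'
      (n := Fin n) (R := K) ⟨0, by omega⟩).toEquiv, rootsOfUnity_eq_ker,
      IsCyclic.card_powMonoidHom_ker, Nat.card_units, Nat.card_eq_fintype_card, Fintype.card_fin,
      Nat.gcd_comm]

/-- The characteristic divides the order of `SL_n(F)`, `n ≥ 2`. -/
theorem dvd_card_SL {K : Type*} [Field K] [Finite K] {n : ℕ} (hn : 2 ≤ n) (p : ℕ) [Fact p.Prime]
    [CharP K p] : p ∣ Nat.card (Matrix.SpecialLinearGroup (Fin n) K) := by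
  let i : Fin n := ⟨0, by omega⟩
  let j : Fin n := ⟨1, by omega⟩
  have hij : i ≠ j := by
    intro h
    have := congrArg Fin.val h
    simp [i, j] at this
  have hord : orderOf (SLCent.elem i j hij (1 : K)) = p := by
    apply orderOf_eq_prime
    · rw [SLCent.elem_pow, CharP.cast_eq_zero, zero_mul]
      apply Subtype.ext
      change Matrix.transvection i j (0 : K) = 1
      simp
    · intro h
      have h1 : (SLCent.elem i j hij (1 : K)).1 i j = (1 : Matrix (Fin n) (Fin n) K) i j := by
        rw [h]; rfl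
      simp [SLCent.elem, Matrix.transvection, hij] at h1
  rw [← hord]
  exact orderOf_dvd_natCard _

/-- The number of blocks of `SL_n(q)` in characteristic `p`, given the defect dichotomy. -/
theorem card_blocks_SL {K : Type*} [Field K] [Fintype K] {n : ℕ} (hn : 2 ≤ n) (p : ℕ) [Fact p.Prime]
    [CharP K p] (M : Ideal AlgInt) (hM : IsPModular p M)
    (h : Nat.card {B : Set (IrrCharacter (Matrix.SpecialLinearGroup (Fin n) K)) //
        IsPBlock M B ∧ blockDefect p B = 0} = 1 ∧
      ∀ B : Set (IrrCharacter (Matrix.SpecialLinearGroup (Fin n) K)), IsPBlock M B →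
        blockDefect p B = 0 ∨
          blockDefect p B = (Nat.card (Matrix.SpecialLinearGroup (Fin n) K)).factorization p) :
    Nat.card {B : Set (IrrCharacter (Matrix.SpecialLinearGroup (Fin n) K)) // IsPBlock M B} =
      Nat.gcd n (Fintype.card K - 1) + 1 := by
  obtain ⟨P⟩ : Nonempty (Sylow p (Matrix.SpecialLinearGroup (Fin n) K)) := inferInstance
  rw [FullBlocks.card_split hM P (dvd_card_SL hn p) h.2, h.1,
    FullBlocks.card_full hM P (fun c hc hcP => SLCent.mem_center_of_centralizes_sylow p hn P c hc hcP)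
      (fun z hz => SLCent.not_dvd_orderOf_of_mem_center p z hz),
    card_center_SL (by omega), add_comm]

variable {F : Type*} [Field F] [Fintype F]

/-- The Steinberg character of `SL_2(q)`: the permutation character on the projective line minus
one. -/
noncomputable def st (F : Type*) [Field F] : Matrix.SpecialLinearGroup (Fin 2) F → ℂ :=
  fun g => (Nat.card (MulAction.fixedBy (ℙ F (Fin 2 → F)) g) : ℂ) - 1

theorem card_line : Nat.card (ℙ F (Fin 2 → F)) = Fintype.card F + 1 := by
  rw [Projectivization.card_of_finrank_two F (Fin 2 → F) (by simp), Nat.card_eq_fintype_card]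

theorem isIrr_st : IsIrrCharacter (Matrix.SpecialLinearGroup (Fin 2) F) (st F) := by
  have h1 : MulAction.IsMultiplyPretransitive (Matrix.SpecialLinearGroup (Fin 2) F)
      (ℙ F (Fin 2 → F)) 2 := inferInstance
  have h2 : MulAction.IsPretransitive (Matrix.SpecialLinearGroup (Fin 2) F)
      (ℙ F (Fin 2 → F)) := MulAction.isPretransitive_of_is_two_pretransitive
  have h3 : Finite (ℙ F (Fin 2 → F)) := by
    apply Nat.finite_of_card_ne_zero
    rw [card_line]; omega
  refine (Cfsg.Agent.S0157.result (ℙ F (Fin 2 → F)) ?_).2 h1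
  rw [card_line]
  have := Fintype.one_lt_card (α := F)
  omega

theorem st_one : st F 1 = (Fintype.card F : ℂ) := by
  have h : MulAction.fixedBy (ℙ F (Fin 2 → F)) (1 : Matrix.SpecialLinearGroup (Fin 2) F) = Set.univ := by
    ext x; simp
  rw [st, h, Nat.card_univ, card_line]
  push_cast
  ring

theorem st_neg_one : st F (-1) = (Fintype.card F : ℂ) := by
  have h : MulAction.fixedBy (ℙ F (Fin 2 → F)) (-1 : Matrix.SpecialLinearGroup (Fin 2) F) = Set.univ := by
    ext x
    simp only [MulAction.mem_fixedBy, Set.mem_univ, iff_true]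
    induction x using Projectivization.ind with
    | h v hv =>
      rw [Projectivization.smul_mk]
      rw [Projectivization.mk_eq_mk_iff']
      refine ⟨-1, ?_⟩
      change (-1 : F) • v = (-1 : Matrix (Fin 2) (Fin 2) F).mulVec v
      rw [Matrix.neg_mulVec, Matrix.one_mulVec, neg_smul, one_smul]
  rw [st, h, Nat.card_univ, card_line]
  push_cast
  ring


omit [Fintype F] in
theorem neg_one_mem_center : (-1 : Matrix.SpecialLinearGroup (Fin 2) F) ∈
    Subgroup.center (Matrix.SpecialLinearGroup (Fin 2) F) := by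
  rw [Subgroup.mem_center_iff]
  intro g
  rw [mul_neg, mul_one, neg_mul, one_mul]

omit [Fintype F] in
/-- An irreducible character takes one of the values `± χ 1` at `-1`. -/
theorem apply_neg_one (χ : IrrCharacter (Matrix.SpecialLinearGroup (Fin 2) F)) :
    (χ : Matrix.SpecialLinearGroup (Fin 2) F → ℂ) (-1) = (χ : Matrix.SpecialLinearGroup (Fin 2) F → ℂ) 1 ∨
    (χ : Matrix.SpecialLinearGroup (Fin 2) F → ℂ) (-1) = -(χ : Matrix.SpecialLinearGroup (Fin 2) F → ℂ) 1 := by
  obtain ⟨c, hc, -⟩ := Cfsg.Agent.CharactersDeep.Extraspecial.exists_central_hom χ.2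
  set z : Subgroup.center (Matrix.SpecialLinearGroup (Fin 2) F) := ⟨-1, neg_one_mem_center⟩ with hz
  have h1 := hc 1 z
  rw [one_mul] at h1
  have h2 : z * z = 1 := by
    apply Subtype.ext
    change (-1 : Matrix.SpecialLinearGroup (Fin 2) F) * -1 = 1
    rw [neg_mul_neg, one_mul]
  have h3 : (c z : ℂ) * (c z : ℂ) = 1 := by
    have := congrArg c h2
    rw [map_mul, map_one] at this
    simpa using congrArg Units.val this
  rcases mul_self_eq_one_iff.1 h3 with h4 | h4
  · left; rw [h4, mul_one] at h1; exact h1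
  · right; rw [h4, mul_neg, mul_one] at h1; exact h1

omit [Fintype F] in
theorem centralChar_neg_one (χ : IrrCharacter (Matrix.SpecialLinearGroup (Fin 2) F)) :
    centralChar (χ : Matrix.SpecialLinearGroup (Fin 2) F → ℂ) (-1) =
      (χ : Matrix.SpecialLinearGroup (Fin 2) F → ℂ) (-1) / (χ : Matrix.SpecialLinearGroup (Fin 2) F → ℂ) 1 := by
  have h1 : Subgroup.centralizer ({(-1 : Matrix.SpecialLinearGroup (Fin 2) F)} : Set _) = ⊤ := by
    rw [eq_top_iff]
    intro g _
    rw [Subgroup.mem_centralizer_singleton_iff]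
    exact (Subgroup.mem_center_iff.1 neg_one_mem_center g)
  rw [centralChar_def, h1, Subgroup.index_top]
  push_cast
  rw [one_mul]

/-- Characters in one block have the same sign at `-1`. -/
theorem sign_of_sameBlock {p : ℕ} (hp2 : p ≠ 2) {M : Ideal AlgInt} (hM : IsPModular p M)
    (χ ψ : IrrCharacter (Matrix.SpecialLinearGroup (Fin 2) F))
    (h : SameBlock M (χ : Matrix.SpecialLinearGroup (Fin 2) F → ℂ) (ψ : Matrix.SpecialLinearGroup (Fin 2) F → ℂ))
    (hχ : (χ : Matrix.SpecialLinearGroup (Fin 2) F → ℂ) (-1) = (χ : Matrix.SpecialLinearGroup (Fin 2) F → ℂ) 1) :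
    (ψ : Matrix.SpecialLinearGroup (Fin 2) F → ℂ) (-1) = (ψ : Matrix.SpecialLinearGroup (Fin 2) F → ℂ) 1 := by
  have := isPrime_of_isPModular hM
  rcases apply_neg_one ψ with h1 | h1
  · exact h1
  · exfalso
    have h2 := h (-1)
    have hχ1 := irr_one_ne_zero χ.2
    have hψ1 := irr_one_ne_zero ψ.2
    rw [centralChar_neg_one, centralChar_neg_one, hχ, h1, div_self hχ1, neg_div, div_self hψ1] at h2
    have h3 : ((1 : ℂ) - -1) = ((2 : ℕ) : ℂ) := by norm_num
    rw [h3, memLocalIdeal_natCast_iff hM] at h2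
    exact hp2 ((Nat.prime_dvd_prime_iff_eq hM.1 Nat.prime_two).1 h2)

/-- There is an irreducible character with `χ (-1) = - χ 1`, `q` odd. -/
theorem exists_faithful (h2 : (-1 : Matrix.SpecialLinearGroup (Fin 2) F) ≠ 1) :
    ∃ χ : IrrCharacter (Matrix.SpecialLinearGroup (Fin 2) F),
      (χ : Matrix.SpecialLinearGroup (Fin 2) F → ℂ) (-1) = -(χ : Matrix.SpecialLinearGroup (Fin 2) F → ℂ) 1 := by
  classical
  have hfin : Finite (IrrCharacter (Matrix.SpecialLinearGroup (Fin 2) F)) :=
    Cfsg.Agent.Characters.Core.finite_irr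
  have := Fintype.ofFinite (IrrCharacter (Matrix.SpecialLinearGroup (Fin 2) F))
  by_contra hcon
  push Not at hcon
  have hcon2 : ∀ χ : IrrCharacter (Matrix.SpecialLinearGroup (Fin 2) F),
      (χ : Matrix.SpecialLinearGroup (Fin 2) F → ℂ) (-1) = (χ : Matrix.SpecialLinearGroup (Fin 2) F → ℂ) 1 :=
    fun χ => (apply_neg_one χ).resolve_right (hcon χ)
  let f : Matrix.SpecialLinearGroup (Fin 2) F → ℂ := fun g => if g = 1 then 1 else 0
  have hf : IsClassFunction (Matrix.SpecialLinearGroup (Fin 2) F) f := by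
    intro g x
    change (if x * g * x⁻¹ = 1 then (1 : ℂ) else 0) = if g = 1 then 1 else 0
    simp only [conj_eq_one_iff]
  have hexp := Cfsg.Agent.Characters.Core.classFunction_eq_sum hf
  have h2' : f (-1) = f 1 := by
    rw [hexp, Finset.sum_apply, Finset.sum_apply]
    refine Finset.sum_congr rfl fun χ _ => ?_
    rw [Pi.smul_apply, Pi.smul_apply, hcon2 χ]
  have h3 : f (-1) = 0 := if_neg h2
  have h4 : f 1 = 1 := if_pos rfl
  rw [h3, h4] at h2'
  exact zero_ne_one h2'

/-- The exponent of `p` in the order of `SL_2(q)`: the `p`-part is `q`. -/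
theorem factorization_card (p : ℕ) [Fact p.Prime] [CharP F p] :
    p ^ (Nat.card (Matrix.SpecialLinearGroup (Fin 2) F)).factorization p = Fintype.card F ∧
    ∃ m : ℕ, ¬ p ∣ m ∧ Nat.card (Matrix.SpecialLinearGroup (Fin 2) F) = Fintype.card F * m := by
  have hp : p.Prime := Fact.out
  have h1 := Cfsg.Agent.ClassicalGeometry.PSL2Basic.card_SL2 (F := F)
  obtain ⟨k, hk⟩ := FiniteField.card F p
  have hq : 1 < Fintype.card F := Fintype.one_lt_card
  have hnd : ¬ p ∣ Fintype.card F ^ 2 - 1 := by
    intro h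
    have h3 : p ∣ Fintype.card F ^ 2 := by
      rw [hk.2]
      exact dvd_pow (dvd_pow_self p k.2.ne') two_ne_zero
    have h4 : p ∣ 1 := by
      have h5 : Fintype.card F ^ 2 - (Fintype.card F ^ 2 - 1) = 1 := by
        have : 1 ≤ Fintype.card F ^ 2 := Nat.one_le_pow _ _ (by omega)
        omega
      rw [← h5]
      exact Nat.dvd_sub h3 h
    exact hp.one_lt.ne' (Nat.dvd_one.1 h4)
  refine ⟨?_, _, hnd, h1⟩
  have hn0 : Fintype.card F ^ 2 - 1 ≠ 0 := by
    intro h0
    rw [h0] at hnd
    exact hnd (dvd_zero p)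
  rw [h1, Nat.factorization_mul (by omega) hn0, Finsupp.add_apply,
    Nat.factorization_eq_zero_of_not_dvd hnd, add_zero, hk.2, hp.factorization_pow]
  simp

/-- The main theorem, given that there is exactly one block of defect zero and that all others
have full defect. -/
theorem main (p : ℕ) [Fact p.Prime] [CharP F p] (hp : p ≠ 2)
    (M : Ideal Cfsg.AlgInt) (hM : Cfsg.IsPModular p M)
    (h : Nat.card {B : Set (IrrCharacter (Matrix.SpecialLinearGroup (Fin 2) F)) //
        IsPBlock M B ∧ blockDefect p B = 0} = 1 ∧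
      ∀ B : Set (IrrCharacter (Matrix.SpecialLinearGroup (Fin 2) F)), IsPBlock M B →
        blockDefect p B = 0 ∨
          blockDefect p B = (Nat.card (Matrix.SpecialLinearGroup (Fin 2) F)).factorization p) :
    (∀ B : Set (Cfsg.IrrCharacter (Matrix.SpecialLinearGroup (Fin 2) F)), Cfsg.IsPBlock M B ↔
      (B = {χ : Cfsg.IrrCharacter (Matrix.SpecialLinearGroup (Fin 2) F) | (χ : Matrix.SpecialLinearGroup (Fin 2) F → ℂ) 1 = (Fintype.card F : ℂ)} ∨
       B = {χ : Cfsg.IrrCharacter (Matrix.SpecialLinearGroup (Fin 2) F) | (χ : Matrix.SpecialLinearGroup (Fin 2) F → ℂ) (-1) = (χ : Matrix.SpecialLinearGroup (Fin 2) F → ℂ) 1 ∧ (χ : Matrix.SpecialLinearGroup (Fin 2) F → ℂ) 1 ≠ (Fintype.card F : ℂ)} ∨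
       B = {χ : Cfsg.IrrCharacter (Matrix.SpecialLinearGroup (Fin 2) F) | (χ : Matrix.SpecialLinearGroup (Fin 2) F → ℂ) (-1) = -(χ : Matrix.SpecialLinearGroup (Fin 2) F → ℂ) 1})) ∧
    Nat.card {B : Set (Cfsg.IrrCharacter (Matrix.SpecialLinearGroup (Fin 2) F)) // Cfsg.IsPBlock M B} = 3 ∧
    ∀ P : Sylow p (Matrix.SpecialLinearGroup (Fin 2) F),
      Cfsg.IsDefectGroup p M {χ : Cfsg.IrrCharacter (Matrix.SpecialLinearGroup (Fin 2) F) | (χ : Matrix.SpecialLinearGroup (Fin 2) F → ℂ) (-1) = (χ : Matrix.SpecialLinearGroup (Fin 2) F → ℂ) 1 ∧ (χ : Matrix.SpecialLinearGroup (Fin 2) F → ℂ) 1 ≠ (Fintype.card F : ℂ)} (P : Subgroup (Matrix.SpecialLinearGroup (Fin 2) F)) ∧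
      Cfsg.IsDefectGroup p M {χ : Cfsg.IrrCharacter (Matrix.SpecialLinearGroup (Fin 2) F) | (χ : Matrix.SpecialLinearGroup (Fin 2) F → ℂ) (-1) = -(χ : Matrix.SpecialLinearGroup (Fin 2) F → ℂ) 1} (P : Subgroup (Matrix.SpecialLinearGroup (Fin 2) F)) := by
  classical
  have hMp := isPrime_of_isPModular hM
  have hpp : p.Prime := Fact.out
  have hfin : Finite (IrrCharacter (Matrix.SpecialLinearGroup (Fin 2) F)) :=
    Cfsg.Agent.Characters.Core.finite_irr
  have hfinS : Finite (Set (IrrCharacter (Matrix.SpecialLinearGroup (Fin 2) F))) := inferInstance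
  obtain ⟨hcardp, m, hm, hcardm⟩ := factorization_card (F := F) p
  have hqpos : 0 < Fintype.card F := Fintype.card_pos
  have hodd : Odd (Fintype.card F) := by
    obtain ⟨k, hk⟩ := FiniteField.card F p
    rw [hk.2]
    exact (hpp.odd_of_ne_two hp).pow
  have hne : (-1 : Matrix.SpecialLinearGroup (Fin 2) F) ≠ 1 := by
    intro h0
    have h1 : (-1 : Matrix (Fin 2) (Fin 2) F) 0 0 = (1 : Matrix (Fin 2) (Fin 2) F) 0 0 :=
      congrFun (congrFun (congrArg Subtype.val h0) 0) 0
    rw [Matrix.neg_apply, Matrix.one_apply_eq] at h1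
    have h2 : (2 : F) = 0 := by linear_combination -h1
    have h3 : ((2 : ℕ) : F) = 0 := by exact_mod_cast h2
    rw [CharP.cast_eq_zero_iff F p] at h3
    exact hp ((Nat.prime_dvd_prime_iff_eq hpp Nat.prime_two).1 h3)
  -- characters of degree divisible by `q`
  have hblk : ∀ χ : IrrCharacter (Matrix.SpecialLinearGroup (Fin 2) F),
      (χ : Matrix.SpecialLinearGroup (Fin 2) F → ℂ) 1 = (Fintype.card F : ℂ) →
        blockOf M (χ : Matrix.SpecialLinearGroup (Fin 2) F → ℂ) = {χ} ∧
          blockDefect p ({χ} : Set (IrrCharacter (Matrix.SpecialLinearGroup (Fin 2) F))) = 0 := by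
    intro χ hχ
    have hdeg : charDegree (χ : Matrix.SpecialLinearGroup (Fin 2) F → ℂ) = Fintype.card F :=
      charDegree_of_eq hχ
    constructor
    · rw [← Cfsg.Agent.S0914.result p M hM χ, hdeg, hcardm, Nat.mul_div_cancel_left _ hqpos]
      exact hm
    · rw [blockDefect_def, Set.image_singleton, csInf_singleton, hdeg, ← hcardp,
        hpp.factorization_pow]
      simp
  -- the Steinberg character
  let S : IrrCharacter (Matrix.SpecialLinearGroup (Fin 2) F) := ⟨st F, isIrr_st⟩
  have hS := hblk S st_one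
  have huniq : ∀ B : Set (IrrCharacter (Matrix.SpecialLinearGroup (Fin 2) F)),
      IsPBlock M B → blockDefect p B = 0 → B = {S} := by
    intro B hB hB0
    have h1 := h.1
    rw [Nat.card_eq_one_iff_unique] at h1
    have h2 := h1.1.elim
      (⟨B, hB, hB0⟩ : {B : Set (IrrCharacter (Matrix.SpecialLinearGroup (Fin 2) F)) //
        IsPBlock M B ∧ blockDefect p B = 0})
      ⟨{S}, ⟨S, hS.1.symm⟩, hS.2⟩
    exact congrArg Subtype.val h2
  have hdegS : ∀ χ : IrrCharacter (Matrix.SpecialLinearGroup (Fin 2) F),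
      (χ : Matrix.SpecialLinearGroup (Fin 2) F → ℂ) 1 = (Fintype.card F : ℂ) ↔ χ = S := by
    intro χ
    constructor
    · intro hχ
      have h1 := hblk χ hχ
      have h2 := huniq {χ} ⟨χ, h1.1.symm⟩ h1.2
      exact Set.singleton_eq_singleton_iff.1 h2
    · rintro rfl
      exact st_one
  have hset : {χ : Cfsg.IrrCharacter (Matrix.SpecialLinearGroup (Fin 2) F) |
      (χ : Matrix.SpecialLinearGroup (Fin 2) F → ℂ) 1 = (Fintype.card F : ℂ)} = {S} := by
    ext χ
    exact hdegS χ
  have hfull : ∀ B : Set (IrrCharacter (Matrix.SpecialLinearGroup (Fin 2) F)),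
      IsPBlock M B → B ≠ {S} →
        blockDefect p B = (Nat.card (Matrix.SpecialLinearGroup (Fin 2) F)).factorization p := by
    intro B hB hne
    exact (h.2 B hB).resolve_left fun h0 => hne (huniq B hB h0)
  -- the two blocks of full defect
  let one : IrrCharacter (Matrix.SpecialLinearGroup (Fin 2) F) := ⟨_, isIrrCharacter_one⟩
  obtain ⟨φ, hφ⟩ := exists_faithful (F := F) hne
  set B0 := blockOf M (one : Matrix.SpecialLinearGroup (Fin 2) F → ℂ) with hB0
  set B1 := blockOf M (φ : Matrix.SpecialLinearGroup (Fin 2) F → ℂ) with hB1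
  have hB0b : IsPBlock M B0 := isPBlock_blockOf one
  have hB1b : IsPBlock M B1 := isPBlock_blockOf φ
  have hone0 : one ∈ B0 := mem_blockOf_self one
  have hφ1 : φ ∈ B1 := mem_blockOf_self φ
  have hnot : ∀ χ : IrrCharacter (Matrix.SpecialLinearGroup (Fin 2) F),
      (χ : Matrix.SpecialLinearGroup (Fin 2) F → ℂ) (-1) = (χ : Matrix.SpecialLinearGroup (Fin 2) F → ℂ) 1 →
      (χ : Matrix.SpecialLinearGroup (Fin 2) F → ℂ) (-1) = -(χ : Matrix.SpecialLinearGroup (Fin 2) F → ℂ) 1 →
      False := by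
    intro χ h1 h2
    have h3 := irr_one_ne_zero χ.2
    rw [h1] at h2
    exact h3 (self_eq_neg.1 h2)
  have hB0S : B0 ≠ {S} := by
    intro h0
    rw [h0] at hone0
    have h1 : one = S := hone0
    have h2 : (one : Matrix.SpecialLinearGroup (Fin 2) F → ℂ) 1 = (Fintype.card F : ℂ) := by
      rw [h1]; exact st_one
    have h3 : (1 : ℂ) = (Fintype.card F : ℂ) := h2
    have h4 : 1 < Fintype.card F := Fintype.one_lt_card
    have h5 : (1 : ℕ) = Fintype.card F := by exact_mod_cast h3
    omega
  have hB1S : B1 ≠ {S} := by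
    intro h0
    rw [h0] at hφ1
    have h1 : φ = S := hφ1
    rw [h1] at hφ
    exact hnot S (by rw [show (S : Matrix.SpecialLinearGroup (Fin 2) F → ℂ) = st F from rfl,
      st_neg_one, st_one]) hφ
  have hB01 : B0 ≠ B1 := by
    intro h0
    rw [← h0] at hφ1
    have h1 := sign_of_sameBlock hp hM one φ (mem_blockOf.1 hφ1) rfl
    exact hnot φ h1 hφ
  obtain ⟨P⟩ : Nonempty (Sylow p (Matrix.SpecialLinearGroup (Fin 2) F)) := inferInstance
  have hcount : Nat.card {B : Set (IrrCharacter (Matrix.SpecialLinearGroup (Fin 2) F)) //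
      IsPBlock M B} = 3 := by
    rw [card_blocks_SL (le_refl 2) p M hM h]
    have h1 : Nat.gcd 2 (Fintype.card F - 1) = 2 := by
      apply Nat.gcd_eq_left
      obtain ⟨k, hk⟩ := hodd
      exact ⟨k, by omega⟩
    rw [h1]
  have hall : ∀ B : Set (IrrCharacter (Matrix.SpecialLinearGroup (Fin 2) F)), IsPBlock M B ↔
      B = {S} ∨ B = B0 ∨ B = B1 := by
    have h1 : ({B | IsPBlock M B} : Set (Set (IrrCharacter (Matrix.SpecialLinearGroup (Fin 2) F)))).ncard = 3 :=
      hcount
    have h2 : ({{S}, B0, B1} : Set (Set (IrrCharacter (Matrix.SpecialLinearGroup (Fin 2) F)))).ncard = 3 := by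
      rw [Set.ncard_eq_three]
      exact ⟨_, _, _, hB0S.symm, hB1S.symm, hB01, rfl⟩
    have h3 : ({{S}, B0, B1} : Set (Set (IrrCharacter (Matrix.SpecialLinearGroup (Fin 2) F)))) ⊆
        {B | IsPBlock M B} := by
      rintro B (rfl | rfl | rfl)
      · exact ⟨S, hS.1.symm⟩
      · exact hB0b
      · exact hB1b
    have h4 := Set.eq_of_subset_of_ncard_le h3 (by rw [h1, h2])
    intro B
    have h5 : B ∈ ({{S}, B0, B1} : Set (Set (IrrCharacter (Matrix.SpecialLinearGroup (Fin 2) F)))) ↔
        B ∈ ({B | IsPBlock M B} : Set (Set (IrrCharacter (Matrix.SpecialLinearGroup (Fin 2) F)))) := by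
      rw [h4]
    exact h5.symm
  -- identification of the two blocks
  have hmemS : ∀ χ : IrrCharacter (Matrix.SpecialLinearGroup (Fin 2) F), χ = S ∨ χ ∈ B0 ∨ χ ∈ B1 := by
    intro χ
    rcases (hall (blockOf M (χ : Matrix.SpecialLinearGroup (Fin 2) F → ℂ))).1 (isPBlock_blockOf χ) with h1 | h1 | h1
    · left
      have h2 := mem_blockOf_self (M := M) χ
      rw [h1] at h2
      exact h2
    · right; left; rw [← h1]; exact mem_blockOf_self χ
    · right; right; rw [← h1]; exact mem_blockOf_self χ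
  have hSB0 : S ∉ B0 := fun h0 => hB0S (isPBlock_eq_of_mem hB0b ⟨S, hS.1.symm⟩ h0 rfl)
  have hSB1 : S ∉ B1 := fun h0 => hB1S (isPBlock_eq_of_mem hB1b ⟨S, hS.1.symm⟩ h0 rfl)
  have hsgn0 : ∀ χ ∈ B0, (χ : Matrix.SpecialLinearGroup (Fin 2) F → ℂ) (-1) =
      (χ : Matrix.SpecialLinearGroup (Fin 2) F → ℂ) 1 := fun χ hχ =>
    sign_of_sameBlock hp hM one χ (mem_blockOf.1 hχ) rfl
  have hsgn1 : ∀ χ ∈ B1, (χ : Matrix.SpecialLinearGroup (Fin 2) F → ℂ) (-1) =
      -(χ : Matrix.SpecialLinearGroup (Fin 2) F → ℂ) 1 := by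
    intro χ hχ
    refine (apply_neg_one χ).resolve_left fun h0 => ?_
    exact hnot φ (sign_of_sameBlock hp hM χ φ (sameBlock_symm (mem_blockOf.1 hχ)) h0) hφ
  have hid0 : {χ : Cfsg.IrrCharacter (Matrix.SpecialLinearGroup (Fin 2) F) | (χ : Matrix.SpecialLinearGroup (Fin 2) F → ℂ) (-1) = (χ : Matrix.SpecialLinearGroup (Fin 2) F → ℂ) 1 ∧ (χ : Matrix.SpecialLinearGroup (Fin 2) F → ℂ) 1 ≠ (Fintype.card F : ℂ)} = B0 := by
    ext χ
    constructor
    · rintro ⟨h1, h2⟩
      rcases hmemS χ with h3 | h3 | h3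
      · exact absurd ((hdegS χ).2 h3) h2
      · exact h3
      · exact absurd (hsgn1 χ h3) (hnot χ h1)
    · intro h1
      refine ⟨hsgn0 χ h1, fun h2 => hSB0 ?_⟩
      rw [← (hdegS χ).1 h2]
      exact h1
  have hid1 : {χ : Cfsg.IrrCharacter (Matrix.SpecialLinearGroup (Fin 2) F) | (χ : Matrix.SpecialLinearGroup (Fin 2) F → ℂ) (-1) = -(χ : Matrix.SpecialLinearGroup (Fin 2) F → ℂ) 1} = B1 := by
    ext χ
    constructor
    · intro h1
      rcases hmemS χ with h3 | h3 | h3
      · exfalso
        refine hnot χ ?_ h1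
        rw [h3, show (S : Matrix.SpecialLinearGroup (Fin 2) F → ℂ) = st F from rfl, st_neg_one, st_one]
      · exact absurd h1 (hnot χ (hsgn0 χ h3))
      · exact h3
    · exact hsgn1 χ
  rw [hset, hid0, hid1]
  refine ⟨hall, hcount, fun P => ⟨?_, ?_⟩⟩
  · exact (FullBlocks.blockDefect_eq_iff hM P hB0b).1 (hfull B0 hB0b hB0S)
  · exact (FullBlocks.blockDefect_eq_iff hM P hB1b).1 (hfull B1 hB1b hB1S)

end Cfsg.Agent.H142.SLTwoBlocks
end
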