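import Mathlib
import Cfsg.Agent.ClassicalGeometry.AutPSL.Main
import Cfsg.Agent.ClassicalGeometry.AutPSL.SylowU
import Cfsg.Agent.H681.GmnRgd
import Cfsg.Agent.H711.Crit_m3
import Cfsg.Agent.FastGrp
import Cfsg.Agent.Prune
set_option linter.all false
prune_inst 0x7f00000000000000000000000000000000000000000000000000000000000000000000000000000000000000000000000000000000000000000000000000000000000000000000000000000000000000003fffffffffffffffffffffffffffbeffbdffffffff
open scoped Cfsg.Agent.FastGrp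

/-!
# The table for `GmnPC` from the strong rows

* `row_of_rowS` : `H712.Gmn.RowS p S → GmnPC.Row p S`;
* `centP_psl2` : in `PSL(2,F)`, `F` of characteristic `p`, a `p'`-automorphism centralising a Sylow `p`-subgroup
  is trivial;
* `table_of` : `Table p` from the theorem "`RowS p S` or `S = PSL(2,3^f)`, `p = 3`".
-/

set_option autoImplicit false
set_option linter.unusedSectionVars false

open Cfsg Subgroup

namespace Cfsg.Agent.H142.GmnTable

open Cfsg.Agent.H142.GmnPC

theorem row_of_rowS {p : ℕ} {S : Type*} [Group S] [Finite S] (hZ : center S = ⊥)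
    (h : Cfsg.Agent.H712.Gmn.RowS p S) : Row p S := by
  have := Cfsg.Agent.H712.Gmn.finite_mulAut (S := S)
  rintro A hA ⟨Q, hQ⟩
  have hQ' : ∀ x ∈ Q, MulAut.conj x ∈ A := fun x hx => hQ ⟨x, hx, rfl⟩
  obtain ⟨x, hx, hn, t, ht, hne⟩ := h A hA Q hQ'
  refine ⟨x, hx, Cfsg.Agent.H712.Gmn.mem_normalizer_of_forall hn, fun hc => hne ?_⟩
  have h1 := mem_centralizer_iff.1 hc _ (hQ' t ht)
  rw [← map_mul, ← map_mul] at h1
  have h2 := Cfsg.Agent.H712.Gmn.conj_injective hZ h1
  rw [← h2]
  group

/-- `CentP` is invariant under isomorphisms -/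
theorem CentP.congr {p : ℕ} {S T : Type*} [Group S] [Group T] (e : S ≃* T) (h : CentP p S) : CentP p T := by
  intro Q α hα hfix
  let E : MulAut S ≃* MulAut T := MulAut.congr e
  have h1 := h (Q.comapOfInjective e.toMonoidHom e.injective (by
      intro y _
      exact ⟨e.symm y, e.apply_symm_apply y⟩)) (E.symm α) ?_ ?_
  · rwa [MulEquiv.map_eq_one_iff] at h1
  · rwa [MulEquiv.orderOf_eq E.symm α]
  · intro x hx
    have h2 : e x ∈ Q := hx
    show e.symm (α (e x)) = x
    rw [hfix _ h2, e.symm_apply_apply]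

section psl

open Matrix Cfsg.Agent.ClassicalGeometry.AutPSL.Root Cfsg.Agent.ClassicalGeometry.AutPSL.Auto
  Cfsg.Agent.ClassicalGeometry.AutPSL.Main Cfsg.Agent.ClassicalGeometry.AutPSL.SylowU

variable {F : Type*} [Field F] [Fintype F] (p : ℕ) [Fact p.Prime] [CharP F p]

theorem centP_aux (β : MulAut (Matrix.ProjectiveSpecialLinearGroup (Fin 2) F)) (hβ : ¬ p ∣ orderOf β)
    (hfix : ∀ x ∈ (upper 2 F).map pr, β x = x) : β = 1 := by
  obtain ⟨A, σ, rfl⟩ := surj_two p β
  have h01 : (0 : Fin 2) ≠ 1 := by decide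
  have h1 : ∀ t : F, pr (cj A (Matrix.SpecialLinearGroup.transvection h01 (σ t))) =
      pr (Matrix.SpecialLinearGroup.transvection h01 t) := by
    intro t
    have h2 := hfix (pr (Matrix.SpecialLinearGroup.transvection h01 t))
      ⟨_, transvection_mem_upper (by decide) t, rfl⟩
    rw [lift_pr, MulAut.mul_apply, fld_transvection] at h2
    exact h2
  have h2 : ∀ t : F, (A : Matrix (Fin 2) (Fin 2) F) * single 0 1 (σ t) = single 0 1 t * (A : Matrix (Fin 2) (Fin 2) F) :=
    fun t => cj_transvection_eq (h1 t)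
  have e10 : (A : Matrix (Fin 2) (Fin 2) F) 1 0 = 0 := by
    have := congrFun (congrFun (h2 1) 0) 0
    simp [Matrix.mul_apply, single_apply] at this
    exact this.symm
  have e00 : ∀ t, (A : Matrix (Fin 2) (Fin 2) F) 0 0 * σ t = t * (A : Matrix (Fin 2) (Fin 2) F) 1 1 := by
    intro t
    have := congrFun (congrFun (h2 t) 0) 1
    simpa [Matrix.mul_apply, Fin.sum_univ_two, single_apply] using this
  have e1 : (A : Matrix (Fin 2) (Fin 2) F) 0 0 = (A : Matrix (Fin 2) (Fin 2) F) 1 1 := by
    simpa using e00 1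
  have hdet : (A : Matrix (Fin 2) (Fin 2) F).det ≠ 0 := by
    have := A.isUnit
    exact ((Matrix.isUnit_iff_isUnit_det _).1 this).ne_zero
  have e2 : (A : Matrix (Fin 2) (Fin 2) F) 0 0 ≠ 0 := by
    intro h
    apply hdet
    rw [Matrix.det_fin_two, e10, h]
    ring
  have hσ : σ = 1 := by
    ext t
    have := e00 t
    rw [← e1, mul_comm t] at this
    exact mul_left_cancel₀ e2 this
  subst hσ
  -- `A` is a scalar times a transvection
  set a := (A : Matrix (Fin 2) (Fin 2) F) 0 0 with ha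
  set b := (A : Matrix (Fin 2) (Fin 2) F) 0 1 with hb
  let X : Matrix.SpecialLinearGroup (Fin 2) F := Matrix.SpecialLinearGroup.transvection h01 (a⁻¹ * b)
  have hXi : X⁻¹ = Matrix.SpecialLinearGroup.transvection h01 (-(a⁻¹ * b)) :=
    Matrix.SpecialLinearGroup.transvection_inv ..
  let C : GL (Fin 2) F := A * Matrix.SpecialLinearGroup.toGL X⁻¹
  have hC : scalar (Fin 2) a = (C : Matrix (Fin 2) (Fin 2) F) := by
    have h3 : (C : Matrix (Fin 2) (Fin 2) F) = (A : Matrix (Fin 2) (Fin 2) F) * (1 + single 0 1 (-(a⁻¹ * b))) := by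
      show (A : Matrix (Fin 2) (Fin 2) F) * (X⁻¹).1 = _
      rw [hXi]
      rfl
    rw [h3]
    ext i j
    fin_cases i <;> fin_cases j
    · simp [Matrix.mul_apply, Matrix.one_apply, ← ha]
    · simp [Matrix.mul_apply, Fin.sum_univ_two, single_apply, Matrix.one_apply, ← ha, ← hb, mul_inv_cancel_left₀ e2]
    · simp [Matrix.mul_apply, Matrix.one_apply, e10]
    · simp [Matrix.mul_apply, Fin.sum_univ_two, single_apply, Matrix.one_apply, e10, ← e1]
  have hA : A = C * Matrix.SpecialLinearGroup.toGL X := by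
    show A = A * Matrix.SpecialLinearGroup.toGL X⁻¹ * Matrix.SpecialLinearGroup.toGL X
    rw [mul_assoc, ← map_mul, inv_mul_cancel, map_one, mul_one]
  have h3 : cj A = MulAut.conj X := by
    rw [hA, map_mul, cj_eq_one_of_scalar hC, one_mul]
    ext g
    rfl
  have h4 : lift (cj A * fld 1) = MulAut.conj (pr X) := by
    rw [map_one, mul_one, h3]
    ext g
    obtain ⟨g, rfl⟩ := pr_surjective g
    rw [lift_pr]
    simp [MulAut.conj_apply]
  rw [h4] at hβ ⊢
  obtain ⟨S, hS⟩ := exists_sylow (F := F) 2 p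
  have hXS : pr X ∈ (S : Subgroup _) := by
    rw [hS]
    exact ⟨X, transvection_mem_upper (by decide) _, rfl⟩
  obtain ⟨k, hk⟩ := S.isPGroup' ⟨pr X, hXS⟩
  have hk' : (MulAut.conj (pr X)) ^ p ^ k = 1 := by
    rw [← map_pow]
    have : (pr X) ^ p ^ k = 1 := congrArg Subtype.val hk
    rw [this, map_one]
  obtain ⟨j, -, hj⟩ := (Nat.dvd_prime_pow Fact.out).1 (orderOf_dvd_of_pow_eq_one hk')
  rw [← orderOf_eq_one_iff, hj]
  rw [hj] at hβ
  rcases Nat.eq_zero_or_pos j with rfl | hj0
  · exact pow_zero p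
  · exact absurd (dvd_pow_self p hj0.ne') hβ

theorem centP_psl2 : CentP p (Matrix.ProjectiveSpecialLinearGroup (Fin 2) F) := by
  intro Q α hα hfix
  obtain ⟨S, hS⟩ := exists_sylow (F := F) 2 p
  obtain ⟨g, hg⟩ := MulAction.exists_smul_eq (Matrix.ProjectiveSpecialLinearGroup (Fin 2) F) S Q
  have h1 : (MulAut.conj g)⁻¹ * α * MulAut.conj g = 1 := by
    apply centP_aux p
    · have h2 : orderOf ((MulAut.conj g)⁻¹ * α * MulAut.conj g) = orderOf α := by
        have := orderOf_injective (MulAut.conj (MulAut.conj g)⁻¹).toMonoidHom (MulEquiv.injective _) α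
        simpa [MulAut.conj_apply] using this
      rwa [h2]
    · intro x hx
      rw [← hS] at hx
      have h3 : MulAut.conj g x ∈ Q := by
        rw [← hg]
        exact Subgroup.smul_mem_pointwise_smul x (MulAut.conj g) _ hx
      rw [MulAut.mul_apply, MulAut.mul_apply, hfix _ h3]
      exact (MulAut.conj g).symm_apply_apply x
  have h2 : α = MulAut.conj g * ((MulAut.conj g)⁻¹ * α * MulAut.conj g) * (MulAut.conj g)⁻¹ := by group
  rw [h2, h1]
  group

end psl

theorem center_eq_bot {S : Type*} [Group S] [IsSimpleGroup S] (hS : ¬ IsMulCommutative S) : center S = ⊥ := by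
  rcases (inferInstance : (center S).Normal).eq_bot_or_eq_top with h | h
  · exact h
  · exact absurd ⟨⟨fun a b => mem_center_iff.1 (h ▸ mem_top b : b ∈ center S) a⟩⟩ hS

/-- **The table** from the strong rows. -/
theorem table_of.{u} {p : ℕ} [Fact p.Prime]
    (h : ∀ (S : Type u) [Group S] [Finite S] [IsSimpleGroup S], ¬ IsMulCommutative S → p ∣ Nat.card S →
      Cfsg.Agent.H712.Gmn.RowS p S ∨ ∃ (F : Type) (_ : Field F) (_ : Fintype F), CharP F p ∧
        Nonempty (S ≃* Matrix.ProjectiveSpecialLinearGroup (Fin 2) F)) : Table.{u} p := by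
  intro S _ _ _ hS hp
  rcases h S hS hp with h1 | ⟨F, _, _, hF, ⟨e⟩⟩
  · exact Or.inl (row_of_rowS (center_eq_bot hS) h1)
  · exact Or.inr (CentP.congr e.symm (centP_psl2 p))

end Cfsg.Agent.H142.GmnTable
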