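import Mathlib
import Cfsg.Prelude.Def_Characters
import Cfsg.Prelude.Def_Blocks
import Cfsg.Agent.H681.GmnRgd
import Cfsg.Agent.H686.CharKit
import Cfsg.Agent.Classification.BGIsometry
import Cfsg.Agent.Blocks.FullDefect
import Cfsg.Agent.CharactersDeep.ModCongr
import Cfsg.Agent.Blocks.CyclicUpper
import Cfsg.Agent.S0967
import Cfsg.Agent.Prune
set_option linter.all false
prune_inst 0x7f00000000000000000000000000000000000000000000000000000000000000000000000000000000000000000000000000000000000000000000000000000000000000000000000000000000000000003fffffffffffffffffffffffffffbeffbdffffffff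
open scoped Cfsg.Agent.FastGrp

/-!
# From self-normalising Sylow subgroups to `N_G(P) = P C_G(P)`: characters of the principal block

* `Corr P`: the natural correspondence `Irr_{p'}(G) → Lin(P)` (the conclusion of S4936);
* `main`: if the Sylow `p`-subgroups of `G/O_{p'}(G)` are self-normalising and satisfy `Corr`, then the
  conclusion of S4951 holds for `G`.
-/

set_option autoImplicit false
set_option linter.unusedSectionVars false

open Cfsg Cfsg.Agent.Characters Cfsg.Agent.Blocks.Local Cfsg.Agent.Blocks.Basic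
  Cfsg.Agent.Blocks.FullDefect

namespace Cfsg.Agent.H142.GmnBlock

universe u

/-- the natural correspondence `Irr_{p'}(G) → Lin(P)` -/
def Corr {G : Type u} [Group G] [Fintype G] (p : ℕ) (P : Subgroup G) [Fintype ↥P] : Prop :=
    (∀ χ : Cfsg.IrrCharacter G, ¬ p ∣ Cfsg.charDegree (χ : G → ℂ) →
        ∃! μ : Cfsg.IrrCharacter ↥P, Cfsg.charDegree (μ : ↥P → ℂ) = 1 ∧
          Cfsg.classInner (fun x : ↥P => (χ : G → ℂ) x) (μ : ↥P → ℂ) ≠ 0) ∧
    (∀ χ : Cfsg.IrrCharacter G, ¬ p ∣ Cfsg.charDegree (χ : G → ℂ) → ∀ μ : Cfsg.IrrCharacter ↥P,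
        Cfsg.charDegree (μ : ↥P → ℂ) = 1 →
          Cfsg.classInner (fun x : ↥P => (χ : G → ℂ) x) (μ : ↥P → ℂ) ≠ 0 →
            Cfsg.classInner (fun x : ↥P => (χ : G → ℂ) x) (μ : ↥P → ℂ) = 1) ∧
    (∀ μ : Cfsg.IrrCharacter ↥P, Cfsg.charDegree (μ : ↥P → ℂ) = 1 →
        ∃! χ : Cfsg.IrrCharacter G, ¬ p ∣ Cfsg.charDegree (χ : G → ℂ) ∧
          Cfsg.classInner (fun x : ↥P => (χ : G → ℂ) x) (μ : ↥P → ℂ) ≠ 0)

section general

variable {G : Type u} [Group G] [Finite G] {p : ℕ} [Fact p.Prime] {M : Ideal AlgInt}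

/-- at `p`-elements irreducible characters are congruent to their degree -/
theorem mem_of_pElement (hM : IsPModular p M) (χ : IrrCharacter G) {x : G} (hx : ∃ k : ℕ, orderOf x = p ^ k) :
    MemLocalIdeal M ((χ : G → ℂ) x - (χ : G → ℂ) 1) := by
  have h1 := Cfsg.Agent.CharactersDeep.ModCongr.memLocalIdeal_character_sub hM χ.2 x x
    ⟨1, mul_one x, Commute.one_right x, hx, by
      rw [orderOf_one]
      exact (Fact.out : p.Prime).one_lt.not_ge ∘ Nat.le_of_dvd one_pos⟩
  rwa [inv_mul_cancel] at h1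

/-- a character of `p'`-degree congruent to its degree on `C_G(P)` lies in the principal block -/
theorem mem_principal (hM : IsPModular p M) (P : Sylow p G) (χ : IrrCharacter G)
    (hχ : ¬ p ∣ charDegree (χ : G → ℂ))
    (h : ∀ g ∈ Subgroup.centralizer ((P : Subgroup G) : Set G),
      MemLocalIdeal M ((χ : G → ℂ) g - (χ : G → ℂ) 1)) : χ ∈ principalBlock M G := by
  have hMp : M.IsPrime := isPrime_of_isPModular hM
  show SameBlock M (fun _ => 1) (χ : G → ℂ)
  intro g
  have h0 : (χ : G → ℂ) 1 ≠ 0 := irr_one_ne_zero χ.2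
  have e1 : centralChar (fun _ : G => (1 : ℂ)) g - centralChar (χ : G → ℂ) g =
      ((Subgroup.centralizer ({g} : Set G)).index : ℂ) * (((χ : G → ℂ) 1 - (χ : G → ℂ) g) * ((χ : G → ℂ) 1)⁻¹) := by
    rw [centralChar_def, centralChar_def]
    field_simp
  rw [e1]
  have hinv := memLocalRing_inv_one hM χ hχ
  have hloc : MemLocalRing M (((χ : G → ℂ) 1 - (χ : G → ℂ) g) * ((χ : G → ℂ) 1)⁻¹) :=
    memLocalRing_mul (memLocalRing_sub (memLocalRing_irr χ 1) (memLocalRing_irr χ g)) hinv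
  by_cases hd : p ∣ (Subgroup.centralizer ({g} : Set G)).index
  · exact memLocalIdeal_mul_right ((memLocalIdeal_natCast_iff hM _).2 hd) hloc
  · obtain ⟨x, hx⟩ := exists_conj_mem_centralizer P hd
    have h2 := h _ hx
    rw [irr_conj χ.2] at h2
    exact memLocalIdeal_mul_left (memLocalRing_natCast _)
      (memLocalIdeal_mul_right (memLocalIdeal_sub_comm h2) hinv)

end general

section comp

variable {N Q : Type*} [Group N] [Group Q] [Fintype N] [Fintype Q]

/-- constituents of an inflated class function are inflated -/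
theorem exists_of_inner_comp (π : N →* Q) (hπ : Function.Surjective π) {f : Q → ℂ}
    (hf : IsClassFunction Q f) (μ : IrrCharacter N) (h : classInner (f ∘ π) (μ : N → ℂ) ≠ 0) :
    ∃ ν : IrrCharacter Q, (μ : N → ℂ) = (ν : Q → ℂ) ∘ π ∧
      classInner (f ∘ π) (μ : N → ℂ) = classInner f (ν : Q → ℂ) := by
  classical
  have := Core.finite_irr (G := Q)
  have := Fintype.ofFinite (IrrCharacter Q)
  have h1 := Core.classFunction_eq_sum hf
  have h2 : f ∘ π = ∑ ν : IrrCharacter Q, classInner f (ν : Q → ℂ) • ((ν : Q → ℂ) ∘ π) := by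
    funext x
    rw [Function.comp_apply]
    conv_lhs => rw [h1]
    simp [Finset.sum_apply]
  have h3 : classInner (f ∘ π) (μ : N → ℂ) =
      ∑ ν : IrrCharacter Q, classInner f (ν : Q → ℂ) * classInner ((ν : Q → ℂ) ∘ π) (μ : N → ℂ) := by
    conv_lhs => rw [h2]
    rw [Core.classInner_sum_left]
    refine Finset.sum_congr rfl fun ν _ => ?_
    rw [Core.classInner_smul_left]
  rw [h3] at h
  obtain ⟨ν, -, hν⟩ := Finset.exists_ne_zero_of_sum_ne_zero h
  have h4 : ((ν : Q → ℂ) ∘ π) = (μ : N → ℂ) := by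
    by_contra hne
    apply hν
    rw [Core.classInner_irr_ne (Core.isIrr_comp π hπ ν.2) μ.2 hne, mul_zero]
  refine ⟨ν, h4.symm, ?_⟩
  rw [← h4]
  exact Classification.BGIsometry.classInner_comp' π hπ f ν

/-- a character of the principal block is trivial on the kernel of a surjection with `p'`-kernel -/
theorem exists_of_mem_principal {p : ℕ} [Fact p.Prime] {M : Ideal AlgInt} (hM : IsPModular p M)
    (π : N →* Q) (hπ : Function.Surjective π) (hk : ¬ p ∣ Nat.card π.ker) (μ : IrrCharacter N)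
    (hμ : μ ∈ principalBlock M N) : ∃ ν : IrrCharacter Q, (μ : N → ℂ) = (ν : Q → ℂ) ∘ π := by
  obtain ⟨ψ, hψ, -⟩ := S0967.result p M hM π.ker hk
    ⟨fun _ => 1, isIrrCharacter_one⟩ μ hμ
  let e := QuotientGroup.quotientKerEquivOfSurjective π hπ
  refine ⟨⟨(ψ : N ⧸ π.ker → ℂ) ∘ e.symm.toMonoidHom, Core.isIrr_comp e.symm.toMonoidHom e.symm.surjective ψ.2⟩, ?_⟩
  rw [hψ]
  funext x
  show (ψ : N ⧸ π.ker → ℂ) (QuotientGroup.mk x) = (ψ : N ⧸ π.ker → ℂ) (e.symm (π x))
  have h1 : e.symm (π x) = (QuotientGroup.mk x : N ⧸ π.ker) := by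
    rw [MulEquiv.symm_apply_eq]
    rfl
  rw [h1]

theorem charDegree_comp (π : N →* Q) (ν : Q → ℂ) : charDegree (ν ∘ π) = charDegree ν := by
  rw [charDegree, charDegree, Function.comp_apply, map_one]

end comp

/-- The reduction of S4951 to the case of self-normalising Sylow subgroups. -/
theorem main {G : Type u} [Group G] [Fintype G] (p : ℕ) [Fact p.Prime] (M : Ideal AlgInt)
    (hM : IsPModular p M) (P : Sylow p G) (O : Subgroup G) [O.Normal] (hO : ¬ p ∣ Nat.card O)
    (N : Subgroup G) [Fintype ↥N] (hPN : (P : Subgroup G) ≤ N)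
    (hCN : Subgroup.centralizer ((P : Subgroup G) : Set G) ≤ N)
    (Pb : Subgroup (G ⧸ O)) [Fintype ↥Pb] [Fintype (G ⧸ O)] (hPb : IsPGroup p Pb)
    (hNP : N.map (QuotientGroup.mk' O) = Pb) (hCorr : Corr p Pb) :
    (∀ χ : Cfsg.IrrCharacter G, χ ∈ Cfsg.principalBlock M G → ¬ p ∣ Cfsg.charDegree (χ : G → ℂ) →
        (∃! μ : Cfsg.IrrCharacter ↥N, Cfsg.charDegree (μ : ↥N → ℂ) = 1 ∧
            Cfsg.classInner (fun x : ↥N => (χ : G → ℂ) x) (μ : ↥N → ℂ) ≠ 0) ∧
        (∀ μ : Cfsg.IrrCharacter ↥N, Cfsg.classInner (fun x : ↥N => (χ : G → ℂ) x) (μ : ↥N → ℂ) ≠ 0 →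
            (Cfsg.charDegree (μ : ↥N → ℂ) = 1 ∧ μ ∈ Cfsg.principalBlock M ↥N ∧
              Cfsg.classInner (fun x : ↥N => (χ : G → ℂ) x) (μ : ↥N → ℂ) = 1) ∨
            p ∣ Cfsg.charDegree (μ : ↥N → ℂ))) ∧
    (∀ μ : Cfsg.IrrCharacter ↥N, μ ∈ Cfsg.principalBlock M ↥N → Cfsg.charDegree (μ : ↥N → ℂ) = 1 →
        ∃! χ : Cfsg.IrrCharacter G, χ ∈ Cfsg.principalBlock M G ∧ ¬ p ∣ Cfsg.charDegree (χ : G → ℂ) ∧
          Cfsg.classInner (fun x : ↥N => (χ : G → ℂ) x) (μ : ↥N → ℂ) ≠ 0) := by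
  classical
  obtain ⟨hC1, hC2, hC3⟩ := hCorr
  have hpp : p.Prime := Fact.out
  -- the projection
  let π : N →* Pb := ((QuotientGroup.mk' O).comp N.subtype).codRestrict Pb fun x => by
    rw [← hNP]
    exact ⟨x, x.2, rfl⟩
  have hπv : ∀ x : N, ((π x : Pb) : G ⧸ O) = QuotientGroup.mk (x : G) := fun x => rfl
  have hπ : Function.Surjective π := by
    rintro ⟨y, hy⟩
    rw [← hNP] at hy
    obtain ⟨x, hx, rfl⟩ := hy
    exact ⟨⟨x, hx⟩, rfl⟩
  have hker : ¬ p ∣ Nat.card π.ker := by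
    intro h
    apply hO
    refine h.trans ?_
    have h1 : π.ker = O.subgroupOf N := by
      ext x
      rw [MonoidHom.mem_ker, Subgroup.mem_subgroupOf, Subtype.ext_iff, hπv]
      exact QuotientGroup.eq_one_iff _
    rw [h1]
    have h2 := Subgroup.card_comap_dvd_of_injective O N.subtype N.subtype_injective
    exact h2
  -- restriction of an inflated character
  have hres : ∀ (χ : IrrCharacter G) (χb : IrrCharacter (G ⧸ O)),
      (χ : G → ℂ) = (χb : G ⧸ O → ℂ) ∘ QuotientGroup.mk →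
        (fun x : ↥N => (χ : G → ℂ) x) = (fun x : ↥Pb => (χb : G ⧸ O → ℂ) x) ∘ π := by
    intro χ χb h
    funext x
    rw [h]
    rfl
  have hcl : ∀ χb : IrrCharacter (G ⧸ O), IsClassFunction ↥Pb (fun x : ↥Pb => (χb : G ⧸ O → ℂ) x) := by
    intro χb g h
    exact Core.isIrr_isClassFunction χb.2 _ _
  have hdegG : ∀ (χ : IrrCharacter G) (χb : IrrCharacter (G ⧸ O)),
      (χ : G → ℂ) = (χb : G ⧸ O → ℂ) ∘ QuotientGroup.mk →
        charDegree (χ : G → ℂ) = charDegree (χb : G ⧸ O → ℂ) := by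
    intro χ χb h
    rw [h]
    exact charDegree_comp (QuotientGroup.mk' O) _
  have hinf : ∀ χ : IrrCharacter G, χ ∈ principalBlock M G →
      ∃ χb : IrrCharacter (G ⧸ O), (χ : G → ℂ) = (χb : G ⧸ O → ℂ) ∘ QuotientGroup.mk := by
    intro χ hχ
    obtain ⟨ψ, hψ, -⟩ := S0967.result p M hM O hO ⟨fun _ => 1, isIrrCharacter_one⟩ χ hχ
    exact ⟨ψ, hψ⟩
  constructor
  · intro χ hχB hχd
    obtain ⟨χb, hχb⟩ := hinf χ hχB
    rw [hdegG χ χb hχb] at hχd
    rw [hres χ χb hχb]
    constructor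
    · obtain ⟨ν, ⟨hν1, hν2⟩, hν3⟩ := hC1 χb hχd
      refine ⟨⟨(ν : Pb → ℂ) ∘ π, Core.isIrr_comp π hπ ν.2⟩, ⟨?_, ?_⟩, ?_⟩
      · exact (charDegree_comp π _).trans hν1
      · show classInner _ ((ν : Pb → ℂ) ∘ π) ≠ 0
        rwa [Classification.BGIsometry.classInner_comp' π hπ]
      · rintro μ ⟨hμ1, hμ2⟩
        obtain ⟨ν', hν'1, hν'2⟩ := exists_of_inner_comp π hπ (hcl χb) μ hμ2
        have h1 : ν' = ν := by
          apply hν3
          refine ⟨?_, ?_⟩
          · show charDegree (ν' : Pb → ℂ) = 1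
            rw [← charDegree_comp π, ← hν'1]
            exact hμ1
          · show classInner _ (ν' : Pb → ℂ) ≠ 0
            rw [← hν'2]
            exact hμ2
        apply Subtype.ext
        rw [hν'1, h1]
    · intro μ hμ
      obtain ⟨ν, hν1, hν2⟩ := exists_of_inner_comp π hπ (hcl χb) μ hμ
      have hdeg : charDegree (μ : N → ℂ) = charDegree (ν : Pb → ℂ) := by
        rw [hν1]; exact charDegree_comp π _
      by_cases hν : charDegree (ν : Pb → ℂ) = 1
      · left
        refine ⟨hdeg.trans hν, ?_, ?_⟩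
        · -- linear characters inflated from `Pb` are in the principal block
          refine mem_principal hM (P.subtype hPN) μ ?_ ?_
          · rw [hdeg, hν]
            exact hpp.one_lt.not_ge ∘ Nat.le_of_dvd one_pos
          · intro g _
            rw [hν1]
            have := mem_of_pElement hM ν (x := π g) (hPb.exists_orderOf_eq_pow (π g))
            rw [← map_one π] at this
            exact this
        · rw [hν2]
          exact hC2 χb hχd ν hν (hν2 ▸ hμ)
      · right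
        rw [hdeg]
        have h1 : charDegree (ν : Pb → ℂ) ∣ Nat.card Pb := Blocks.CyclicUpper.charDegree_dvd ν.2
        obtain ⟨k, hk⟩ := hPb.exists_card_eq
        rw [hk] at h1
        obtain ⟨j, hj, hj2⟩ := (Nat.dvd_prime_pow hpp).1 h1
        rw [hj2] at hν ⊢
        have hj0 : j ≠ 0 := by
          rintro rfl
          exact hν (pow_zero p)
        exact dvd_pow_self p hj0
  · intro μ hμB hμd
    obtain ⟨ν, hν⟩ := exists_of_mem_principal hM π hπ hker μ hμB
    have hνd : charDegree (ν : Pb → ℂ) = 1 := by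
      rw [← charDegree_comp π, ← hν]
      exact hμd
    obtain ⟨χb, ⟨hχ1, hχ2⟩, hχ3⟩ := hC3 ν hνd
    let χ : IrrCharacter G := ⟨(χb : G ⧸ O → ℂ) ∘ QuotientGroup.mk' O,
      Core.isIrr_comp _ (QuotientGroup.mk'_surjective O) χb.2⟩
    have hχb : (χ : G → ℂ) = (χb : G ⧸ O → ℂ) ∘ QuotientGroup.mk := rfl
    refine ⟨χ, ⟨?_, ?_, ?_⟩, ?_⟩
    · refine mem_principal hM P χ ?_ ?_
      · rw [hdegG χ χb hχb]
        exact hχ1
      · intro g hg
        have h1 := hPb.exists_orderOf_eq_pow (π ⟨g, hCN hg⟩)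
        have h2 : ∃ k : ℕ, orderOf (QuotientGroup.mk g : G ⧸ O) = p ^ k := by
          obtain ⟨k, hk⟩ := h1
          refine ⟨k, ?_⟩
          rw [← hk, ← Subgroup.orderOf_coe]
          rfl
        exact mem_of_pElement hM χb h2
    · rw [hdegG χ χb hχb]
      exact hχ1
    · rw [hres χ χb hχb, hν, Classification.BGIsometry.classInner_comp' π hπ]
      exact hχ2
    · rintro χ' ⟨hχ'B, hχ'd, hχ'i⟩
      obtain ⟨χb', hχb'⟩ := hinf χ' hχ'B
      have h1 : χb' = χb := by
        apply hχ3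
        refine ⟨?_, ?_⟩
        · show ¬ p ∣ charDegree (χb' : G ⧸ O → ℂ)
          rw [← hdegG χ' χb' hχb']
          exact hχ'd
        · rw [hres χ' χb' hχb', hν, Classification.BGIsometry.classInner_comp' π hπ] at hχ'i
          exact hχ'i
      apply Subtype.ext
      rw [hχb', h1]
      rfl

/-- S4951 from the table and S4936 -/
theorem final {G : Type u} [Group G] [Fintype G] (p : ℕ) [Fact p.Prime] (M : Ideal AlgInt)
    (hM : IsPModular p M) (hT : GmnPC.Table.{u} p)
    (h4936 : ∀ {X : Type u} [Group X] [Fintype X] (Q : Sylow p X) [Fintype ↥(Q : Subgroup X)],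
      Subgroup.normalizer ((Q : Subgroup X) : Set X) = (Q : Subgroup X) → Corr p (Q : Subgroup X))
    (P : Sylow p G) [Fintype ↥(Subgroup.normalizer ((P : Subgroup G) : Set G))]
    (hdec : Subgroup.normalizer ((P : Subgroup G) : Set G) =
      (P : Subgroup G) ⊔ Subgroup.centralizer ((P : Subgroup G) : Set G)) :
    (∀ χ : Cfsg.IrrCharacter G, χ ∈ Cfsg.principalBlock M G → ¬ p ∣ Cfsg.charDegree (χ : G → ℂ) →
        (∃! μ : Cfsg.IrrCharacter ↥(Subgroup.normalizer ((P : Subgroup G) : Set G)), Cfsg.charDegree (μ : ↥(Subgroup.normalizer ((P : Subgroup G) : Set G)) → ℂ) = 1 ∧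
            Cfsg.classInner (fun x : ↥(Subgroup.normalizer ((P : Subgroup G) : Set G)) => (χ : G → ℂ) x) (μ : ↥(Subgroup.normalizer ((P : Subgroup G) : Set G)) → ℂ) ≠ 0) ∧
        (∀ μ : Cfsg.IrrCharacter ↥(Subgroup.normalizer ((P : Subgroup G) : Set G)), Cfsg.classInner (fun x : ↥(Subgroup.normalizer ((P : Subgroup G) : Set G)) => (χ : G → ℂ) x) (μ : ↥(Subgroup.normalizer ((P : Subgroup G) : Set G)) → ℂ) ≠ 0 →
            (Cfsg.charDegree (μ : ↥(Subgroup.normalizer ((P : Subgroup G) : Set G)) → ℂ) = 1 ∧ μ ∈ Cfsg.principalBlock M ↥(Subgroup.normalizer ((P : Subgroup G) : Set G)) ∧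
              Cfsg.classInner (fun x : ↥(Subgroup.normalizer ((P : Subgroup G) : Set G)) => (χ : G → ℂ) x) (μ : ↥(Subgroup.normalizer ((P : Subgroup G) : Set G)) → ℂ) = 1) ∨
            p ∣ Cfsg.charDegree (μ : ↥(Subgroup.normalizer ((P : Subgroup G) : Set G)) → ℂ))) ∧
    (∀ μ : Cfsg.IrrCharacter ↥(Subgroup.normalizer ((P : Subgroup G) : Set G)), μ ∈ Cfsg.principalBlock M ↥(Subgroup.normalizer ((P : Subgroup G) : Set G)) → Cfsg.charDegree (μ : ↥(Subgroup.normalizer ((P : Subgroup G) : Set G)) → ℂ) = 1 →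
        ∃! χ : Cfsg.IrrCharacter G, χ ∈ Cfsg.principalBlock M G ∧ ¬ p ∣ Cfsg.charDegree (χ : G → ℂ) ∧
          Cfsg.classInner (fun x : ↥(Subgroup.normalizer ((P : Subgroup G) : Set G)) => (χ : G → ℂ) x) (μ : ↥(Subgroup.normalizer ((P : Subgroup G) : Set G)) → ℂ) ≠ 0) := by
  classical
  let O : Subgroup G := pPrimeCore p G
  have hpp : p.Prime := Fact.out
  have : Fintype (G ⧸ O) := Fintype.ofFinite _
  let Pb : Sylow p (G ⧸ O) := P.mapSurjective (QuotientGroup.mk'_surjective O)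
  have hPb : (Pb : Subgroup (G ⧸ O)) = (P : Subgroup G).map (QuotientGroup.mk' O) := rfl
  have : Fintype ↥(Pb : Subgroup (G ⧸ O)) := Fintype.ofFinite _
  have hself := GmnPC.main hT P hdec.le O rfl
  have hO : ¬ p ∣ Nat.card O := (Nat.Prime.coprime_iff_not_dvd hpp).1 (Lib.Cores.pPrimeCore_coprime p).symm
  refine main p M hM P O hO _ Subgroup.le_normalizer (Subgroup.centralizer_le_normalizer _) (Pb : Subgroup (G ⧸ O))
    Pb.2 ?_ (h4936 Pb hself)
  rw [hdec, Subgroup.map_sup, ← hPb]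
  apply sup_eq_left.2
  rintro _ ⟨c, hc, rfl⟩
  rw [← hself]
  apply Subgroup.centralizer_le_normalizer
  rw [Subgroup.mem_centralizer_iff]
  rintro _ ⟨x, hx, rfl⟩
  rw [← map_mul, ← map_mul, Subgroup.mem_centralizer_iff.1 hc x hx]

end Cfsg.Agent.H142.GmnBlock

private theorem dce_45992a4e0989 : _root_.True := by
  try have : _root_.True := by simp only [_root_.Cfsg.charDegree.eq_1]
  exact _root_.True.intro
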