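import Mathlib
import Cfsg.Agent.H793.PC.Pi_m3
import Cfsg.Agent.H663.GmnPslA
import Cfsg.Agent.CpAut.Psl
import Cfsg.Agent.ClassicalGeometry.AutPSL.SylowU
import Cfsg.Agent.H711.Crit_m3
import Cfsg.Agent.S4765
import Cfsg.Agent.S0173
import Cfsg.Agent.ClassicalGeometry.SLTwoFour
import Cfsg.Agent.H626.PrincipalOver
import Cfsg.Agent.Blocks.CyclicUpper
import Cfsg.Agent.CharactersDeep.NormalInd
import Cfsg.Agent.CharactersDeep.IndFun
import Cfsg.Agent.H712.GmnMin
import Cfsg.Agent.H670.PSing
import Cfsg.Agent.H142.GmnBlock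
import Cfsg.Agent.H142.GmnTable
import Cfsg.Agent.FastGrp
import Cfsg.Agent.Prune
set_option linter.all false

section
prune_inst 0x7ff0bdfb8fe8a5dfdfff7e3ffed5dffdf1e8efffefdffbcbffe0e99fafdf6b02f945fb859fea5afe1ed762b620f87b53ffffdeffea63dc7ffffd5ff41ffbffcfedf6b50811dc8cb40f340fff03f0778e6f3fffffffffffffffffffffffffffbefffffbfeffff

-- part: H663/GmnMain
section
set_option linter.all false
open scoped Cfsg.Agent.FastGrp

-- part: H663/GmnSec
section
/-!
# Non-abelian minimal normal subgroups over a self-normalizing Sylow subgroup: conclusion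

`sec_of_exc` : if all the simple factors of the minimal normal subgroup `N` satisfy `Exc`, then `N`
satisfies the hypotheses `Sec` of the inductive step.
-/

set_option autoImplicit false
set_option linter.style.haveILetI false
set_option linter.unusedSectionVars false
open Cfsg

namespace Cfsg.Agent.H663.GmnStep

open Cfsg.Agent.Characters.Core Cfsg.Agent.Characters.Clifford Cfsg.Agent.H672
open scoped ComplexConjugate

universe u v w

theorem mult_comp_equiv {A : Type v} [Group A] [Finite A] {B : Type w} [Group B] [Finite B]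
    {G : Type u} [Group G] (σ : A ≃* B) (f : B →* G) (χ : G → ℂ) (θ : B → ℂ) :
    mult (f.comp σ.toMonoidHom) χ (θ ∘ σ) = mult f χ θ := by
  classical
  letI := Fintype.ofFinite A
  letI := Fintype.ofFinite B
  rw [mult_eq, mult_eq, ← classInner_comp_mulEquiv σ (χ ∘ f) θ]
  rfl

/-- Reindexing by an automorphism of `B` compatible with a map of `G`. -/
theorem mult_reindex {B : Type w} [Group B] [Finite B] {G : Type u} [Group G] (σ : B ≃* B)
    (c : G ≃* G) (f : B →* G) (hf : ∀ y, f (σ y) = c (f y)) (χ : G → ℂ) (ν : B →* ℂˣ) :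
    mult f (χ ∘ c) (lf (ν.comp σ.toMonoidHom)) = mult f χ (lf ν) := by
  rw [← mult_comp_equiv σ f χ (lf ν)]
  classical
  letI := Fintype.ofFinite B
  rw [mult_eq, mult_eq]
  congr 1
  funext y
  show χ (c (f y)) = χ (f (σ y))
  rw [hf]

section
variable {G : Type u} [Group G] [Finite G] {N : Subgroup G} [hN : N.Normal] {m : ℕ}
  {T : Fin m → Subgroup G} {e : N ≃* ∀ i, T i} {p : ℕ} [hp : Fact p.Prime] {R : Subgroup G}
  {A : ∀ i, Subgroup (MulAut (T i))}

/-- The main result of this file. -/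
theorem sec_of_exc (hc : IsCoord e) (hj : SelfNorm p R.subtype) {d : ℕ}
    (hE : ∀ i, Exc p (T i) d)
    (hA : ∀ i a, a ∈ A i → ∃ x ∈ R, ∀ t : T i, (a t : G) = x * t * x⁻¹)
    (hgood : ∀ i, GoodA p (jQ R.subtype (T i)) (A i)) : Sec p R.subtype N := by
  classical
  have hRr : R.subtype.range = R := R.range_subtype
  have hRp : IsPGroup p R := by
    have := hj.pgroup
    rwa [hRr] at this
  have hRi : ¬ p ∣ R.index := by
    have := hj.index
    rwa [hRr] at this
  have hmem := mem_R hc hRp hRi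
  have hall : ∀ (θ : N → ℂ) (f : ∀ i, T i → ℂ), ¬ p ∣ charDegree θ → Dec e θ f →
      R.subtype.range ≤ inertia N θ → ∀ i, EE d (f i) := by
    intro θ f hdθ hd hi i
    rw [hRr] at hi
    exact all_EE hc hRp hRi hE hA hgood hdθ hd hi i
  refine ⟨?_, ?_, ?_, ?_, ?_⟩
  · -- mult_one
    intro θ hθ hdθ hi ν hν ho
    obtain ⟨f, hd⟩ := exists_dec (e := e) hθ
    rw [mult_prod hc hmem hd]
    refine Finset.prod_eq_one fun i _ => ?_
    exact (hE i).mult_one _ _ (syl_q hc hRp hRi i) (f i) (hall θ f hdθ hd hi i) _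
      (over_comp_of_over hc hmem hd ho i)
  · -- unique
    intro θ hθ hdθ hi ν ν' hν hν' ho ho'
    obtain ⟨f, hd⟩ := exists_dec (e := e) hθ
    ext x
    rw [lin_prod hc hmem ν' x, lin_prod hc hmem ν x]
    congr 1
    refine Finset.prod_congr rfl fun i _ => ?_
    rw [nuc_unique hc hRp hRi hE hA hgood i (hall θ f hdθ hd hi i) hν hν'
      (over_comp_of_over hc hmem hd ho i) (over_comp_of_over hc hmem hd ho' i)]
  · -- inj
    intro θ θ' hθ hθ' hdθ hdθ' hi hi' ν hν ho ho'
    obtain ⟨f, hd⟩ := exists_dec (e := e) hθ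
    obtain ⟨f', hd'⟩ := exists_dec (e := e) hθ'
    exact eq_of_all hc hRp hRi hE hd hd' (hall θ f hdθ hd hi) (hall θ' f' hdθ' hd' hi') ho ho'
  · -- stab
    intro θ hθ hdθ hi g ν hν ho
    obtain ⟨f, hd⟩ := exists_dec (e := e) hθ
    have hf := hall θ f hdθ hd hi
    set ϑ := θ ∘ (MulAut.conjNormal g : MulAut N) with hϑ
    have hd' : Dec e ϑ (fun i => f (hc.sg g i) ∘ hc.ci g i) := hd.conj' hc g
    have hf' : ∀ i, EE d (f (hc.sg g i) ∘ hc.ci g i) := fun i => (hf _).comp (hc.ci g i)
    rintro _ ⟨x, rfl⟩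
    rw [mem_inertia]
    have hd'' := hd'.conj' hc (x : G)
    refine eq_of_all hc hRp hRi hE hd'' hd' (fun i => (hf' _).comp (hc.ci (x : G) i)) hf' ?_ ho
    rw [over_iff_mult] at ho ⊢
    rw [← mult_reindex (MulAut.conjNormal x : MulAut (N.comap R.subtype))
      (MulAut.conjNormal (x : G) : MulAut N) (jQ R.subtype N) (fun y => rfl) ϑ ν] at ho
    have h1 : ν.comp (MulAut.conjNormal x : MulAut (N.comap R.subtype)).toMonoidHom = ν := by
      ext y
      exact congrArg _ (hν x y)
    rw [h1] at ho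
    exact ho
  · -- ext
    intro θ hθ hdθ htop l ho
    obtain ⟨f, hd⟩ := exists_dec (e := e) hθ
    have hf := hall θ f hdθ hd (by rw [htop]; exact le_top)
    let S : Sylow p G := hRp.toSylow hRi
    have hDS : R ⊓ N ≤ (S : Subgroup G) := inf_le_left
    have hDN : R ⊓ N ≤ N := inf_le_right
    -- the isomorphism
    let κ : N.comap R.subtype ≃* (R ⊓ N : Subgroup G) :=
      { toFun := fun y => ⟨y, y.1.2, y.2⟩
        invFun := fun y => ⟨⟨y, y.2.1⟩, y.2.2⟩
        left_inv := fun y => rfl
        right_inv := fun y => rfl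
        map_mul' := fun y z => rfl }
    set lr : N.comap R.subtype →* ℂˣ := l.comp (N.comap R.subtype).subtype with hlr
    let ν : (R ⊓ N : Subgroup G) →* ℂˣ := MonoidHom.comp (l : (S : Subgroup G) →* ℂˣ)
      (Subgroup.inclusion hDS)
    have hνlr : ∀ y : N.comap R.subtype, ν (κ y) = lr y := fun y => rfl
    have hνl : ν.comp κ.toMonoidHom = lr := by ext y; rfl
    have hmul : ∀ ϑ : N → ℂ, ∀ μ : (R ⊓ N : Subgroup G) →* ℂˣ,
        mult (jQ R.subtype N) ϑ (lf (μ.comp κ.toMonoidHom)) = mult (Subgroup.inclusion hDN) ϑ (lf μ) :=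
      fun ϑ μ => mult_comp_equiv κ (Subgroup.inclusion hDN) ϑ (lf μ)
    -- the components of `lr`
    have hcomp := over_comp_of_over hc hmem hd ho
    refine ext_of_config S N (R ⊓ N) rfl hθ htop (l : (S : Subgroup G) →* ℂˣ) ν hDS hDN rfl ?_ ?_ ?_
    · rw [← hmul, hνl, mult_prod hc hmem hd]
      refine Finset.prod_eq_one fun i _ => ?_
      exact (hE i).mult_one _ _ (syl_q hc hRp hRi i) (f i) (hf i) _ (hcomp i)
    · -- transitivity
      intro x hx
      let cx : (R ⊓ N : Subgroup G) →* (R ⊓ N : Subgroup G) :=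
        { toFun := fun y => ⟨x * y * x⁻¹, hx y y.2⟩
          map_one' := Subtype.ext (by show x * 1 * x⁻¹ = 1; group)
          map_mul' := fun y z => Subtype.ext (by
            show x * ((y : G) * (z : G)) * x⁻¹ = (x * y * x⁻¹) * (x * z * x⁻¹)
            group) }
      have hcx : Function.Injective cx := by
        intro y z hyz
        have h1 : x * (y : G) * x⁻¹ = x * (z : G) * x⁻¹ := congrArg Subtype.val hyz
        exact Subtype.ext (mul_left_cancel (mul_right_cancel h1))
      let cx' : (R ⊓ N : Subgroup G) ≃* (R ⊓ N : Subgroup G) :=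
        MulEquiv.ofBijective cx (Finite.injective_iff_bijective.1 hcx)
      have hinv : θ ∘ (MulAut.conjNormal x : MulAut N) = θ := by
        have : x ∈ inertia N θ := by rw [htop]; trivial
        exact mem_inertia.1 this
      have ho' : Over (jQ R.subtype N) θ (lf ((ν.comp cx'.toMonoidHom).comp κ.toMonoidHom)) := by
        rw [over_iff_mult, hmul]
        have h2 := mult_reindex cx' (MulAut.conjNormal x : MulAut N) (Subgroup.inclusion hDN)
          (fun y => rfl) θ ν
        rw [hinv] at h2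
        rw [h2, ← hmul, hνl]
        exact ho
      have hcomp' := over_comp_of_over hc hmem hd ho'
      have htr := fun i => (hE i).trans _ _ (syl_q hc hRp hRi i) (f i) (hf i) _ _ (hcomp i) (hcomp' i)
      choose t τ htp hτ hντ using htr
      have hτG : ∀ i y, (((τ i y : (T i).comap R.subtype) : R) : G) =
          t i * ((y : R) : G) * (t i : G)⁻¹ :=
        fun i y => congrArg (fun z : T i => (z : G)) (hτ i y)
      -- conjugation by `e.symm t`
      have hcoord : ∀ (y : N) i, (e (e.symm t * y * (e.symm t)⁻¹) i : G) =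
          t i * (e y i : G) * (t i : G)⁻¹ := by
        intro y i
        rw [map_mul, map_mul, map_inv, e.apply_symm_apply]
        rfl
      have hconj : ∀ y : N.comap R.subtype, ∃ z : N.comap R.subtype,
          ((z : R) : G) = ((e.symm t : N) : G) * ((y : R) : G) * ((e.symm t : N) : G)⁻¹ ∧
            ∀ i, EQ e hmem z i = τ i (EQ e hmem y i) := by
        intro y
        set! n : N := jQ R.subtype N y with hn
        have hz : ((e.symm t * n * (e.symm t)⁻¹ : N) : G) ∈ R := by
          rw [hmem]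
          intro i
          rw [hcoord, hn, ← EQ_spec hmem y i]
          have := hτG i (EQ e hmem y i)
          show (t i : G) * (((EQ e hmem y i : (T i).comap R.subtype) : R) : G) * (t i : G)⁻¹ ∈ R
          rw [← this]
          exact (τ i (EQ e hmem y i)).1.2
        refine ⟨⟨⟨_, hz⟩, (e.symm t * n * (e.symm t)⁻¹).2⟩, rfl, fun i => ?_⟩
        apply Subtype.ext
        apply Subtype.ext
        rw [hτG]
        exact hcoord n i
      refine ⟨(e.symm t : N), (e.symm t).2, fun y hy => ?_, ?_⟩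
      · obtain ⟨z, hz, -⟩ := hconj ⟨⟨y, hy.1⟩, hy.2⟩
        have hz' : ((z : R) : G) = ((e.symm t : N) : G) * y * ((e.symm t : N) : G)⁻¹ := hz
        rw [← hz']
        exact ⟨z.1.2, z.2⟩
      · intro y z w hzy hwy
        obtain ⟨z', hz', hz''⟩ := hconj (κ.symm y)
        have hw' : κ z' = w := Subtype.ext (hz'.trans hwy.symm)
        have hzc : z = cx' y := Subtype.ext hzy
        rw [← hw', hνlr, lin_prod hc hmem lr z', hzc]
        have h3 : ν (cx' y) = ((ν.comp cx'.toMonoidHom).comp κ.toMonoidHom) (κ.symm y) := by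
          show _ = ν (cx' (κ (κ.symm y)))
          rw [MulEquiv.apply_symm_apply]
        rw [h3, lin_prod hc hmem _ (κ.symm y)]
        refine Finset.prod_congr rfl fun i _ => ?_
        rw [hz'' i]
        exact hντ i _
    · -- stabilizer
      intro t ht htν
      have ht' : ∀ (i : Fin m) (y : (T i).comap R.subtype),
          (e t i : G) * ((y : R) : G) * (e t i : G)⁻¹ ∈ R ∧
          (e t i : G) * ((y : R) : G) * (e t i : G)⁻¹ = (t : G) * ((y : R) : G) * (t : G)⁻¹ := by
        intro i y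
        have h1 : ((e.symm (Pi.mulSingle i (jQ R.subtype (T i) y)) : N) : G) = ((y : R) : G) :=
          hc.single i _
        have h2 : ((y : R) : G) ∈ R ⊓ N := ⟨y.1.2, hc.le i y.2⟩
        have h3 : e (t * e.symm (Pi.mulSingle i (jQ R.subtype (T i) y)) * t⁻¹) =
            Pi.mulSingle i (e t i * jQ R.subtype (T i) y * (e t i)⁻¹) := by
          rw [map_mul, map_mul, map_inv, e.apply_symm_apply]
          funext j
          by_cases hj : j = i
          · subst hj
            rw [Pi.mulSingle_eq_same, Pi.mul_apply, Pi.mul_apply, Pi.inv_apply, Pi.mulSingle_eq_same]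
          · rw [Pi.mulSingle_eq_of_ne hj, Pi.mul_apply, Pi.mul_apply, Pi.inv_apply,
              Pi.mulSingle_eq_of_ne hj, mul_one, mul_inv_cancel]
        have h4 : t * e.symm (Pi.mulSingle i (jQ R.subtype (T i) y)) * t⁻¹ =
            e.symm (Pi.mulSingle i (e t i * jQ R.subtype (T i) y * (e t i)⁻¹)) := by
          rw [← h3, e.symm_apply_apply]
        have h5 : (e t i : G) * ((y : R) : G) * (e t i : G)⁻¹ = (t : G) * ((y : R) : G) * (t : G)⁻¹ := by
          have h6 := congrArg (fun z : N => (z : G)) h4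
          simp only [Subgroup.coe_mul, Subgroup.coe_inv] at h6
          rw [h1, hc.single] at h6
          exact h6.symm
        refine ⟨?_, h5⟩
        rw [h5]
        exact (ht _ h2).1
      have hst : ∀ i, (e t i : G) ∈ R ∨ f i = 1 := by
        intro i
        obtain ⟨τ, hτ⟩ := exists_tau (T := T) (R := R) i (e t i : G) (fun y =>
          ⟨(ht' i y).1, (T i).mul_mem ((T i).mul_mem (e t i).2 y.2) ((T i).inv_mem (e t i).2)⟩)
        have hfix : ∀ y, nuc hc R lr i (τ y) = nuc hc R lr i y := by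
          intro y
          have hy : ((y : R) : G) ∈ R ⊓ N := ⟨y.1.2, hc.le i y.2⟩
          have hτy : (((τ y : (T i).comap R.subtype) : R) : G) ∈ R ⊓ N := ⟨(τ y).1.2, hc.le i (τ y).2⟩
          exact htν ⟨_, hy⟩ ⟨_, hτy⟩ ((hτ y).trans (ht' i y).2)
        rcases (hE i).stab _ _ (syl_q hc hRp hRi i) (f i) (hf i) _ (hcomp i) (e t i) τ
          (fun y => Subtype.ext (hτ y)) hfix with ⟨w, hw⟩ | h
        · left
          rw [← hw]
          exact w.1.2
        · right; exact h
      let t' : ∀ i, T i := fun i => if (e t i : G) ∈ R then e t i else 1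
      have ht'' : ∀ i, (t' i : G) ∈ R := by
        intro i
        by_cases h : (e t i : G) ∈ R
        · simp only [t', if_pos h]; exact h
        · simp only [t', if_neg h]; exact R.one_mem
      refine ⟨e.symm t', ⟨(hmem _).2 fun i => by rw [e.apply_symm_apply]; exact ht'' i,
        (e.symm t').2⟩, fun n => ?_⟩
      rw [hd.eq, hd.eq]
      refine Finset.prod_congr rfl fun i _ => ?_
      rw [map_mul, map_mul, map_inv, e.apply_symm_apply, Pi.mul_apply, Pi.mul_apply, Pi.inv_apply]
      rcases hst i with h | h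
      · simp only [t', if_pos h, inv_mul_cancel, one_mul]
      · rw [h]; rfl

end

end Cfsg.Agent.H663.GmnStep
end

-- part: H663/GmnPslB
section
/-!
# `PSL₂(3^f)` satisfies the conditions `Exc`, first part (helper663)

`Cov w` : `w : SL₂(F) → S` is surjective with kernel `{1, -1}`.  `exists_param` : every Sylow
`3`-subgroup is conjugate to the image of the root group.  `exc_of_cov` : all the conditions of `Exc`
but the first one.
-/

set_option autoImplicit false
set_option linter.style.haveILetI false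
set_option linter.unusedSectionVars false
set_option linter.unusedSimpArgs false
open Cfsg

namespace Cfsg.Agent.H663.GmnPsl

open Matrix Cfsg.Agent.Characters.Core Cfsg.Agent.H670.RankOne Cfsg.Agent.H670.SL2
open Cfsg.Agent.H663.GmnStep Cfsg.Agent.Characters.Clifford Cfsg.Agent.H672

universe u v w

variable {F : Type v} [Field F] [Fintype F] {S : Type u} [Group S] [Finite S]

/-- `w : SL₂(F) → S` is surjective with kernel `{1, -1}`. -/
structure Cov (w : _root_.Matrix.SpecialLinearGroup (Fin 2) F →* S) : Prop where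
  surj : Function.Surjective w
  ker : ∀ g, w g = 1 ↔ g = 1 ∨ g = tor (-1)

variable {w : _root_.Matrix.SpecialLinearGroup (Fin 2) F →* S}

/-- The multiplicities of the linear characters are the Fourier coefficients. -/
theorem mult_u (θ : S → ℂ) (c : F) :
    mult (w.comp (data F).xh) θ (lf (psiHom c)) = (data F).cf (θ ∘ w) c := by
  rw [mult_eq, Data.cf_eq_classInner]
  rfl

theorem three_dvd [CharP F 3] : 3 ∣ Fintype.card F := by
  rw [← CharP.cast_eq_zero_iff F 3 (Fintype.card F)]
  exact Nat.cast_card_eq_zero F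

theorem isPGroup_add [CharP F 3] : IsPGroup 3 (Multiplicative F) := by
  intro s
  refine ⟨1, ?_⟩
  rw [pow_one]
  apply Multiplicative.toAdd.injective
  rw [toAdd_pow, toAdd_one, nsmul_eq_mul]
  have : ((3 : ℕ) : F) = 0 := CharP.cast_eq_zero F 3
  rw [this, zero_mul]

/-- The root group is a Sylow `3`-subgroup. -/
theorem not_dvd_index [CharP F 3] (hw : Function.Surjective w) :
    ¬ 3 ∣ (w.comp (data F).xh).range.index := by
  have h3 := three_dvd (F := F)
  have h0 : 1 ≤ Fintype.card F := Fintype.card_pos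
  have h1 : (data F).xh.range.index = (Fintype.card F + 1) * (Fintype.card F - 1) := by
    have h2 := (data F).xh.range.card_mul_index
    have hinj : Function.Injective (data F).xh := fun s t hst =>
      Multiplicative.toAdd.injective ((data F).X_inj hst)
    rw [card_SL2, ← Nat.card_congr (MonoidHom.ofInjective hinj).toEquiv, Nat.card_eq_fintype_card,
      Fintype.card_multiplicative] at h2
    have h4 : Fintype.card F * (data F).xh.range.index =
        Fintype.card F * ((Fintype.card F + 1) * (Fintype.card F - 1)) := by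
      rw [h2]; ring
    exact Nat.eq_of_mul_eq_mul_left h0 h4
  intro hd
  rw [MonoidHom.range_comp] at hd
  have h2 := hd.trans (Subgroup.index_map_dvd _ hw)
  rw [h1] at h2
  rcases (Nat.Prime.dvd_mul Nat.prime_three).1 h2 with h4 | h4
  · have := (Nat.dvd_add_right h3).1 h4
    omega
  · have := (Nat.dvd_sub h3 h4)
    rw [Nat.sub_sub_self h0] at this
    omega

/-- Every Sylow `3`-subgroup is conjugate to the image of the root group. -/
theorem exists_param [CharP F 3] (hc : Cov w) {Q : Type*} [Group Q] [Finite Q] {q : Q →* S}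
    (hq : Syl 3 q) : ∃ (g : S) (κ : Multiplicative F ≃* Q),
      ∀ s, q (κ s) = g * w ((data F).xh s) * g⁻¹ := by
  have : Fact (Nat.Prime 3) := ⟨Nat.prime_three⟩
  set! u := w.comp (data F).xh with hu
  have hup : IsPGroup 3 u.range := isPGroup_add.of_surjective u.rangeRestrict u.rangeRestrict_surjective
  have hqp : IsPGroup 3 q.range := hq.pgroup.of_surjective q.rangeRestrict q.rangeRestrict_surjective
  let P1 : Sylow 3 S := hup.toSylow (not_dvd_index hc.surj)
  let P2 : Sylow 3 S := hqp.toSylow hq.index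
  obtain ⟨g, hg⟩ := MulAction.exists_smul_eq S P1 P2
  have hmem : ∀ z, z ∈ q.range ↔ ∃ s, g * u s * g⁻¹ = z := by
    intro z
    have h1 : z ∈ q.range ↔ z ∈ (g • P1 : Sylow 3 S) := by rw [hg]; rfl
    rw [h1]
    constructor
    · intro hz
      rw [← SetLike.mem_coe, Sylow.coe_smul] at hz
      obtain ⟨y, ⟨s, rfl⟩, rfl⟩ := hz
      exact ⟨s, rfl⟩
    · rintro ⟨s, rfl⟩
      rw [← SetLike.mem_coe, Sylow.coe_smul]
      exact ⟨u s, ⟨s, rfl⟩, rfl⟩
  have hxinj : Function.Injective u := by
    rw [injective_iff_map_eq_one]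
    intro s hs
    rcases (hc.ker _).1 hs with h1 | h1
    · have h2 := congrArg e01 h1
      apply Multiplicative.toAdd.injective
      exact h2
    · exfalso
      have h2 := congrArg e00 h1
      have h3 : (1 : F) = ((-1 : Fˣ) : F) := h2
      rw [Units.val_neg, Units.val_one] at h3
      have h4 : ((3 : ℕ) : F) = 0 := CharP.cast_eq_zero F 3
      have h5 : (1 : F) = 0 := by
        push_cast at h4
        linear_combination h4 - h3
      exact one_ne_zero h5
  let f : Multiplicative F →* q.range := ((MulAut.conj g).toMonoidHom.comp u).codRestrict q.range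
    (fun s => (hmem _).2 ⟨s, rfl⟩)
  have hf : Function.Bijective f := by
    constructor
    · intro s t hst
      have h1 : g * u s * g⁻¹ = g * u t * g⁻¹ := congrArg Subtype.val hst
      exact hxinj (mul_left_cancel (mul_right_cancel h1))
    · rintro ⟨z, hz⟩
      obtain ⟨s, hs⟩ := (hmem z).1 hz
      exact ⟨s, Subtype.ext hs⟩
  refine ⟨g, (MulEquiv.ofBijective f hf).trans (MonoidHom.ofInjective hq.inj).symm, fun s => ?_⟩
  have h1 : ((MonoidHom.ofInjective hq.inj) ((MulEquiv.ofBijective f hf).trans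
      (MonoidHom.ofInjective hq.inj).symm s) : S) = f s := by
    rw [MulEquiv.trans_apply, MulEquiv.apply_symm_apply]
    rfl
  exact h1

theorem tor_neg_one_central (g : _root_.Matrix.SpecialLinearGroup (Fin 2) F) : tor (-1) * g = g * tor (-1) := by
  apply ext4 <;> simp only [mul00, mul01, mul10, mul11, tor00, tor01, tor10, tor11, inv_neg, inv_one,
    Units.val_neg, Units.val_one] <;> ring

theorem neg_one_sq : (tor (-1) : _root_.Matrix.SpecialLinearGroup (Fin 2) F) * tor (-1) = 1 := by
  rw [← map_mul, neg_mul_neg, mul_one, map_one]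

theorem Cov.eq_iff (hc : Cov w) {g g' : _root_.Matrix.SpecialLinearGroup (Fin 2) F} :
    w g = w g' ↔ g = g' ∨ g = tor (-1) * g' := by
  rw [← mul_inv_eq_one, ← map_inv, ← map_mul, hc.ker, mul_inv_eq_one, mul_inv_eq_iff_eq_mul]

/-- The multiplicity in terms of Fourier coefficients. -/
theorem mult_param {Q : Type*} [Group Q] [Finite Q] {q : Q →* S} {g : S}
    {κ : Multiplicative F ≃* Q} (hκ : ∀ s, q (κ s) = g * w ((data F).xh s) * g⁻¹) {θ : S → ℂ}
    (hcl : IsClassFunction S θ) {ν : Q →* ℂˣ} {c : F} (hν : ν.comp κ.toMonoidHom = psiHom c) :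
    mult q θ (lf ν) = (data F).cf (θ ∘ w) c := by
  rw [← mult_u, ← mult_comp_equiv κ q θ (lf ν), mult_eq, mult_eq]
  congr 1
  · funext s
    show θ (q (κ s)) = θ (w ((data F).xh s))
    rw [hκ]
    exact hcl _ _
  · rw [← hν]
    rfl

section
variable [DecidableEq F] {h : ℕ} (hq : Fintype.card F = 2 * h + 1) (hh : 1 < h)
  (h1 : ¬ IsSquare (-1 : F))

/-- Inflation. -/
noncomputable def infl (hc : Cov w) {θ : S → ℂ} (hθ : IsIrrCharacter S θ) :
    IrrCharacter (_root_.Matrix.SpecialLinearGroup (Fin 2) F) := ⟨θ ∘ w, isIrr_comp w hc.surj hθ⟩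

theorem infl_one (hc : Cov w) {θ : S → ℂ} (hθ : IsIrrCharacter S θ) :
    (infl hc hθ : _root_.Matrix.SpecialLinearGroup (Fin 2) F → ℂ) 1 = charDegree θ := by
  show θ (w 1) = _
  rw [map_one, coe_charDegree hθ]

theorem infl_inj (hc : Cov w) {θ θ' : S → ℂ} (hθ : IsIrrCharacter S θ) (hθ' : IsIrrCharacter S θ')
    (he : infl hc hθ = infl hc hθ') : θ = θ' := by
  funext x
  obtain ⟨g, rfl⟩ := hc.surj x
  exact congrFun (congrArg Subtype.val he) g

/-- Multiplication by a square. -/
def mulEq (v : Fˣ) : Multiplicative F ≃* Multiplicative F where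
  toFun s := Multiplicative.ofAdd ((v : F) * s.toAdd)
  invFun s := Multiplicative.ofAdd (((v⁻¹ : Fˣ) : F) * s.toAdd)
  left_inv s := by
    apply Multiplicative.toAdd.injective
    show ((v⁻¹ : Fˣ) : F) * ((v : F) * s.toAdd) = s.toAdd
    rw [← mul_assoc, ← Units.val_mul, inv_mul_cancel, Units.val_one, one_mul]
  right_inv s := by
    apply Multiplicative.toAdd.injective
    show (v : F) * (((v⁻¹ : Fˣ) : F) * s.toAdd) = s.toAdd
    rw [← mul_assoc, ← Units.val_mul, mul_inv_cancel, Units.val_one, one_mul]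
  map_mul' s t := by
    apply Multiplicative.toAdd.injective
    show (v : F) * (s.toAdd + t.toAdd) = (v : F) * s.toAdd + (v : F) * t.toAdd
    rw [mul_add]

theorem xh_mulEq (v : Fˣ) (s : Multiplicative F) :
    (data F).xh (mulEq (v ^ 2) s) = tor v * (data F).xh s * (tor v)⁻¹ := by
  rw [eq_mul_inv_iff_mul_eq]
  show x (((v ^ 2 : Fˣ) : F) * s.toAdd) * tor v = tor v * x s.toAdd
  rw [tor_mul_x, Units.val_pow_eq_pow_val]

theorem exists_cf {Q : Type*} [Group Q] {κ : Multiplicative F ≃* Q} (ν : Q →* ℂˣ) :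
    ∃ c : F, ν.comp κ.toMonoidHom = psiHom c := exists_psiHom _

include hq hh h1 in
/-- All the conditions of `Exc` but the first one. -/
theorem exc_of_cov [CharP F 3] (hc : Cov w)
    (hmem : ∀ (Q : Type u) [Group Q] [Finite Q] (q : Q →* S), Syl 3 q → ∀ A : Subgroup (MulAut S),
      GoodA 3 q A → ∀ θ : S → ℂ, IsIrrCharacter S θ → ¬ 3 ∣ charDegree θ →
      (∀ a ∈ A, θ ∘ a = θ) → EE h θ) : Exc 3 S h := by
  have hn0 : ∀ {θ : S → ℂ} (hθ : IsIrrCharacter S θ) (c : F), (data F).cf (θ ∘ w) c =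
      (data F).n (infl hc hθ) c := fun hθ c => (data F).cf_eq_n (infl hc hθ) c
  have hdeg : ∀ {θ : S → ℂ} (hθ : IsIrrCharacter S θ), charDegree θ = h →
      (infl hc hθ : _root_.Matrix.SpecialLinearGroup (Fin 2) F → ℂ) 1 = h := by
    intro θ hθ hd
    rw [infl_one, hd]
  have htriv : ∀ hθ : IsIrrCharacter S (1 : S → ℂ), infl hc hθ = triv := fun hθ => rfl
  have hdeg1 : ∀ θ : S → ℂ, θ = 1 → charDegree θ ≠ h := by
    rintro θ rfl hd
    have h2 : charDegree (1 : S → ℂ) = 1 := charDegree_of_eq (by simp)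
    omega
  -- a common nonzero coefficient
  have hinj : ∀ {θ θ' : S → ℂ} (hθ : EE h θ) (hθ' : EE h θ') (c : F),
      (data F).n (infl hc hθ.1) c ≠ 0 → (data F).n (infl hc hθ'.1) c ≠ 0 → θ = θ' := by
    intro θ θ' hθ hθ' c hn hn'
    rcases hθ.2 with e | e
    · subst e
      have h2 := one_ne_zero_iff hn
      rcases hθ'.2 with e' | e'
      · exact e'.symm
      · exact absurd h2 (half_ne_zero h1 hq hh _ (hdeg hθ'.1 e') hn').1
    · rcases hθ'.2 with e' | e'
      · subst e'
        exact absurd (one_ne_zero_iff hn') (half_ne_zero h1 hq hh _ (hdeg hθ.1 e) hn).1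
      · exact infl_inj hc hθ.1 hθ'.1
          (eq_of_half h1 hq hh (hdeg hθ.1 e) (hdeg hθ'.1 e') hn hn')
  refine ⟨hmem, ?_, ?_, ?_, ?_⟩
  · -- mult_one
    intro Q _ _ q hQ θ hθ ν ho
    obtain ⟨g, κ, hκ⟩ := exists_param hc hQ
    obtain ⟨c, hνc⟩ := exists_cf (κ := κ) ν
    have hm := mult_param hκ (isIrr_isClassFunction hθ.1) hνc
    rw [hn0 hθ.1] at hm
    rw [over_iff_mult, hm, Nat.cast_ne_zero] at ho
    rw [hm]
    rcases hθ.2 with e | e
    · subst e
      have h2 := one_ne_zero_iff ho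
      subst h2
      have h3 : (data F).n (infl hc hθ.1) 0 = 1 := by
        rw [Data.n_eq_iff]
        show (data F).cf 1 0 = _
        rw [Data.cf_one, Nat.cast_one]
      rw [h3, Nat.cast_one]
    · have h2 := (half_ne_zero h1 hq hh _ (hdeg hθ.1 e) ho).1
      rcases (data F).n_le_one hasAnti (infl hc hθ.1) h2 with h3 | h3
      · exact absurd h3 ho
      · rw [h3, Nat.cast_one]
  · -- inj
    intro Q _ _ q hQ θ θ' hθ hθ' ν ho ho'
    obtain ⟨g, κ, hκ⟩ := exists_param hc hQ
    obtain ⟨c, hνc⟩ := exists_cf (κ := κ) ν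
    rw [over_iff_mult, mult_param hκ (isIrr_isClassFunction hθ.1) hνc,
      hn0 hθ.1, Nat.cast_ne_zero] at ho
    rw [over_iff_mult, mult_param hκ (isIrr_isClassFunction hθ'.1) hνc,
      hn0 hθ'.1, Nat.cast_ne_zero] at ho'
    exact hinj hθ hθ' c ho ho'
  · -- trans
    intro Q _ _ q hQ θ hθ ν ν' ho ho'
    obtain ⟨g, κ, hκ⟩ := exists_param hc hQ
    obtain ⟨c, hνc⟩ := exists_cf (κ := κ) ν
    obtain ⟨c', hνc'⟩ := exists_cf (κ := κ) ν'
    rw [over_iff_mult, mult_param hκ (isIrr_isClassFunction hθ.1) hνc,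
      hn0 hθ.1, Nat.cast_ne_zero] at ho
    rw [over_iff_mult, mult_param hκ (isIrr_isClassFunction hθ.1) hνc',
      hn0 hθ.1, Nat.cast_ne_zero] at ho'
    obtain ⟨v, hv⟩ : ∃ v : Fˣ, c' = (v : F) ^ 2 * c := by
      rcases hθ.2 with e | e
      · subst e
        have h2 := one_ne_zero_iff ho
        have h2' := one_ne_zero_iff ho'
        exact ⟨1, by rw [h2, h2', mul_zero]⟩
      · exact half_same_class h1 hq hh (hdeg hθ.1 e) ho ho'
    refine ⟨g * w (tor v) * g⁻¹, κ.symm.trans ((mulEq (v ^ 2)).trans κ), ?_, ?_, ?_⟩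
    · intro hd
      have h2 : (g * w (tor v) * g⁻¹) ^ (Fintype.card F - 1) = 1 := by
        rw [conj_pow, ← map_pow, ← map_pow, ← Fintype.card_units, pow_card_eq_one, map_one, map_one,
          mul_one, mul_inv_cancel]
      have h3 := hd.trans (orderOf_dvd_of_pow_eq_one h2)
      have h4 := Nat.dvd_sub (three_dvd (F := F)) h3
      rw [Nat.sub_sub_self Fintype.card_pos] at h4
      omega
    · intro y
      obtain ⟨s, rfl⟩ := κ.surjective y
      rw [MulEquiv.trans_apply, MulEquiv.trans_apply, MulEquiv.symm_apply_apply, hκ, hκ, xh_mulEq,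
        map_mul, map_mul, map_inv]
      group
    · intro y
      obtain ⟨s, rfl⟩ := κ.surjective y
      rw [MulEquiv.trans_apply, MulEquiv.trans_apply, MulEquiv.symm_apply_apply]
      have e1 : ν' (κ s) = psiHom c' s := by rw [← hνc']; rfl
      have e2 : ν (κ (mulEq (v ^ 2) s)) = psiHom c (mulEq (v ^ 2) s) := by rw [← hνc]; rfl
      rw [e1, e2]
      apply Units.ext
      rw [psiHom_apply, psiHom_apply, hv]
      congr 1
      show s.toAdd * ((v : F) ^ 2 * c) = ((v ^ 2 : Fˣ) : F) * s.toAdd * c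
      rw [Units.val_pow_eq_pow_val]
      ring
  · -- stab
    intro Q _ _ q hQ θ hθ ν ho y τ hτ hντ
    obtain ⟨g, κ, hκ⟩ := exists_param hc hQ
    obtain ⟨c, hνc⟩ := exists_cf (κ := κ) ν
    rw [over_iff_mult, mult_param hκ (isIrr_isClassFunction hθ.1) hνc,
      hn0 hθ.1, Nat.cast_ne_zero] at ho
    rcases hθ.2 with e | e
    · right; exact e
    left
    have hc0 := (half_ne_zero h1 hq hh _ (hdeg hθ.1 e) ho).1
    have h2ne : (2 : F) ≠ 0 := by
      intro h2
      have h3 : ((3 : ℕ) : F) = 0 := CharP.cast_eq_zero F 3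
      push_cast at h3
      exact one_ne_zero (by linear_combination h3 - h2 : (1 : F) = 0)
    obtain ⟨a, ha⟩ := hc.surj (g⁻¹ * y * g)
    have hy : y = g * w a * g⁻¹ := by rw [ha]; group
    -- the action on the root group
    have hact : ∀ s : Multiplicative F, a * x s.toAdd = x (κ.symm (τ (κ s))).toAdd * a ∨
        a * x s.toAdd = tor (-1) * (x (κ.symm (τ (κ s))).toAdd * a) := by
      intro s
      have h2 := hτ (κ s)
      have h3 : q (τ (κ s)) = g * w ((data F).xh (κ.symm (τ (κ s)))) * g⁻¹ := by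
        rw [← hκ, MulEquiv.apply_symm_apply]
      rw [h3, hκ, hy] at h2
      have h4 : w (a * (data F).xh s) = w ((data F).xh (κ.symm (τ (κ s))) * a) := by
        rw [map_mul, map_mul]
        have h5 : g * w ((data F).xh (κ.symm (τ (κ s)))) * g⁻¹ * (g * w a * g⁻¹) =
            g * w a * g⁻¹ * (g * w ((data F).xh s) * g⁻¹) := by
          rw [h2]; group
        have h6 : g * (w ((data F).xh (κ.symm (τ (κ s)))) * w a) * g⁻¹ =
            g * (w a * w ((data F).xh s)) * g⁻¹ := by
          calc _ = g * w ((data F).xh (κ.symm (τ (κ s)))) * g⁻¹ * (g * w a * g⁻¹) := by group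
            _ = _ := by rw [h5]; group
        exact (mul_left_cancel (mul_right_cancel h6)).symm
      exact hc.eq_iff.1 h4
    have hact' : ∀ s : Multiplicative F, a * x s.toAdd = x (κ.symm (τ (κ s))).toAdd * a := by
      intro s
      rcases hact s with h2 | h2
      · exact h2
      exfalso
      have e10' := congrArg e10 h2
      have e00' := congrArg e00 h2
      simp only [mul00, mul01, mul10, mul11, x00, x01, x10, x11, tor00, tor01, tor10, tor11, inv_neg,
        inv_one, Units.val_neg, Units.val_one] at e10' e00'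
      have h3 : e10 a = 0 := by
        have : (2 : F) * e10 a = 0 := by linear_combination e10'
        exact (mul_eq_zero.1 this).resolve_left h2ne
      have h4 : e00 a = 0 := by
        rw [h3] at e00'
        have : (2 : F) * e00 a = 0 := by linear_combination e00'
        exact (mul_eq_zero.1 this).resolve_left h2ne
      have h5 := det_eq a
      rw [h3, h4, zero_mul, mul_zero, sub_zero] at h5
      exact zero_ne_one h5
    have h10 : e10 a = 0 := by
      have h2 := congrArg e11 (hact' (Multiplicative.ofAdd 1))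
      simp only [mul11, x01, x10, x11, toAdd_ofAdd] at h2
      linear_combination h2
    have hdet := det_eq a
    rw [h10, mul_zero, sub_zero] at hdet
    have hs : ∀ s : Multiplicative F, (κ.symm (τ (κ s))).toAdd = e00 a ^ 2 * s.toAdd := by
      intro s
      have h2 := congrArg e01 (hact' s)
      simp only [mul01, x00, x01, x10, x11] at h2
      linear_combination (-(κ.symm (τ (κ s))).toAdd) * hdet - e00 a * h2
    have hsq : (e00 a) ^ 2 = 1 := by
      have h2 : ∀ s : F, psi F (s * ((e00 a ^ 2 - 1) * c)) = 1 := by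
        intro s
        have h3 := hντ (κ (Multiplicative.ofAdd s))
        have e1 : ν (κ (Multiplicative.ofAdd s)) = psiHom c (Multiplicative.ofAdd s) := by
          rw [← hνc]; rfl
        have e2 : ν (τ (κ (Multiplicative.ofAdd s))) =
            psiHom c (κ.symm (τ (κ (Multiplicative.ofAdd s)))) := by
          rw [← hνc]
          show _ = ν (κ (κ.symm (τ (κ (Multiplicative.ofAdd s)))))
          rw [MulEquiv.apply_symm_apply]
        rw [e1, e2] at h3
        have h4 := congrArg Units.val h3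
        rw [psiHom_apply, psiHom_apply, hs, toAdd_ofAdd] at h4
        have h5 : s * ((e00 a ^ 2 - 1) * c) = e00 a ^ 2 * s * c + -(s * c) := by ring
        rw [h5, AddChar.map_add_eq_mul, h4, ← AddChar.map_add_eq_mul, add_neg_cancel,
          AddChar.map_zero_eq_one]
      have h3 := sum_psi ((e00 a ^ 2 - 1) * c)
      rw [Finset.sum_congr rfl fun s _ => h2 s, Finset.sum_const, nsmul_eq_mul, mul_one,
        Finset.card_univ] at h3
      by_contra hne
      rw [if_neg (mul_ne_zero (sub_ne_zero.2 hne) hc0)] at h3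
      exact cardF_ne F h3
    have hw : w a ∈ (w.comp (data F).xh).range := by
      rcases mul_self_eq_one_iff.1 ((pow_two (e00 a)).symm.trans hsq) with h2 | h2
      · rw [h2, one_mul] at hdet
        refine ⟨Multiplicative.ofAdd (e01 a), ?_⟩
        show w (x (e01 a)) = w a
        congr 1
        apply ext4
        · rw [x00, h2]
        · rw [x01]
        · rw [x10, h10]
        · rw [x11, hdet]
      · rw [h2] at hdet
        refine ⟨Multiplicative.ofAdd (-e01 a), ?_⟩
        show w (x (-e01 a)) = w a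
        rw [hc.eq_iff]
        right
        apply ext4 <;> simp only [mul00, mul01, mul10, mul11, x00, x01, x10, x11, tor00, tor01, tor10,
          tor11, inv_neg, inv_one, Units.val_neg, Units.val_one]
        · linear_combination h2
        · ring
        · linear_combination h10
        · linear_combination -hdet
    obtain ⟨s, hs'⟩ := hw
    refine ⟨κ s, ?_⟩
    rw [hκ, hy]
    have : w ((data F).xh s) = w a := hs'
    rw [this]

end

end Cfsg.Agent.H663.GmnPsl
end

-- part: H712/GmnExc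
section
/-!
# The exceptional case of the Guralnick–Malle–Navarro theorem: `PSL₂(3^f)` (helper712)

* `exists_dec` : an automorphism of odd order of `PSL₂(F)` is `conj s * lift (fld σ)`;
* `exc` : `F` of odd characteristic `p`, `A` a `p`-group of automorphisms of `PSL₂(F)` containing the inner automorphisms
  of a Sylow `p`-subgroup, no `p'`-element `≠ 1` normalises `A`: `p = 3`, `|F| = 3 ^ 3 ^ k` and for every field
  automorphism `σ` there is `s` with `conj s * lift (fld σ) ∈ A`.
-/

set_option autoImplicit false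

open Subgroup

namespace Cfsg.Agent.H712.Exc

open Matrix
open Cfsg.Agent.ClassicalGeometry.AutPSL.Root
open Cfsg.Agent.ClassicalGeometry.AutPSL.Auto
open Cfsg.Agent.ClassicalGeometry.AutPSL.Main
open Cfsg.Agent.ClassicalGeometry.AutPSL.SylowU
open Cfsg.Agent.CpAut.Psl

section Dec

variable {F : Type*} [Field F]

/-- matrices of square determinant induce inner automorphisms -/
theorem exists_conj_of_isSquare {M : GL (Fin 2) F} (h : IsSquare (M : Matrix (Fin 2) (Fin 2) F).det) :
    ∃ s : Matrix.SpecialLinearGroup (Fin 2) F, lift (cj M) = MulAut.conj (pr s) := by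
  obtain ⟨c, hc⟩ := h
  have hdet0 : (M : Matrix (Fin 2) (Fin 2) F).det ≠ 0 := by
    have := (Matrix.isUnit_iff_isUnit_det _).1 M.isUnit
    exact this.ne_zero
  have hc0 : c ≠ 0 := by
    rintro rfl
    rw [mul_zero] at hc
    exact hdet0 hc
  let c' : Fˣ := Units.mk0 c hc0
  obtain ⟨B, hB⟩ : ∃ B : GL (Fin 2) F, B = (scg c')⁻¹ * M := ⟨_, rfl⟩
  have hM : M = scg c' * B := by rw [hB, mul_inv_cancel_left]
  have hdet : (B : Matrix (Fin 2) (Fin 2) F).det = 1 := by
    have h1 : (M : Matrix (Fin 2) (Fin 2) F).det = (scalar (Fin 2) c).det * (B : Matrix (Fin 2) (Fin 2) F).det := by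
      conv_lhs => rw [hM]
      rw [Units.val_mul, det_mul]
      rfl
    have h2 : (scalar (Fin 2) c).det = c * c := by
      rw [Matrix.scalar_apply, det_diagonal, Fin.prod_univ_two]
    rw [h2, hc] at h1
    exact (mul_right_eq_self₀.1 h1.symm).resolve_right (mul_ne_zero hc0 hc0)
  obtain ⟨b, hb⟩ : ∃ b : Matrix.SpecialLinearGroup (Fin 2) F, (b : Matrix (Fin 2) (Fin 2) F) = B :=
    ⟨⟨(B : Matrix (Fin 2) (Fin 2) F), hdet⟩, rfl⟩
  refine ⟨b, ?_⟩
  have h3 : cj M = cj B := by rw [hM, map_mul, cj_scg, one_mul]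
  apply MulEquiv.ext
  intro x
  obtain ⟨x, rfl⟩ := pr_surjective x
  have h6 : cj B x = b * x * b⁻¹ := by
    apply Subtype.ext
    rw [coe_cj, Matrix.SpecialLinearGroup.coe_mul, Matrix.SpecialLinearGroup.coe_mul, hb]
    congr 1
    have h4 : ((B⁻¹ : GL (Fin 2) F) : Matrix (Fin 2) (Fin 2) F) * (B : Matrix (Fin 2) (Fin 2) F) = 1 := by
      rw [← Units.val_mul, inv_mul_cancel, Units.val_one]
    have h5 : (B : Matrix (Fin 2) (Fin 2) F) *
        ((b⁻¹ : Matrix.SpecialLinearGroup (Fin 2) F) : Matrix (Fin 2) (Fin 2) F) = 1 := by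
      rw [← hb, ← Matrix.SpecialLinearGroup.coe_mul, mul_inv_cancel, Matrix.SpecialLinearGroup.coe_one]
    exact left_inv_eq_right_inv h4 h5
  rw [h3, lift_pr, h6, map_mul, map_mul, map_inv]
  rfl

/-- the automorphisms `conj s * lift (fld σ)` -/
def Dec (F : Type*) [Field F] : Subgroup (MulAut (Matrix.ProjectiveSpecialLinearGroup (Fin 2) F)) where
  carrier := {α | ∃ s, ∃ σ : F ≃+* F, α = MulAut.conj s * lift (fld σ)}
  one_mem' := ⟨1, 1, by rw [map_one, map_one, map_one, mul_one]⟩
  mul_mem' := by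
    rintro _ _ ⟨s, σ, rfl⟩ ⟨t, τ, rfl⟩
    refine ⟨s * lift (fld σ) t, σ * τ, ?_⟩
    rw [map_mul, ← Gmn.mul_conj_inv, map_mul fld, map_mul lift]
    group
  inv_mem' := by
    rintro _ ⟨s, σ, rfl⟩
    refine ⟨(lift (fld σ)⁻¹ s⁻¹ :), σ⁻¹, ?_⟩
    rw [map_inv fld, map_inv lift, ← Gmn.mul_conj_inv, map_inv MulAut.conj]
    group

variable [Fintype F]

theorem exists_dec {p : ℕ} [Fact p.Prime] [CharP F p] (hp2 : p ≠ 2)
    {α : MulAut (Matrix.ProjectiveSpecialLinearGroup (Fin 2) F)} {ℓ : ℕ} (hℓ : Odd ℓ) (hα : α ^ ℓ = 1) :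
    ∃ s, ∃ σ : F ≃+* F, α = MulAut.conj s * lift (fld σ) := by
  obtain ⟨M, σ, h⟩ := surj_two p α
  obtain ⟨k, hk⟩ := hℓ
  have h5 : α ^ 2 = lift (cj (M * fgl σ M) * fld (σ * σ)) := by
    rw [h, pow_two, ← map_mul, cjfld_mul]
  have hchar : ringChar F ≠ 2 := by
    rw [ringChar.eq F p]
    exact hp2
  have hdet0 : (M : Matrix (Fin 2) (Fin 2) F).det ≠ 0 := ((Matrix.isUnit_iff_isUnit_det _).1 M.isUnit).ne_zero
  have hsq : IsSquare ((M * fgl σ M : GL (Fin 2) F) : Matrix (Fin 2) (Fin 2) F).det := by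
    rw [Units.val_mul, det_mul, coe_fgl]
    have h1 : ((M : Matrix (Fin 2) (Fin 2) F).map σ).det = σ (M : Matrix (Fin 2) (Fin 2) F).det :=
      (RingEquiv.map_det σ _).symm
    rw [h1]
    set d := (M : Matrix (Fin 2) (Fin 2) F).det
    have hσ0 : σ d ≠ 0 := (map_ne_zero_iff σ σ.injective).2 hdet0
    rw [FiniteField.isSquare_iff hchar (mul_ne_zero hdet0 hσ0), mul_pow, ← map_pow]
    rcases FiniteField.pow_dichotomy hchar hdet0 with h2 | h2
    · rw [h2, map_one, mul_one]
    · rw [h2, map_neg, map_one, neg_mul_neg, mul_one]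
  obtain ⟨b, hb⟩ := exists_conj_of_isSquare hsq
  have h6 : α ^ 2 ∈ Dec F := ⟨pr b, σ * σ, by rw [h5, map_mul, hb]⟩
  have h7 : α = (α ^ 2) ^ (k + 1) := by
    rw [← pow_mul, show 2 * (k + 1) = ℓ + 1 by omega, pow_succ, hα, one_mul]
  have h8 : α ∈ Dec F := by
    rw [h7]
    exact pow_mem h6 _
  exact h8

end Dec

section Tor

variable {F : Type*} [Field F]

/-- diagonal elements -/
def dg (a : Fˣ) : Matrix.SpecialLinearGroup (Fin 2) F :=
  ⟨!![(a : F), 0; 0, ((a⁻¹ : Fˣ) : F)], by rw [det_fin_two_of]; simp⟩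

theorem fld_dg (σ : F ≃+* F) (a : Fˣ) (h : σ a = a) : fld σ (dg a) = dg a := by
  apply Subtype.ext
  ext i j
  rw [coe_fld_apply]
  have h' : σ ((a⁻¹ : Fˣ) : F) = ((a⁻¹ : Fˣ) : F) := by
    rw [Units.val_inv_eq_inv_val, map_inv₀, h]
  (revert i j; simp only [dg, h, _root_.Fin.forall_fin_succ, _root_.Units.val_inv_eq_inv_val, _root_.Matrix.of_apply, _root_.Matrix.cons_val', _root_.Matrix.cons_val_fin_one, Fin.isValue, _root_.Matrix.cons_val_zero, _root_.Matrix.cons_val_succ, _root_.forall_const, _root_.map_zero, _root_.and_self, _root_.map_inv₀, _root_.implies_true])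

theorem pr_dg_eq_one {a : Fˣ} (h : pr (dg a) = 1) : (a : F) * a = 1 := by
  rw [pr_eq_one_iff, Matrix.SpecialLinearGroup.mem_center_iff] at h
  obtain ⟨r, -, hr⟩ := h
  have h1 : r = (a : F) := by
    have := congrFun (congrFun hr 0) 0
    simpa [dg, Matrix.scalar_apply] using this
  have h2 : r = ((a⁻¹ : Fˣ) : F) := by
    have := congrFun (congrFun hr 1) 1
    simpa [dg, Matrix.scalar_apply] using this
  calc (a : F) * a = (a : F) * ((a⁻¹ : Fˣ) : F) := by rw [← h2, ← h1]
    _ = 1 := a.mul_inv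

theorem dg_mul (a b : Fˣ) : dg (a * b) = dg a * dg b := by
  apply Subtype.ext
  rw [Matrix.SpecialLinearGroup.coe_mul]
  ext i j
  (revert i j; simp only [dg, Matrix.mul_apply, Fin.sum_univ_two, mul_comm, _root_.Fin.forall_fin_succ, _root_.Units.val_mul, _root_.mul_inv_rev, _root_.Units.val_inv_eq_inv_val, _root_.Matrix.of_apply, _root_.Matrix.cons_val', _root_.Matrix.cons_val_fin_one, Fin.isValue, _root_.Matrix.cons_val_zero, _root_.Matrix.cons_val_one, _root_.MulZeroClass.zero_mul, _root_.add_zero, _root_.Matrix.cons_val_succ, _root_.zero_add, _root_.forall_const, _root_.MulZeroClass.mul_zero, _root_.and_self, _root_.implies_true])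

/-- the diagonal homomorphism -/
def dgHom : Fˣ →* Matrix.SpecialLinearGroup (Fin 2) F where
  toFun := dg
  map_one' := by
    apply Subtype.ext
    ext i j
    (revert i j; simp only [dg, _root_.Fin.forall_fin_succ, _root_.Units.val_one, _root_.inv_one, _root_.Matrix.of_apply, _root_.Matrix.cons_val', _root_.Matrix.cons_val_fin_one, _root_.Matrix.SpecialLinearGroup.coe_one, Fin.isValue, _root_.Matrix.cons_val_zero, _root_.Matrix.cons_val_succ, _root_.IsEmpty.forall_iff, _root_.and_true, _root_.Matrix.one_apply_eq, Nat.reduceAdd, _root_.Fin.succ_zero_eq_one, _root_.ne_eq, _root_.zero_ne_one, _root_.not_false_eq_true, _root_.Matrix.one_apply_ne, _root_.and_self, _root_.Fin.succ_ne_zero, _root_.true_and])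
  map_mul' := dg_mul

variable [Finite F]

/-- `D = dg a`, `s` upper triangular (normalising the unitriangular group): `D s D⁻¹ s⁻¹` is unitriangular -/
theorem comm_mem (a : Fˣ) {s : Matrix.SpecialLinearGroup (Fin 2) F}
    (hs : ∀ u ∈ upper 2 F, ∃ v ∈ upper 2 F, pr (s * u * s⁻¹) = pr v) : dg a * (s * (dg a)⁻¹ * s⁻¹) ∈ upper 2 F := by
  -- the unipotent `1 + e₁₂`
  let u : Matrix.SpecialLinearGroup (Fin 2) F := ⟨!![1, 1; 0, 1], by rw [det_fin_two_of]; simp⟩
  have hu : u ∈ upper 2 F := by
    rw [mem_upper]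
    intro i j hij
    fin_cases i <;> fin_cases j <;> simp_all only [u, _root_.QuotientGroup.mk'_apply, _root_.QuotientGroup.mk_mul, _root_.QuotientGroup.mk_inv, _root_.Fin.zero_eta, _root_.Fin.isValue, _root_.Std.le_refl, _root_.Matrix.of_apply, _root_.Matrix.cons_val', _root_.Matrix.cons_val_zero, _root_.Matrix.cons_val_fin_one, ↓ _root_.reduceIte, _root_.Fin.mk_one, _root_.nonpos_iff_eq_zero, _root_.one_ne_zero, _root_.zero_le, _root_.Matrix.cons_val_one]
  obtain ⟨v, hv, e⟩ := hs u hu
  have e1 : (v⁻¹ * (s * u * s⁻¹)) ∈ Subgroup.center (Matrix.SpecialLinearGroup (Fin 2) F) := by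
    rw [← pr_eq_one_iff, map_mul, map_inv, e, inv_mul_cancel]
  rw [Matrix.SpecialLinearGroup.mem_center_iff] at e1
  obtain ⟨r, -, hr⟩ := e1
  have e2 : ((s * u * s⁻¹ : Matrix.SpecialLinearGroup (Fin 2) F) : Matrix (Fin 2) (Fin 2) F) =
      (v : Matrix (Fin 2) (Fin 2) F) * scalar (Fin 2) r := by
    rw [hr, ← Matrix.SpecialLinearGroup.coe_mul, mul_inv_cancel_left]
  have hs10 : (s : Matrix (Fin 2) (Fin 2) F) 1 0 = 0 := by
    have e3 := congrFun (congrFun e2 1) 0
    have hv10 : (v : Matrix (Fin 2) (Fin 2) F) 1 0 = 0 := by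
      have := hv 1 0 (by decide)
      simpa using this
    rw [Matrix.SpecialLinearGroup.coe_mul, Matrix.SpecialLinearGroup.coe_mul, Matrix.SpecialLinearGroup.coe_inv,
      adjugate_fin_two] at e3
    simp only [Matrix.mul_apply, Fin.sum_univ_two, u, Matrix.scalar_apply, hv10, Matrix.diagonal_apply, _root_.Fin.isValue, _root_.Matrix.of_apply, _root_.Matrix.cons_val', _root_.Matrix.cons_val_fin_one, _root_.Matrix.cons_val_zero, _root_.Matrix.cons_val_one, _root_.mul_one, _root_.MulZeroClass.mul_zero, _root_.add_zero, _root_.mul_neg, _root_.mul_ite, _root_.Finset.sum_ite_eq', _root_.Finset.mem_univ, ↓ _root_.reduceIte, _root_.MulZeroClass.zero_mul] at e3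
    have e4 : (s : Matrix (Fin 2) (Fin 2) F) 1 0 * (s : Matrix (Fin 2) (Fin 2) F) 1 0 = 0 := by
      linear_combination -e3
    exact mul_self_eq_zero.1 e4
  have hdet : (s : Matrix (Fin 2) (Fin 2) F) 0 0 * (s : Matrix (Fin 2) (Fin 2) F) 1 1 = 1 := by
    have := s.2
    rw [det_fin_two] at this
    rw [hs10, mul_zero, sub_zero] at this
    exact this
  have ha : (a : F) * ((a⁻¹ : Fˣ) : F) = 1 := a.mul_inv
  have hform : ((dg a * (s * (dg a)⁻¹ * s⁻¹) : Matrix.SpecialLinearGroup (Fin 2) F) : Matrix (Fin 2) (Fin 2) F) =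
      !![1, ((a : F) * a - 1) * ((s : Matrix (Fin 2) (Fin 2) F) 0 0 * (s : Matrix (Fin 2) (Fin 2) F) 0 1); 0, 1] := by
    rw [Matrix.SpecialLinearGroup.coe_mul, Matrix.SpecialLinearGroup.coe_mul, Matrix.SpecialLinearGroup.coe_mul,
      Matrix.SpecialLinearGroup.coe_inv, Matrix.SpecialLinearGroup.coe_inv, adjugate_fin_two, adjugate_fin_two,
      Matrix.eta_fin_two (s : Matrix (Fin 2) (Fin 2) F)]
    simp only [dg, Matrix.SpecialLinearGroup.coe_mk, Matrix.mul_fin_two, of_apply, cons_val', cons_val_zero, cons_val_one,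
      cons_val_fin_one]
    set x := (s : Matrix (Fin 2) (Fin 2) F) 0 0
    set y := (s : Matrix (Fin 2) (Fin 2) F) 0 1
    set w := (s : Matrix (Fin 2) (Fin 2) F) 1 0
    set z := (s : Matrix (Fin 2) (Fin 2) F) 1 1
    set b := ((a⁻¹ : Fˣ) : F)
    have hw : w = 0 := hs10
    ext i j
    fin_cases i <;> fin_cases j
    · simp only [_root_.neg_zero, _root_.MulZeroClass.mul_zero, _root_.add_zero, _root_.zero_add, _root_.mul_neg, _root_.MulZeroClass.zero_mul, _root_.Fin.zero_eta, _root_.Fin.isValue, _root_.Matrix.of_apply, _root_.Matrix.cons_val', _root_.Matrix.cons_val_zero, _root_.Matrix.cons_val_fin_one]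
      linear_combination x * z * ha + hdet - a * a * y * hw
    · simp only [_root_.neg_zero, _root_.MulZeroClass.mul_zero, _root_.add_zero, _root_.zero_add, _root_.mul_neg, _root_.MulZeroClass.zero_mul, _root_.Fin.zero_eta, _root_.Fin.isValue, _root_.Fin.mk_one, _root_.Matrix.of_apply, _root_.Matrix.cons_val', _root_.Matrix.cons_val_one, _root_.Matrix.cons_val_fin_one, _root_.Matrix.cons_val_zero]
      linear_combination -(x * y) * ha
    · simp only [_root_.neg_zero, _root_.MulZeroClass.mul_zero, _root_.add_zero, _root_.zero_add, _root_.mul_neg, _root_.MulZeroClass.zero_mul, _root_.Fin.mk_one, _root_.Fin.isValue, _root_.Fin.zero_eta, _root_.Matrix.of_apply, _root_.Matrix.cons_val', _root_.Matrix.cons_val_zero, _root_.Matrix.cons_val_fin_one, _root_.Matrix.cons_val_one, _root_.mul_eq_zero]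
      right
      linear_combination (b * z - z * a) * hw
    · simp only [_root_.neg_zero, _root_.MulZeroClass.mul_zero, _root_.add_zero, _root_.zero_add, _root_.mul_neg, _root_.MulZeroClass.zero_mul, _root_.Fin.mk_one, _root_.Fin.isValue, _root_.Matrix.of_apply, _root_.Matrix.cons_val', _root_.Matrix.cons_val_one, _root_.Matrix.cons_val_fin_one]
      linear_combination x * z * ha + hdet - b * b * y * hw
  rw [mem_upper]
  intro i j hij
  rw [hform]
  clear hform
  fin_cases i <;> fin_cases j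
  · simp
  · exact absurd hij (by decide)
  · simp
  · simp

end Tor

section Main

variable {F : Type*} [Field F]

/-- the field automorphisms occurring in `A` -/
def Sig (A : Subgroup (MulAut (Matrix.ProjectiveSpecialLinearGroup (Fin 2) F))) : Subgroup (F ≃+* F) where
  carrier := {σ | ∃ s, MulAut.conj s * lift (fld σ) ∈ A}
  one_mem' := ⟨1, by rw [map_one, map_one, map_one, mul_one]; exact one_mem _⟩
  mul_mem' := by
    rintro σ τ ⟨s, hs⟩ ⟨t, ht⟩
    refine ⟨s * lift (fld σ) t, ?_⟩
    have h1 : MulAut.conj (s * lift (fld σ) t) * lift (fld (σ * τ)) =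
        (MulAut.conj s * lift (fld σ)) * (MulAut.conj t * lift (fld τ)) := by
      rw [map_mul, ← Gmn.mul_conj_inv, map_mul fld, map_mul lift]
      group
    rw [h1]
    exact mul_mem hs ht
  inv_mem' := by
    rintro σ ⟨s, hs⟩
    refine ⟨(lift (fld σ)⁻¹ s⁻¹ :), ?_⟩
    have h1 : MulAut.conj (lift (fld σ)⁻¹ s⁻¹) * lift (fld σ⁻¹) = (MulAut.conj s * lift (fld σ))⁻¹ := by
      rw [map_inv fld, map_inv lift, ← Gmn.mul_conj_inv, map_inv MulAut.conj]
      group
    rw [h1]
    exact inv_mem hs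

variable [Fintype F] {p : ℕ} [Fact p.Prime] [CharP F p]

/-- the fixed field of `Sig A` is small -/
theorem sq_eq_one (hp2 : p ≠ 2) {A : Subgroup (MulAut (Matrix.ProjectiveSpecialLinearGroup (Fin 2) F))}
    (hA : IsPGroup p A) (hQ : ∀ x, MulAut.conj x ∈ A ↔ x ∈ (upper 2 F).map pr)
    (hno : ∀ h, ¬ p ∣ orderOf h → (∀ a ∈ A, MulAut.conj h * a * (MulAut.conj h)⁻¹ ∈ A) → h = 1)
    {a : Fˣ} (ha : ∀ σ ∈ Sig A, σ (a : F) = a) : (a : F) * a = 1 := by
  classical
  apply pr_dg_eq_one
  apply hno
  · -- the order divides `q - 1`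
    intro hd
    have h1 : (pr (dg a)) ^ (Fintype.card F - 1) = 1 := by
      have h2 : a ^ (Fintype.card F - 1) = 1 := by
        rw [← Fintype.card_units]
        exact pow_card_eq_one
      have h3 : dgHom a = dg a := rfl
      rw [← h3, ← map_pow, ← map_pow, h2, map_one, map_one]
    have h2 : p ∣ Fintype.card F - 1 := hd.trans (orderOf_dvd_of_pow_eq_one h1)
    obtain ⟨n, -, hn⟩ := FiniteField.card F p
    have h3 : p ∣ Fintype.card F := by
      rw [hn]
      exact dvd_pow_self p n.ne_zero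
    have h4 : p ∣ 1 := by
      have h5 : 0 < Fintype.card F := Fintype.card_pos
      have := (Nat.dvd_sub h3 h2)
      rwa [show Fintype.card F - (Fintype.card F - 1) = 1 by omega] at this
    exact (Nat.Prime.one_lt Fact.out).ne' (Nat.dvd_one.1 h4)
  · intro α hα
    obtain ⟨k, hk⟩ := hA ⟨α, hα⟩
    have hk' : α ^ p ^ k = 1 := congrArg Subtype.val hk
    have hodd : Odd (p ^ k) := ((Nat.Prime.odd_of_ne_two Fact.out hp2).pow)
    obtain ⟨s, σ, hs⟩ := exists_dec hp2 hodd hk'
    have hσ : σ ∈ Sig A := ⟨s, by rw [← hs]; exact hα⟩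
    obtain ⟨S, rfl⟩ := pr_surjective s
    have h1 : MulAut.conj (pr (dg a)) * α * (MulAut.conj (pr (dg a)))⁻¹ =
        MulAut.conj (pr (dg a) * (α (pr (dg a)))⁻¹) * α := by
      rw [map_mul, map_inv, ← Gmn.mul_conj_inv]
      group
    rw [h1]
    refine mul_mem ((hQ _).2 ?_) hα
    have h2 : α (pr (dg a)) = pr (S * dg a * S⁻¹) := by
      rw [hs, MulAut.mul_apply, lift_pr, fld_dg σ a (ha σ hσ), MulAut.conj_apply, map_mul, map_mul, map_inv]
    rw [h2]
    refine ⟨_, comm_mem a (s := S) ?_, ?_⟩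
    · intro u hu
      have h3 : lift (fld σ⁻¹) (pr u) ∈ (upper 2 F).map pr := by
        refine ⟨fld σ⁻¹ u, ?_, rfl⟩
        rw [SetLike.mem_coe, mem_upper]
        intro i j hij
        rw [coe_fld_apply, hu i j hij]
        split_ifs
        · rw [map_one]
        · rw [map_zero]
      have h4 : MulAut.conj (α (lift (fld σ⁻¹) (pr u))) ∈ A := by
        rw [← Gmn.mul_conj_inv]
        exact mul_mem (mul_mem hα ((hQ _).2 h3)) (inv_mem hα)
      have h5 : α (lift (fld σ⁻¹) (pr u)) = pr (S * u * S⁻¹) := by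
        rw [hs, map_inv fld, map_inv lift, MulAut.mul_apply, MulAut.apply_inv_self, MulAut.conj_apply, map_mul,
          map_mul, map_inv]
      rw [h5, hQ] at h4
      obtain ⟨v, hv, e⟩ := h4
      exact ⟨v, hv, e.symm⟩
    · rw [map_mul, map_mul, map_mul, map_mul, map_mul, map_inv, map_inv]
      group

/-- a field with `a * a = 1` for all units -/
theorem card_eq_three {K : Type*} [Field K] [Fintype K] {p : ℕ} [Fact p.Prime] [CharP K p] (hp2 : p ≠ 2)
    (h : ∀ a : Kˣ, (a : K) * a = 1) : p = 3 ∧ Fintype.card K = 3 := by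
  classical
  have h1 : Fintype.card K ≤ 3 := by
    have h2 : (Finset.univ : Finset K) ⊆ {0, 1, -1} := by
      intro x _
      by_cases hx : x = 0
      · rw [hx]; simp only [_root_.Finset.mem_insert, _root_.zero_ne_one, _root_.Finset.mem_singleton, _root_.zero_eq_neg, _root_.one_ne_zero, _root_.or_self, _root_.or_false]
      · have h3 := h (Units.mk0 x hx)
        rw [Units.val_mk0] at h3
        rcases mul_self_eq_one_iff.1 h3 with h4 | h4 <;> rw [h4] <;> simp only [_root_.Finset.mem_insert, _root_.one_ne_zero, _root_.Finset.mem_singleton, _root_.true_or, _root_.or_true, _root_.neg_eq_zero]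
    have h3 := Finset.card_le_card h2
    rw [Finset.card_univ] at h3
    exact h3.trans Finset.card_le_three
  obtain ⟨n, hpp, hn⟩ := FiniteField.card K p
  have h2 : p ^ 1 ≤ Fintype.card K := by
    rw [hn]
    exact Nat.pow_le_pow_right hpp.pos n.pos
  rw [pow_one] at h2
  have h3 : 3 ≤ p := by
    have := hpp.two_le
    omega
  exact ⟨by omega, by omega⟩

omit [Fintype F] in
theorem lift_fld_injective {σ τ : F ≃+* F} {s : Matrix.SpecialLinearGroup (Fin 2) F}
    (h : MulAut.conj (pr s) * lift (fld σ) = lift (fld τ)) : σ = τ := by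
  have h1 : ∃ C : GL (Fin 2) F, lift (cj C) = MulAut.conj (pr s) := by
    refine ⟨Matrix.SpecialLinearGroup.toGL s, ?_⟩
    apply MulEquiv.ext
    intro x
    obtain ⟨x, rfl⟩ := pr_surjective x
    rw [lift_pr, MulAut.conj_apply, ← map_inv, ← map_mul, ← map_mul]
    congr 1
  obtain ⟨C, hC⟩ := h1
  have h2 : lift (cj C * fld σ) = lift (fld τ) := by rw [map_mul, hC, h]
  exact (injective_aux h2).2

/-- **The exceptional case**, for the standard Sylow subgroup. -/
theorem exc_std (hp2 : p ≠ 2) {A : Subgroup (MulAut (Matrix.ProjectiveSpecialLinearGroup (Fin 2) F))}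
    (hA : IsPGroup p A) (hQ : ∀ x, MulAut.conj x ∈ A ↔ x ∈ (upper 2 F).map pr)
    (hno : ∀ h, ¬ p ∣ orderOf h → (∀ a ∈ A, MulAut.conj h * a * (MulAut.conj h)⁻¹ ∈ A) → h = 1) :
    p = 3 ∧ (∃ k, Fintype.card F = 3 ^ 3 ^ k) ∧ Sig A = ⊤ := by
  classical
  have : Finite (F ≃+* F) := Finite.of_injective (fun σ : F ≃+* F => (σ : F → F)) DFunLike.coe_injective
  let _ : Fintype (Sig A) := Fintype.ofFinite _
  let _ : Fintype (F ≃+* F) := Fintype.ofFinite _
  let K := FixedPoints.subfield (Sig A) F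
  let _ : Fintype K := Fintype.ofFinite _
  have hKp : CharP K p := (RingHom.charP_iff K.subtype K.subtype_injective p).2 inferInstance
  obtain ⟨hp3, hK⟩ := card_eq_three (K := K) hp2 (fun a => by
    let a' : Fˣ := Units.map (K.subtype : K →* F) a
    have h1 : (a' : F) * a' = 1 := by
      refine sq_eq_one hp2 hA hQ hno fun σ hσ => ?_
      exact (a : K).2 ⟨σ, hσ⟩
    exact Subtype.ext h1)
  have h1 := Module.card_eq_pow_finrank (K := K) (V := F)
  rw [FixedPoints.finrank_eq_card, hK] at h1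
  -- all field automorphisms
  let K' := FixedPoints.subfield (F ≃+* F) F
  let _ : Fintype K' := Fintype.ofFinite _
  have hKp' : CharP K' p := (RingHom.charP_iff K'.subtype K'.subtype_injective p).2 inferInstance
  have h2 := Module.card_eq_pow_finrank (K := K') (V := F)
  rw [FixedPoints.finrank_eq_card] at h2
  have h3 : 3 ≤ Fintype.card K' := by
    obtain ⟨n, hpp, hn⟩ := FiniteField.card K' p
    rw [hn, hp3]
    calc 3 = 3 ^ 1 := rfl
      _ ≤ 3 ^ (n : ℕ) := Nat.pow_le_pow_right (by norm_num) n.pos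
  have h4 : Fintype.card (F ≃+* F) ≤ Fintype.card (Sig A) := by
    have h5 : 3 ^ Fintype.card (F ≃+* F) ≤ 3 ^ Fintype.card (Sig A) := by
      rw [← h1, h2]
      exact Nat.pow_le_pow_left h3 _
    exact (Nat.pow_le_pow_iff_right (by norm_num)).1 h5
  have htop : Sig A = ⊤ := by
    refine Subgroup.eq_top_of_card_eq _ ?_
    rw [Nat.card_eq_fintype_card, Nat.card_eq_fintype_card]
    exact le_antisymm (Fintype.card_le_of_injective _ Subtype.val_injective) h4
  refine ⟨hp3, ?_, htop⟩
  -- `Sig A` is a `3`-group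
  have hSp : IsPGroup 3 (Sig A) := by
    rintro ⟨σ, s, hs⟩
    obtain ⟨k, hk⟩ := hA ⟨_, hs⟩
    have hk' : (MulAut.conj s * lift (fld σ)) ^ p ^ k = 1 := congrArg Subtype.val hk
    refine ⟨k, Subtype.ext ?_⟩
    show σ ^ 3 ^ k = 1
    rw [← hp3]
    have h5 : ∀ n : ℕ, ∃ t, (MulAut.conj s * lift (fld σ)) ^ n = MulAut.conj t * lift (fld (σ ^ n)) := by
      intro n
      induction n with
      | zero => exact ⟨1, by simp only [_root_.pow_zero, _root_.map_one, _root_.mul_one]⟩
      | succ n ih =>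
        obtain ⟨t, ht⟩ := ih
        refine ⟨t * lift (fld (σ ^ n)) s, ?_⟩
        rw [pow_succ, ht, pow_succ, map_mul, ← Gmn.mul_conj_inv, map_mul fld, map_mul lift]
        group
    obtain ⟨t, ht⟩ := h5 (p ^ k)
    obtain ⟨T, rfl⟩ := pr_surjective t
    rw [hk'] at ht
    refine lift_fld_injective (s := T) ?_
    rw [← ht, map_one, map_one]
  obtain ⟨k, hk⟩ := hSp.exists_card_eq
  refine ⟨k, ?_⟩
  rw [h1, ← Nat.card_eq_fintype_card (α := Sig A), hk]

/-- **The exceptional case of the Guralnick–Malle–Navarro theorem.** -/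
theorem exc (hp2 : p ≠ 2) (hZ : center (Matrix.ProjectiveSpecialLinearGroup (Fin 2) F) = ⊥)
    {A : Subgroup (MulAut (Matrix.ProjectiveSpecialLinearGroup (Fin 2) F))}
    (hA : IsPGroup p A) (Q : Sylow p (Matrix.ProjectiveSpecialLinearGroup (Fin 2) F)) (hQ : ∀ x ∈ Q, MulAut.conj x ∈ A)
    (hno : ∀ h, ¬ p ∣ orderOf h → (∀ a ∈ A, MulAut.conj h * a * (MulAut.conj h)⁻¹ ∈ A) → h = 1) :
    p = 3 ∧ (∃ k, Fintype.card F = 3 ^ 3 ^ k) ∧ ∀ σ : F ≃+* F, ∃ s, MulAut.conj s * lift (fld σ) ∈ A := by
  obtain ⟨U, hU⟩ := exists_sylow (F := F) 2 p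
  obtain ⟨g, hg⟩ := MulAction.exists_smul_eq (Matrix.ProjectiveSpecialLinearGroup (Fin 2) F) Q U
  let c : MulAut (Matrix.ProjectiveSpecialLinearGroup (Fin 2) F) := MulAut.conj g
  let B : Subgroup (MulAut (Matrix.ProjectiveSpecialLinearGroup (Fin 2) F)) := A.map (MulAut.conj c).toMonoidHom
  have hmem : ∀ x, x ∈ B ↔ c⁻¹ * x * c ∈ A := by
    intro x
    constructor
    · rintro ⟨a, ha, rfl⟩
      have h1 : c⁻¹ * (MulAut.conj c).toMonoidHom a * c = a := by
        show c⁻¹ * (c * a * c⁻¹) * c = a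
        group
      rw [h1]
      exact ha
    · intro h
      refine ⟨_, h, ?_⟩
      show c * (c⁻¹ * x * c) * c⁻¹ = x
      group
  have hB : IsPGroup p B := hA.map _
  have hcc : ∀ x, c⁻¹ * MulAut.conj x * c = MulAut.conj (g⁻¹ * x * g) := by
    intro x
    rw [map_mul, map_mul, map_inv]
  have hQB : ∀ x, MulAut.conj x ∈ B ↔ x ∈ (upper 2 F).map pr := by
    intro x
    rw [hmem, hcc, ← hU]
    have h1 : x ∈ (U : Subgroup (Matrix.ProjectiveSpecialLinearGroup (Fin 2) F)) ↔ g⁻¹ * x * g ∈ Q := by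
      rw [← hg]
      constructor
      · rintro ⟨y, hy, rfl⟩
        have h2 : g⁻¹ * (g * y * g⁻¹) * g = y := by group
        show g⁻¹ * (g * y * g⁻¹) * g ∈ Q
        rw [h2]
        exact hy
      · intro h
        refine ⟨_, h, ?_⟩
        show g * (g⁻¹ * x * g) * g⁻¹ = x
        group
    rw [h1]
    exact ⟨fun h => Gmn.mem_sylow_of_conj_mem hZ hA Q hQ h, hQ _⟩
  obtain ⟨h1, h2, h3⟩ := exc_std hp2 hB hQB (fun h hh hn => by
    have h4 : g⁻¹ * h * g = 1 := by
      refine hno _ ?_ fun a ha => ?_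
      · have h5 : orderOf (g⁻¹ * h * g) = orderOf h := by
          have h6 : g⁻¹ * h * g = MulAut.conj g⁻¹ h := by rw [MulAut.conj_apply, inv_inv]
          rw [h6]
          exact orderOf_injective (MulAut.conj g⁻¹).toMonoidHom (MulAut.conj g⁻¹).injective h
        rw [h5]
        exact hh
      · have h5 := hn (c * a * c⁻¹) ((hmem _).2 (by
          have h6 : c⁻¹ * (c * a * c⁻¹) * c = a := by group
          rw [h6]
          exact ha))
        rw [hmem] at h5
        rw [← hcc]
        have h6 : c⁻¹ * MulAut.conj h * c * a * (c⁻¹ * MulAut.conj h * c)⁻¹ =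
            c⁻¹ * (MulAut.conj h * (c * a * c⁻¹) * (MulAut.conj h)⁻¹) * c := by group
        rw [h6]
        exact h5
    calc h = g * (g⁻¹ * h * g) * g⁻¹ := by group
      _ = 1 := by rw [h4]; group)
  refine ⟨h1, h2, fun σ => ?_⟩
  obtain ⟨s, hs⟩ : σ ∈ Sig B := by rw [h3]; trivial
  rw [hmem] at hs
  refine ⟨g⁻¹ * s * lift (fld σ) g, ?_⟩
  have h4 : MulAut.conj (g⁻¹ * s * lift (fld σ) g) * lift (fld σ) = c⁻¹ * (MulAut.conj s * lift (fld σ)) * c := by
    rw [map_mul, map_mul, map_inv, ← Gmn.mul_conj_inv]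
    change (MulAut.conj g)⁻¹ * MulAut.conj s * (lift (fld σ) * MulAut.conj g * (lift (fld σ))⁻¹) * lift (fld σ) =
      (MulAut.conj g)⁻¹ * (MulAut.conj s * lift (fld σ)) * MulAut.conj g
    group
  rw [h4]
  exact hs

/-- the exceptional case, with matrices and the Frobenius automorphism -/
theorem exc_frob (hp2 : p ≠ 2) (hZ : center (Matrix.ProjectiveSpecialLinearGroup (Fin 2) F) = ⊥)
    {A : Subgroup (MulAut (Matrix.ProjectiveSpecialLinearGroup (Fin 2) F))}
    (hA : IsPGroup p A) (Q : Sylow p (Matrix.ProjectiveSpecialLinearGroup (Fin 2) F)) (hQ : ∀ x ∈ Q, MulAut.conj x ∈ A)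
    (hno : ∀ h, ¬ p ∣ orderOf h → (∀ a ∈ A, MulAut.conj h * a * (MulAut.conj h)⁻¹ ∈ A) → h = 1) :
    p = 3 ∧ (∃ k, Fintype.card F = 3 ^ 3 ^ k) ∧ ¬ IsSquare (-1 : F) ∧
    ∃ (σ : F ≃+* F) (M : Matrix.SpecialLinearGroup (Fin 2) F), ∃ α ∈ A, (∀ c, σ c = c ^ 3) ∧
      (∀ c, σ c = c → c = 0 ∨ c = 1 ∨ c = -1) ∧
      ∀ x : Matrix.SpecialLinearGroup (Fin 2) F, α (pr x) = pr (M * fld σ x * M⁻¹) := by
  obtain ⟨h1, ⟨k, hk⟩, h3⟩ := exc hp2 hZ hA Q hQ hno
  subst h1
  have hF3 : CharP F 3 := inferInstance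
  let σ : F ≃+* F := frobeniusEquiv F 3
  have hσ : ∀ c, σ c = c ^ 3 := fun c => rfl
  obtain ⟨s, hs⟩ := h3 σ
  obtain ⟨M, rfl⟩ := pr_surjective s
  refine ⟨rfl, ⟨k, hk⟩, ?_, σ, M, _, hs, hσ, ?_, ?_⟩
  · have h4 : Fintype.card F % 4 = 3 := by
      rw [hk]
      obtain ⟨m, hm⟩ : Odd (3 ^ k) := Odd.pow (by decide)
      rw [hm, pow_add, pow_mul, Nat.mul_mod, Nat.pow_mod]
      norm_num
    intro h5
    exact (FiniteField.isSquare_neg_one_iff.1 h5) h4
  · intro c hc
    rw [hσ] at hc
    have h4 : c * ((c - 1) * (c + 1)) = 0 := by linear_combination hc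
    rcases mul_eq_zero.1 h4 with h5 | h5
    · exact Or.inl h5
    · rcases mul_eq_zero.1 h5 with h6 | h6
      · exact Or.inr (Or.inl (sub_eq_zero.1 h6))
      · exact Or.inr (Or.inr (eq_neg_of_add_eq_zero_left h6))
  · intro x
    rw [MulAut.mul_apply, lift_pr, MulAut.conj_apply, map_mul, map_mul, map_inv]

end Main

end Cfsg.Agent.H712.Exc
end

-- part: H663/GmnPslC
section
/-!
# `PSL₂(3^f)` satisfies the conditions `Exc`, second part (helper663)

`psl_mem` : the irreducible characters of `PSL₂(F)`, `F` of characteristic `3`, `-1` not a square,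
of degree prime to `3` and invariant under an automorphism of `3`-power order inducing a field
automorphism with fixed points `0, 1, -1`, are the trivial one and those of degree `(q - 1) / 2`.
`exc_psl` : `PSL₂(F)` satisfies `Exc`.
-/

set_option autoImplicit false
set_option linter.style.haveILetI false
set_option linter.unusedSectionVars false
set_option linter.unusedSimpArgs false
open Cfsg

namespace Cfsg.Agent.H663.GmnPsl

open Matrix Cfsg.Agent.Characters.Core Cfsg.Agent.H670.RankOne Cfsg.Agent.H670.SL2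
open Cfsg.Agent.H663.GmnStep Cfsg.Agent.Characters.Clifford Cfsg.Agent.H672
open Cfsg.Agent.ClassicalGeometry.AutPSL.Root (pr pr_surjective pr_eq_one_iff)
open Cfsg.Agent.ClassicalGeometry.AutPSL.Auto (fld coe_fld_apply)

universe u v w

section classes
variable {F : Type v} [Field F]

theorem mem_center_iff {g : _root_.Matrix.SpecialLinearGroup (Fin 2) F} :
    g ∈ Subgroup.center (_root_.Matrix.SpecialLinearGroup (Fin 2) F) ↔ g = 1 ∨ g = tor (-1) := by
  constructor
  · intro hg
    obtain ⟨r, hr, hrg⟩ := Matrix.SpecialLinearGroup.mem_center_iff.1 hg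
    rw [Fintype.card_fin] at hr
    have e0 : e00 g = r := by
      show (g : Matrix (Fin 2) (Fin 2) F) 0 0 = r
      rw [← hrg]; simp [scalar_apply]
    have e1 : e11 g = r := by
      show (g : Matrix (Fin 2) (Fin 2) F) 1 1 = r
      rw [← hrg]; simp [scalar_apply]
    have e2 : e01 g = 0 := by
      show (g : Matrix (Fin 2) (Fin 2) F) 0 1 = 0
      rw [← hrg]; simp [scalar_apply]
    have e3 : e10 g = 0 := by
      show (g : Matrix (Fin 2) (Fin 2) F) 1 0 = 0
      rw [← hrg]; simp [scalar_apply]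
    rcases mul_self_eq_one_iff.1 ((pow_two r).symm.trans hr) with h1 | h1
    · left
      apply ext4
      · rw [e0, h1]; rfl
      · rw [e2]; rfl
      · rw [e3]; rfl
      · rw [e1, h1]; rfl
    · right
      apply ext4
      · rw [e0, h1, tor00, Units.val_neg, Units.val_one]
      · rw [e2, tor01]
      · rw [e3, tor10]
      · rw [e1, h1, tor11, inv_neg, inv_one, Units.val_neg, Units.val_one]
  · rintro (rfl | rfl)
    · exact Subgroup.one_mem _
    · rw [Subgroup.mem_center_iff]
      intro g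
      exact (tor_neg_one_central' g).symm
where
  tor_neg_one_central' (g : _root_.Matrix.SpecialLinearGroup (Fin 2) F) : tor (-1) * g = g * tor (-1) := by
    apply ext4 <;> simp only [mul00, mul01, mul10, mul11, tor00, tor01, tor10, tor11, inv_neg, inv_one,
      Units.val_neg, Units.val_one] <;> ring

theorem pr_neg (g : _root_.Matrix.SpecialLinearGroup (Fin 2) F) : pr (tor (-1) * g) = pr g := by
  rw [map_mul, (pr_eq_one_iff _).2 (mem_center_iff.2 (Or.inr rfl)), one_mul]

theorem pr_eq_iff {g g' : _root_.Matrix.SpecialLinearGroup (Fin 2) F} : pr g = pr g' ↔ g = g' ∨ g = tor (-1) * g' := by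
  rw [← mul_inv_eq_one, ← map_inv, ← map_mul, pr_eq_one_iff, mem_center_iff, mul_inv_eq_one,
    mul_inv_eq_iff_eq_mul]

/-- The trace. -/
def tr (g : _root_.Matrix.SpecialLinearGroup (Fin 2) F) : F := e00 g + e11 g

theorem tr_mul_comm (g h : _root_.Matrix.SpecialLinearGroup (Fin 2) F) : tr (g * h) = tr (h * g) := by
  simp only [tr, mul00, mul11]; ring

theorem tr_conj (g h : _root_.Matrix.SpecialLinearGroup (Fin 2) F) : tr (g * h * g⁻¹) = tr h := by
  rw [tr_mul_comm, inv_mul_cancel_left]

theorem tr_neg (g : _root_.Matrix.SpecialLinearGroup (Fin 2) F) : tr (tor (-1) * g) = -tr g := by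
  simp only [tr, mul00, mul11, tor00, tor01, tor10, tor11, inv_neg, inv_one, Units.val_neg,
    Units.val_one]
  ring

/-- Elements of trace `2` are conjugate to upper unitriangular ones. -/
theorem conj_x_of_tr {g : _root_.Matrix.SpecialLinearGroup (Fin 2) F} (h : tr g = 2) : ∃ s, IsConj (x s) g := by
  have hdet := det_eq g
  have h11 : e11 g = 2 - e00 g := by
    rw [← h]; simp only [tr]; ring
  rw [h11] at hdet
  by_cases hc : e10 g = 0
  · rw [hc, mul_zero, sub_zero] at hdet
    have h1 : (e00 g - 1) ^ 2 = 0 := by linear_combination -hdet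
    have h2 : e00 g = 1 := by
      have := pow_eq_zero_iff (two_ne_zero) |>.1 h1
      exact sub_eq_zero.1 this
    refine ⟨e01 g, ?_⟩
    have : x (e01 g) = g := by
      apply ext4
      · rw [x00, h2]
      · rw [x01]
      · rw [x10, hc]
      · rw [x11, h11, h2]; ring
    rw [this]
  · refine ⟨-e10 g, ?_⟩
    rw [isConj_iff]
    refine ⟨x ((e00 g - 1) / e10 g) * wel, ?_⟩
    rw [mul_inv_eq_iff_eq_mul]
    apply ext4 <;> simp only [mul00, mul01, mul10, mul11, x00, x01, x10, x11, wel00, wel01, wel10,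
      wel11, h11] <;> field_simp
    · linear_combination -hdet
    · ring
    · ring
    · ring

theorem conj_x_mul (v : Fˣ) (s : F) : IsConj (x s) (x ((v : F) ^ 2 * s)) := by
  rw [isConj_iff]
  refine ⟨tor v, ?_⟩
  rw [mul_inv_eq_iff_eq_mul, tor_mul_x]

end classes

section
variable {F : Type v} [Field F] [Fintype F] [CharP F 3] (h1 : ¬ IsSquare (-1 : F))

include h1 in
/-- The conjugacy classes of `PSL₂` of trace `t`, `t² ∈ {0, 1}`. -/
theorem class_cases (g : _root_.Matrix.SpecialLinearGroup (Fin 2) F) (hg : tr g = 0 ∨ tr g = 1 ∨ tr g = -1) :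
    ConjClasses.mk (pr g) = ConjClasses.mk (pr 1) ∨ ConjClasses.mk (pr g) = ConjClasses.mk (pr (x 1)) ∨
    ConjClasses.mk (pr g) = ConjClasses.mk (pr (x (-1))) ∨
    ConjClasses.mk (pr g) = ConjClasses.mk (pr wel) := by
  classical
  have h30 : (3 : F) = 0 := by
    have := CharP.cast_eq_zero F 3
    exact_mod_cast this
  have hx : ∀ g' : _root_.Matrix.SpecialLinearGroup (Fin 2) F, tr g' = 2 →
      ConjClasses.mk (pr g') = ConjClasses.mk (pr 1) ∨ ConjClasses.mk (pr g') = ConjClasses.mk (pr (x 1)) ∨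
      ConjClasses.mk (pr g') = ConjClasses.mk (pr (x (-1))) := by
    intro g' hg'
    obtain ⟨s, hs⟩ := conj_x_of_tr hg'
    have hs' : ConjClasses.mk (pr g') = ConjClasses.mk (pr (x s)) :=
      ConjClasses.mk_eq_mk_iff_isConj.2 (MonoidHom.map_isConj pr hs).symm
    by_cases hs0 : s = 0
    · left
      rw [hs', hs0]
      have : x (0 : F) = 1 := (data F).X_zero
      rw [this]
    right
    have hv : ∀ c : F, c ≠ 0 → IsSquare (s * c⁻¹) →
        ConjClasses.mk (pr g') = ConjClasses.mk (pr (x c)) := by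
      intro c hc hsq
      obtain ⟨v, hv⟩ := hsq
      have hv0 : v ≠ 0 := by
        rintro rfl
        rw [mul_zero] at hv
        exact mul_ne_zero hs0 (inv_ne_zero hc) hv
      rw [hs']
      apply ConjClasses.mk_eq_mk_iff_isConj.2
      have h2 := conj_x_mul (Units.mk0 v hv0) c
      rw [Units.val_mk0, pow_two, ← hv, inv_mul_cancel_right₀ hc] at h2
      exact (MonoidHom.map_isConj pr h2).symm
    by_cases hsq : IsSquare s
    · left
      exact hv 1 one_ne_zero (by rw [inv_one, mul_one]; exact hsq)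
    · right
      refine hv (-1) (neg_ne_zero.2 one_ne_zero) ?_
      rw [← quadraticChar_one_iff_isSquare (mul_ne_zero hs0 (inv_ne_zero (neg_ne_zero.2 one_ne_zero))),
        map_mul, inv_neg, inv_one, quadraticChar_neg_one_iff_not_isSquare.2 hsq,
        quadraticChar_neg_one_iff_not_isSquare.2 h1]
      norm_num
  rcases hg with hg | hg | hg
  · -- involutions
    right; right; right
    have hodd : Odd (Fintype.card F) := by
      have h2 := FiniteField.isSquare_neg_one_iff (F := F)
      have h3 : Fintype.card F % 4 = 3 := by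
        by_contra h4
        exact h1 (h2.2 h4)
      exact Nat.odd_iff.2 (by omega)
    have hord : ∀ g' : _root_.Matrix.SpecialLinearGroup (Fin 2) F, tr g' = 0 → orderOf (pr g') = 2 := by
      intro g' hg'
      have h11 : e11 g' = -e00 g' := by
        have : e00 g' + e11 g' = 0 := hg'
        linear_combination this
      have hdet := det_eq g'
      rw [h11] at hdet
      apply orderOf_eq_prime
      · rw [pow_two, ← map_mul, pr_eq_one_iff, mem_center_iff]
        right
        apply ext4 <;> simp only [mul00, mul01, mul10, mul11, tor00, tor01, tor10, tor11, inv_neg,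
          inv_one, Units.val_neg, Units.val_one, h11]
        · linear_combination -hdet
        · ring
        · ring
        · linear_combination -hdet
      · intro h2
        rw [pr_eq_one_iff, mem_center_iff] at h2
        have h3 : tr g' = 2 ∨ tr g' = -2 := by
          rcases h2 with h2 | h2
          · left
            rw [h2]
            show (1 : F) + 1 = 2
            norm_num
          · right
            rw [h2]
            simp only [tr, tor00, tor11, inv_neg, inv_one, Units.val_neg, Units.val_one]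
            ring
        rw [hg'] at h3
        rcases h3 with h3 | h3
        · exact one_ne_zero (by linear_combination h30 + h3 : (1 : F) = 0)
        · exact one_ne_zero (by linear_combination h30 - h3 : (1 : F) = 0)
    apply ConjClasses.mk_eq_mk_iff_isConj.2
    refine Cfsg.Agent.ClassicalGeometry.SLTwoFour.psl_isConj hodd _ _ (hord g hg) (hord wel ?_)
    show (0 : F) + 0 = 0
    ring
  · have h2 : tr (tor (-1) * g) = 2 := by
      rw [tr_neg, hg]
      linear_combination -h30
    have h3 := hx _ h2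
    rw [pr_neg] at h3
    rcases h3 with h3 | h3 | h3
    · left; exact h3
    · right; left; exact h3
    · right; right; left; exact h3
  · have h2 : tr g = 2 := by
      rw [hg]
      linear_combination -h30
    rcases hx g h2 with h3 | h3 | h3
    · left; exact h3
    · right; left; exact h3
    · right; right; left; exact h3

include h1 in
/-- At most four classes are invariant. -/
theorem card_classes_le {σ : F ≃+* F} (hσ : ∀ c, σ c = c → c = 0 ∨ c = 1 ∨ c = -1)
    {M : _root_.Matrix.SpecialLinearGroup (Fin 2) F} {α : MulAut (ProjectiveSpecialLinearGroup (Fin 2) F)}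
    (hα : ∀ g : _root_.Matrix.SpecialLinearGroup (Fin 2) F, α (pr g) = pr (M * fld σ g * M⁻¹)) :
    Nat.card {C : ConjClasses (ProjectiveSpecialLinearGroup (Fin 2) F) //
      ConjClasses.map (α : ProjectiveSpecialLinearGroup (Fin 2) F ≃*
        ProjectiveSpecialLinearGroup (Fin 2) F).toMonoidHom C = C} ≤ 4 := by
  classical
  let T : Finset (ConjClasses (ProjectiveSpecialLinearGroup (Fin 2) F)) :=
    {ConjClasses.mk (pr 1), ConjClasses.mk (pr (x 1)), ConjClasses.mk (pr (x (-1))),
      ConjClasses.mk (pr wel)}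
  have hT : T.card ≤ 4 := Finset.card_le_four
  have key : ∀ C : ConjClasses (ProjectiveSpecialLinearGroup (Fin 2) F),
      ConjClasses.map (α : ProjectiveSpecialLinearGroup (Fin 2) F ≃*
        ProjectiveSpecialLinearGroup (Fin 2) F).toMonoidHom C = C → C ∈ T := by
    intro C hC
    obtain ⟨z, rfl⟩ := ConjClasses.mk_surjective C
    obtain ⟨g, rfl⟩ := pr_surjective z
    have h2 : IsConj (α (pr g)) (pr g) := ConjClasses.mk_eq_mk_iff_isConj.1 hC
    obtain ⟨z, hz⟩ := isConj_iff.1 h2
    obtain ⟨b, rfl⟩ := pr_surjective z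
    rw [hα, ← map_inv, ← map_mul, ← map_mul, pr_eq_iff] at hz
    have htr : tr (fld σ g) = σ (tr g) := by
      simp only [tr, map_add]
      rfl
    have h3 : σ (tr g) = tr g ∨ σ (tr g) = -tr g := by
      rcases hz with hz | hz
      · left
        have h4 := congrArg tr hz
        rw [tr_conj, tr_conj, htr] at h4
        exact h4
      · right
        have h4 := congrArg tr hz
        rw [tr_conj, tr_conj, htr, tr_neg] at h4
        exact h4
    have h4 : σ (tr g ^ 2) = tr g ^ 2 := by
      rw [map_pow]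
      rcases h3 with h3 | h3
      · rw [h3]
      · rw [h3, neg_sq]
    have h5 : tr g = 0 ∨ tr g = 1 ∨ tr g = -1 := by
      rcases hσ _ h4 with h5 | h5 | h5
      · left
        exact pow_eq_zero_iff two_ne_zero |>.1 h5
      · right
        exact mul_self_eq_one_iff.1 ((pow_two _).symm.trans h5)
      · exact absurd ⟨tr g, by rw [← h5, pow_two]⟩ h1
    simp only [T, Finset.mem_insert, Finset.mem_singleton]
    exact class_cases h1 g h5
  have hinj : Function.Injective (fun C : {C : ConjClasses (ProjectiveSpecialLinearGroup (Fin 2) F) //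
      ConjClasses.map (α : ProjectiveSpecialLinearGroup (Fin 2) F ≃*
        ProjectiveSpecialLinearGroup (Fin 2) F).toMonoidHom C = C} => (⟨C.1, key C.1 C.2⟩ : T)) := by
    intro C D hCD
    exact Subtype.ext (congrArg (fun z : T => z.1) hCD)
  have h2 := Nat.card_le_card_of_injective _ hinj
  rw [Nat.card_eq_fintype_card (α := T), Fintype.card_coe] at h2
  exact h2.trans hT

end

end Cfsg.Agent.H663.GmnPsl
end

-- part: H663/GmnPslD
section
/-!
# `PSL₂(3^f)` satisfies the conditions `Exc`, conclusion (helper663)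
-/

set_option autoImplicit false
set_option linter.style.haveILetI false
set_option linter.unusedSectionVars false
set_option linter.unusedSimpArgs false
open Cfsg

namespace Cfsg.Agent.H663.GmnPsl

open Matrix Cfsg.Agent.Characters.Core Cfsg.Agent.H670.RankOne Cfsg.Agent.H670.SL2
open Cfsg.Agent.H663.GmnStep Cfsg.Agent.Characters.Clifford Cfsg.Agent.H672
open Cfsg.Agent.ClassicalGeometry.AutPSL.Root (pr pr_surjective pr_eq_one_iff)
open Cfsg.Agent.ClassicalGeometry.AutPSL.Auto (fld coe_fld_apply)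

universe u v w

section
variable {F : Type v} [Field F] [Fintype F] [CharP F 3] (h1 : ¬ IsSquare (-1 : F)) {h : ℕ}
  (hq : Fintype.card F = 2 * h + 1) (hh : 1 < h)

include h1 hq in
theorem odd_h : Odd h := by
  have h2 := FiniteField.isSquare_neg_one_iff (F := F)
  have h3 : Fintype.card F % 4 = 3 := by
    by_contra h4
    exact h1 (h2.2 h4)
  exact Nat.odd_iff.2 (by omega)

include h1 hq hh in
/-- The characters of degree `(q - 1) / 2` of `SL₂` come from `PSL₂`. -/
theorem exists_defl {χ : _root_.Matrix.SpecialLinearGroup (Fin 2) F → ℂ}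
    (hχ : IsIrrCharacter (_root_.Matrix.SpecialLinearGroup (Fin 2) F) χ) (hd : χ 1 = h) :
    ∃ η : IrrCharacter (ProjectiveSpecialLinearGroup (Fin 2) F),
      χ = (η : ProjectiveSpecialLinearGroup (Fin 2) F → ℂ) ∘ pr := by
  classical
  have := Fintype.ofFinite (_root_.Matrix.SpecialLinearGroup (Fin 2) F)
  refine Blocks.Deflate.exists_deflation (Subgroup.center (_root_.Matrix.SpecialLinearGroup (Fin 2) F)) χ hχ ?_
  have hz : ∀ z : Subgroup.center (_root_.Matrix.SpecialLinearGroup (Fin 2) F), χ z = h := by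
    rintro ⟨z, hz⟩
    rcases mem_center_iff.1 hz with rfl | rfl
    · exact hd
    · rw [← hd]
      exact one_of_odd (perfect (by omega)) hχ hd (odd_h h1 hq) tor_neg_one_central neg_one_sq
  rw [Finset.sum_congr rfl fun z _ => hz z, Finset.sum_const, nsmul_eq_mul]
  refine mul_ne_zero (Nat.cast_ne_zero.2 ?_) (Nat.cast_ne_zero.2 (by omega))
  rw [Finset.card_univ]
  exact Fintype.card_ne_zero

theorem isIrr_pr (η : IrrCharacter (ProjectiveSpecialLinearGroup (Fin 2) F)) :
    IsIrrCharacter (_root_.Matrix.SpecialLinearGroup (Fin 2) F)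
      ((η : ProjectiveSpecialLinearGroup (Fin 2) F → ℂ) ∘ pr) :=
  isIrr_comp pr pr_surjective η.2

theorem eq_of_pr {η η' : IrrCharacter (ProjectiveSpecialLinearGroup (Fin 2) F)}
    (he : (η : ProjectiveSpecialLinearGroup (Fin 2) F → ℂ) ∘ pr =
      (η' : ProjectiveSpecialLinearGroup (Fin 2) F → ℂ) ∘ pr) : η = η' := by
  apply Subtype.ext
  funext z
  obtain ⟨g, rfl⟩ := pr_surjective z
  exact congrFun he g

include h1 hq hh in
/-- There are exactly two characters of degree `(q - 1) / 2`. -/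
theorem exists_two : ∃ η₁ η₂ : IrrCharacter (ProjectiveSpecialLinearGroup (Fin 2) F), η₁ ≠ η₂ ∧
    ∀ η : IrrCharacter (ProjectiveSpecialLinearGroup (Fin 2) F),
      charDegree (η : ProjectiveSpecialLinearGroup (Fin 2) F → ℂ) = h ↔ η = η₁ ∨ η = η₂ := by
  classical
  have := finite_irr (G := _root_.Matrix.SpecialLinearGroup (Fin 2) F)
  have : Fintype (IrrCharacter (_root_.Matrix.SpecialLinearGroup (Fin 2) F)) := Fintype.ofFinite _
  obtain ⟨-, -, -, -, -, -, c7, c8⟩ := counts h1 hq
  rw [N, Finset.card_eq_one] at c7 c8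
  obtain ⟨χ₁, hχ₁⟩ := c7
  obtain ⟨χ₂, hχ₂⟩ := c8
  have t1 : ty (-1) χ₁ = (0, 1, 0) := by
    have : χ₁ ∈ (Finset.univ.filter fun χ : IrrCharacter (_root_.Matrix.SpecialLinearGroup (Fin 2) F) =>
      ty (-1) χ = (0, 1, 0)) := by rw [hχ₁]; exact Finset.mem_singleton_self _
    exact (Finset.mem_filter.1 this).2
  have t2 : ty (-1) χ₂ = (0, 0, 1) := by
    have : χ₂ ∈ (Finset.univ.filter fun χ : IrrCharacter (_root_.Matrix.SpecialLinearGroup (Fin 2) F) =>
      ty (-1) χ = (0, 0, 1)) := by rw [hχ₂]; exact Finset.mem_singleton_self _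
    exact (Finset.mem_filter.1 this).2
  have d1 : (χ₁ : _root_.Matrix.SpecialLinearGroup (Fin 2) F → ℂ) 1 = h := by
    rw [degree_eq_ty h1 χ₁ hq, t1]; simp
  have d2 : (χ₂ : _root_.Matrix.SpecialLinearGroup (Fin 2) F → ℂ) 1 = h := by
    rw [degree_eq_ty h1 χ₂ hq, t2]; simp
  obtain ⟨η₁, e1⟩ := exists_defl h1 hq hh χ₁.2 d1
  obtain ⟨η₂, e2⟩ := exists_defl h1 hq hh χ₂.2 d2
  have hinfl : ∀ η : IrrCharacter (ProjectiveSpecialLinearGroup (Fin 2) F), ∀ χ,
      (χ : IrrCharacter (_root_.Matrix.SpecialLinearGroup (Fin 2) F)).1 =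
        (η : ProjectiveSpecialLinearGroup (Fin 2) F → ℂ) ∘ pr →
      (χ : _root_.Matrix.SpecialLinearGroup (Fin 2) F → ℂ) 1 = h →
      charDegree (η : ProjectiveSpecialLinearGroup (Fin 2) F → ℂ) = h := by
    intro η χ e d
    apply charDegree_of_eq
    rw [e] at d
    exact d
  refine ⟨η₁, η₂, ?_, fun η => ⟨fun hη => ?_, ?_⟩⟩
  · rintro rfl
    have : χ₁ = χ₂ := Subtype.ext (e1.trans e2.symm)
    rw [this, t2] at t1
    simp at t1
  · let χ : IrrCharacter (_root_.Matrix.SpecialLinearGroup (Fin 2) F) :=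
      ⟨(η : ProjectiveSpecialLinearGroup (Fin 2) F → ℂ) ∘ pr, isIrr_pr η⟩
    have hχ : (χ : _root_.Matrix.SpecialLinearGroup (Fin 2) F → ℂ) 1 = h := by
      rw [← hη, coe_charDegree η.2]
      rfl
    rcases type_half h1 hq hh χ hχ with t | t
    · left
      have : χ = χ₁ := eq_of_type h1 hq (Or.inl t) (t1.trans t.symm)
      apply eq_of_pr
      rw [← e1, ← this]
    · right
      have : χ = χ₂ := eq_of_type h1 hq (Or.inr t) (t2.trans t.symm)
      apply eq_of_pr
      rw [← e2, ← this]
  · rintro (rfl | rfl)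
    · exact hinfl _ _ e1 d1
    · exact hinfl _ _ e2 d2

/-- Twisting by an automorphism. -/
noncomputable def twist {G : Type u} [Group G] (α : MulAut G) (η : IrrCharacter G) : IrrCharacter G :=
  ⟨(η : G → ℂ) ∘ α, isIrr_comp (α : G ≃* G).toMonoidHom (α : G ≃* G).surjective η.2⟩

theorem twist_inj {G : Type u} [Group G] (α : MulAut G) {η η' : IrrCharacter G}
    (he : twist α η = twist α η') : η = η' := by
  apply Subtype.ext
  funext z
  have := congrFun (congrArg Subtype.val he) ((α : G ≃* G).symm z)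
  have h2 : (η : G → ℂ) (α ((α : G ≃* G).symm z)) = (η' : G → ℂ) (α ((α : G ≃* G).symm z)) := this
  have h3 : α ((α : G ≃* G).symm z) = z := (α : G ≃* G).apply_symm_apply z
  rwa [h3] at h2

theorem twist_mul {G : Type u} [Group G] (α β : MulAut G) (η : IrrCharacter G) :
    twist β (twist α η) = twist (α * β) η := rfl

/-- An automorphism of `3`-power order cannot swap two characters. -/
theorem twist_eq {G : Type u} [Group G] {α : MulAut G} {n : ℕ} (hn : α ^ 3 ^ n = 1)
    {η₁ η₂ : IrrCharacter G} (ha : twist α η₁ = η₁ ∨ twist α η₁ = η₂)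
    (hb : twist α η₂ = η₁ ∨ twist α η₂ = η₂) : twist α η₁ = η₁ := by
  rcases ha with ha | ha
  · exact ha
  rcases hb with hb | hb
  · -- swapped
    have h2 : ∀ k, twist (α ^ (2 * k)) η₁ = η₁ := by
      intro k
      induction k with
      | zero => rfl
      | succ k ih =>
        have : α ^ (2 * (k + 1)) = (α * α) * α ^ (2 * k) := by
          rw [← pow_two, ← pow_add]; congr 1; ring
        rw [this, ← twist_mul, ← twist_mul, ha, hb, ih]
    obtain ⟨k, hk⟩ : Odd (3 ^ n) := Odd.pow (by decide)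
    have h3 : α ^ (3 ^ n) = α * α ^ (2 * k) := by
      rw [hk, pow_add, pow_one, (Commute.refl α).pow_left _ |>.eq]
    rw [h3] at hn
    have h4 : twist (α * α ^ (2 * k)) η₁ = η₁ := by rw [hn]; rfl
    have h5 : twist (α ^ (2 * k)) η₂ = η₁ := by rw [← ha]; exact h4
    rw [ha]
    -- `η₂ = twist α⁻¹ ...`
    have h6 : twist (α ^ (2 * k)) η₁ = twist (α ^ (2 * k)) η₂ := (h2 k).trans h5.symm
    exact (twist_inj _ h6).symm
  · have := twist_inj α (ha.trans hb.symm)
    rw [ha, this]

include h1 hq hh in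
/-- The invariant characters of degree prime to `3`. -/
theorem psl_mem {σ : F ≃+* F} (hσ : ∀ c, σ c = c → c = 0 ∨ c = 1 ∨ c = -1)
    {M : _root_.Matrix.SpecialLinearGroup (Fin 2) F} {α : MulAut (ProjectiveSpecialLinearGroup (Fin 2) F)}
    (hα : ∀ g : _root_.Matrix.SpecialLinearGroup (Fin 2) F, α (pr g) = pr (M * fld σ g * M⁻¹)) {n : ℕ}
    (hn : α ^ 3 ^ n = 1) {θ : ProjectiveSpecialLinearGroup (Fin 2) F → ℂ}
    (hθ : IsIrrCharacter (ProjectiveSpecialLinearGroup (Fin 2) F) θ) (hinv : θ ∘ α = θ)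
    (h3 : ¬ 3 ∣ charDegree θ) : θ = 1 ∨ charDegree θ = h := by
  classical
  by_contra hcon
  push Not at hcon
  obtain ⟨hc1, hc2⟩ := hcon
  obtain ⟨η₁, η₂, hne, hη⟩ := exists_two h1 hq hh
  have : Fact (Nat.Prime 3) := ⟨Nat.prime_three⟩
  obtain ⟨s1, -⟩ := Cfsg.Agent.S4765.result 3 F (by omega)
  rw [Nat.card_eq_one_iff_exists] at s1
  obtain ⟨⟨St, hSt⟩, hStu⟩ := s1
  have hdtw : ∀ η : IrrCharacter (ProjectiveSpecialLinearGroup (Fin 2) F),
      charDegree (twist α η : ProjectiveSpecialLinearGroup (Fin 2) F → ℂ) =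
        charDegree (η : ProjectiveSpecialLinearGroup (Fin 2) F → ℂ) := by
    intro η
    apply charDegree_of_eq
    rw [coe_charDegree η.2]
    show (η : ProjectiveSpecialLinearGroup (Fin 2) F → ℂ) ((α 1 :)) = _
    rw [map_one]
  have i1 : twist α η₁ = η₁ := twist_eq hn ((hη _).1 ((hdtw _).trans ((hη _).2 (Or.inl rfl))))
    ((hη _).1 ((hdtw _).trans ((hη _).2 (Or.inr rfl))))
  have i2 : twist α η₂ = η₂ := twist_eq hn
    ((hη _).1 ((hdtw _).trans ((hη _).2 (Or.inr rfl)))).symm
    ((hη _).1 ((hdtw _).trans ((hη _).2 (Or.inl rfl)))).symm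
  have iSt : twist α St = St :=
    congrArg Subtype.val (hStu ⟨twist α St, by rw [hdtw]; exact hSt⟩)
  have i0 : twist α (⟨1, isIrr_one⟩ : IrrCharacter (ProjectiveSpecialLinearGroup (Fin 2) F)) =
      ⟨1, isIrr_one⟩ := rfl
  let T : IrrCharacter (ProjectiveSpecialLinearGroup (Fin 2) F) := ⟨θ, hθ⟩
  have iT : twist α T = T := Subtype.ext hinv
  let L : Finset (IrrCharacter (ProjectiveSpecialLinearGroup (Fin 2) F)) :=
    {⟨1, isIrr_one⟩, St, η₁, η₂, T}
  have d0 : charDegree ((⟨1, isIrr_one⟩ : IrrCharacter (ProjectiveSpecialLinearGroup (Fin 2) F)) :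
      ProjectiveSpecialLinearGroup (Fin 2) F → ℂ) = 1 := charDegree_of_eq (by simp)
  have hh3 : ¬ 3 ∣ h := by
    intro h4
    have h5 := three_dvd (F := F)
    omega
  have d1 := (hη η₁).2 (Or.inl rfl)
  have d2 := (hη η₂).2 (Or.inr rfl)
  have hL : L.card = 5 := by
    have n1 : (⟨1, isIrr_one⟩ : IrrCharacter (ProjectiveSpecialLinearGroup (Fin 2) F)) ≠ St := by
      rintro rfl
      rw [d0] at hSt
      omega
    have n2 : (⟨1, isIrr_one⟩ : IrrCharacter (ProjectiveSpecialLinearGroup (Fin 2) F)) ≠ η₁ := by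
      rintro rfl
      rw [d0] at d1
      omega
    have n3 : (⟨1, isIrr_one⟩ : IrrCharacter (ProjectiveSpecialLinearGroup (Fin 2) F)) ≠ η₂ := by
      rintro rfl
      rw [d0] at d2
      omega
    have n4 : (⟨1, isIrr_one⟩ : IrrCharacter (ProjectiveSpecialLinearGroup (Fin 2) F)) ≠ T :=
      fun h4 => hc1 (congrArg Subtype.val h4).symm
    have n5 : St ≠ η₁ := by
      rintro rfl
      rw [d1] at hSt
      exact hh3 hSt
    have n6 : St ≠ η₂ := by
      rintro rfl
      rw [d2] at hSt
      exact hh3 hSt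
    have n7 : St ≠ T := by
      rintro rfl
      exact h3 hSt
    have n8 : η₁ ≠ T := by
      rintro rfl
      exact hc2 d1
    have n9 : η₂ ≠ T := by
      rintro rfl
      exact hc2 d2
    simp only [L]
    rw [Finset.card_insert_of_notMem, Finset.card_insert_of_notMem, Finset.card_insert_of_notMem,
      Finset.card_insert_of_notMem, Finset.card_singleton]
    · simpa using n9
    · simp [hne, n8]
    · simp [n5, n6, n7]
    · simp [n1, n2, n3, n4]
  have hLi : ∀ η ∈ L, (η : ProjectiveSpecialLinearGroup (Fin 2) F → ℂ) ∘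
      (α : ProjectiveSpecialLinearGroup (Fin 2) F ≃* ProjectiveSpecialLinearGroup (Fin 2) F) =
      (η : ProjectiveSpecialLinearGroup (Fin 2) F → ℂ) := by
    intro η hη
    simp only [L, Finset.mem_insert, Finset.mem_singleton] at hη
    rcases hη with rfl | rfl | rfl | rfl | rfl
    · exact congrArg Subtype.val i0
    · exact congrArg Subtype.val iSt
    · exact congrArg Subtype.val i1
    · exact congrArg Subtype.val i2
    · exact congrArg Subtype.val iT
  have h4 := card_classes_le h1 hσ hα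
  rw [Cfsg.Agent.S0173.result (α : ProjectiveSpecialLinearGroup (Fin 2) F ≃*
    ProjectiveSpecialLinearGroup (Fin 2) F)] at h4
  have := finite_irr (G := ProjectiveSpecialLinearGroup (Fin 2) F)
  have hinj : Function.Injective (fun η : L =>
      (⟨η.1, hLi η.1 η.2⟩ : {χ : IrrCharacter (ProjectiveSpecialLinearGroup (Fin 2) F) //
        (χ : ProjectiveSpecialLinearGroup (Fin 2) F → ℂ) ∘
        (α : ProjectiveSpecialLinearGroup (Fin 2) F ≃* ProjectiveSpecialLinearGroup (Fin 2) F) =
        (χ : ProjectiveSpecialLinearGroup (Fin 2) F → ℂ)})) := by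
    intro a b hab
    exact Subtype.ext (congrArg (fun z : {χ : IrrCharacter (ProjectiveSpecialLinearGroup (Fin 2) F) //
        (χ : ProjectiveSpecialLinearGroup (Fin 2) F → ℂ) ∘
        (α : ProjectiveSpecialLinearGroup (Fin 2) F ≃* ProjectiveSpecialLinearGroup (Fin 2) F) =
        (χ : ProjectiveSpecialLinearGroup (Fin 2) F → ℂ)} => z.1) hab)
  have h5 := Nat.card_le_card_of_injective _ hinj
  rw [Nat.card_eq_fintype_card (α := L), Fintype.card_coe, hL] at h5
  omega

end

section
variable {F : Type v} [Field F] [Fintype F] [CharP F 3] {S : Type u} [Group S] [Finite S]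
  (e : S ≃* ProjectiveSpecialLinearGroup (Fin 2) F)

theorem cov_psl : Cov ((e.symm : ProjectiveSpecialLinearGroup (Fin 2) F →* S).comp pr) := by
  refine ⟨e.symm.surjective.comp pr_surjective, fun g => ?_⟩
  have h2 : ((e.symm : ProjectiveSpecialLinearGroup (Fin 2) F →* S).comp pr) g = 1 ↔ pr g = 1 := by
    show e.symm (pr g) = 1 ↔ _
    exact (map_eq_one_iff e.symm e.symm.injective :)
  rw [h2, pr_eq_one_iff, mem_center_iff]

theorem congr_conj (x : S) : MulAut.conj (e x) = MulAut.congr e (MulAut.conj x) := by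
  ext z
  show _ = e (MulAut.conj x (e.symm z))
  rw [MulAut.conj_apply, MulAut.conj_apply, map_mul, map_mul, map_inv, e.apply_symm_apply]

/-- The Frobenius automorphism in a good group of automorphisms. -/
theorem frob_of_good (hZ : Subgroup.center (ProjectiveSpecialLinearGroup (Fin 2) F) = ⊥)
    {Q : Type*} [Group Q] [Finite Q] {q : Q →* S} (hQ : Syl 3 q) {A : Subgroup (MulAut S)}
    (hA : GoodA 3 q A) :
    ¬ IsSquare (-1 : F) ∧ ∃ (σ : F ≃+* F) (M : _root_.Matrix.SpecialLinearGroup (Fin 2) F), ∃ a ∈ A,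
      (∀ c, σ c = c → c = 0 ∨ c = 1 ∨ c = -1) ∧
      ∀ g : _root_.Matrix.SpecialLinearGroup (Fin 2) F, MulAut.congr e a (pr g) = pr (M * fld σ g * M⁻¹) := by
  classical
  have : Fact (Nat.Prime 3) := ⟨Nat.prime_three⟩
  set! A' := A.map (MulAut.congr e).toMonoidHom with hA'
  have hA'p : IsPGroup 3 A' := hA.pgroup.map _
  have hQp : IsPGroup 3 (q.range.map e.toMonoidHom) :=
    (hQ.pgroup.of_surjective q.rangeRestrict q.rangeRestrict_surjective).map _
  have hQi : ¬ 3 ∣ (q.range.map e.toMonoidHom).index := fun h2 =>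
    hQ.index (h2.trans (Subgroup.index_map_dvd _ e.surjective))
  obtain ⟨-, -, h1, σ, M, α, hαA, -, hσ, hα⟩ := Cfsg.Agent.H712.Exc.exc_frob (p := 3) (by norm_num) hZ
    hA'p (hQp.toSylow hQi) (by
      rintro _ ⟨_, ⟨y, rfl⟩, rfl⟩
      exact ⟨MulAut.conj (q y), hA.conj_mem y, (congr_conj e _).symm⟩) (by
      intro z hz hn
      have h4 : e.symm z = 1 := by
        refine hA.no _ ?_ ?_
        · rw [MulEquiv.orderOf_eq]; exact hz
        · intro a ha
          obtain ⟨b, hb, hb'⟩ := hn _ ⟨a, ha, rfl⟩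
          have h5 : MulAut.congr e b = MulAut.congr e
              (MulAut.conj (e.symm z) * a * (MulAut.conj (e.symm z))⁻¹) := by
            refine hb'.trans ?_
            rw [map_mul, map_mul, map_inv, ← congr_conj, e.apply_symm_apply]
            rfl
          rw [← (MulAut.congr e).injective h5]
          exact hb
      rw [← e.apply_symm_apply z, h4, map_one])
  obtain ⟨a, ha, rfl⟩ := hαA
  exact ⟨h1, σ, M, a, ha, hσ, hα⟩

include e in
/-- `PSL₂(F)`, `F` of characteristic `3`, `-1` not a square, satisfies `Exc`. -/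
theorem exc_psl (hZ : Subgroup.center (ProjectiveSpecialLinearGroup (Fin 2) F) = ⊥)
    (h1 : ¬ IsSquare (-1 : F)) {h : ℕ} (hq : Fintype.card F = 2 * h + 1) (hh : 1 < h) :
    Exc 3 S h := by
  classical
  refine exc_of_cov hq hh h1 (cov_psl e) ?_
  intro Q _ _ q hQ A hA θ hθ h3 hinv
  refine ⟨hθ, ?_⟩
  obtain ⟨-, σ, M, a, ha, hσ, hα⟩ := frob_of_good e hZ hQ hA
  obtain ⟨n, hn⟩ := hA.pgroup ⟨a, ha⟩
  have hn' : (MulAut.congr e a) ^ 3 ^ n = 1 := by
    rw [← map_pow]
    have h2 : a ^ 3 ^ n = 1 := congrArg Subtype.val hn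
    rw [h2, map_one]
  have h5 := psl_mem h1 hq hh hσ hα hn'
    (θ := θ ∘ e.symm) (isIrr_comp (e.symm : ProjectiveSpecialLinearGroup (Fin 2) F →* S)
      e.symm.surjective hθ) (by
      funext z
      have h6 := congrFun (hinv a ha) (e.symm z)
      show θ (e.symm (e (a (e.symm z)))) = θ (e.symm z)
      rw [e.symm_apply_apply]
      exact h6) (by
      intro h6
      apply h3
      have h7 : charDegree (θ ∘ e.symm) = charDegree θ := by
        apply charDegree_of_eq
        rw [coe_charDegree hθ]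
        show θ ((e.symm 1 :)) = θ 1
        rw [map_one]
      rwa [h7] at h6)
  rcases h5 with h5 | h5
  · left
    funext s
    have h6 := congrFun h5 (e s)
    have h7 : θ (e.symm (e s)) = 1 := h6
    rwa [e.symm_apply_apply] at h7
  · right
    rw [← h5]
    symm
    apply charDegree_of_eq
    rw [coe_charDegree hθ]
    show θ (e.symm 1) = θ 1
    rw [map_one]

end

end Cfsg.Agent.H663.GmnPsl
end

-- part: H626/NormCrit
section
/-!
# Characters of degree prime to `p` over characters of the Sylow normalizer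

* `exists_over_index` : a character of degree prime to `p` of a subgroup of index prime to `p` lies under
  a character of degree prime to `p`.
* `normalizer_eq_of` : (`⇐` of S4934) if `1` is the only irreducible character of degree prime to `p`
  occurring in `(1_P)^G` then `N_G(P) = P` (every prime).
* `normalizer_eq_sup_of` : (`⇐` of S4935) the same with the principal block and `P C_G(P)`.
-/

set_option autoImplicit false
open scoped ComplexConjugate
open Cfsg Cfsg.Agent.Characters.Core Cfsg.Agent.Blocks.Local Cfsg.Agent.Blocks.Basic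

namespace Cfsg.Agent.H626

universe u

/-- A non-trivial finite group has a non-trivial irreducible character. -/
theorem exists_irr_ne_one {Q : Type*} [Group Q] [Finite Q] {g : Q} (hg : g ≠ 1) :
    ∃ μ : Q → ℂ, IsIrrCharacter Q μ ∧ μ ≠ fun _ => 1 := by
  classical
  have := Fintype.ofFinite Q
  have := finite_irr (G := Q)
  have := Fintype.ofFinite (IrrCharacter Q)
  by_contra hcon
  push Not at hcon
  have hf : IsClassFunction Q (fun x : Q => if x = 1 then (1 : ℂ) else 0) := by
    intro x y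
    simp only [_root_.conj_eq_one_iff]
  have h1 := classFunction_eq_sum hf
  have h2 : ∀ x y : Q, (if x = 1 then (1 : ℂ) else 0) = if y = 1 then (1 : ℂ) else 0 := by
    intro x y
    have hx := congrFun h1 x
    have hy := congrFun h1 y
    simp only [Finset.sum_apply, Pi.smul_apply] at hx hy
    rw [hx, hy]
    refine Finset.sum_congr rfl fun χ _ => ?_
    rw [hcon χ χ.2]
  have h3 := h2 1 g
  rw [if_pos rfl, if_neg hg] at h3
  exact one_ne_zero h3

/-- Going down: if `X` contains `l` and `l ∘ j` contains `ν` then `X ∘ j` contains `ν`. -/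
theorem ip_comp_ne_zero_of {P Q : Type*} [Group P] [Finite P] [Group Q] [Finite Q]
    {X l : P → ℂ} {ν : Q → ℂ} (hX : IsCharacter P X) (hl : IsIrrCharacter P l) (h : ip X l ≠ 0)
    (j : Q →* P) (hν : IsCharacter Q ν) (hlν : ip (l ∘ j) ν ≠ 0) : ip (X ∘ j) ν ≠ 0 := by
  have h1 := isCharacter_sub hX hl h
  have h2 : X ∘ j = l ∘ j + (X - l) ∘ j := by
    funext x
    simp
  rw [h2, ip_add_left]
  obtain ⟨n, hn⟩ := ip_nat (isCharacter_comp j h1) hν
  obtain ⟨m, hm⟩ := ip_nat (isCharacter_comp j (isIrr_isCharacter hl)) hν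
  rw [hn, hm]
  rw [hm] at hlν
  intro h4
  have h5 : m + n = 0 := by exact_mod_cast h4
  have h6 : m ≠ 0 := by exact_mod_cast hlν
  omega

/-- A character of degree prime to `p` of a subgroup of index prime to `p` lies under a character of
degree prime to `p`. -/
theorem exists_over_index {G : Type*} [Group G] [Finite G] {p : ℕ} [hp : Fact p.Prime] (H : Subgroup G)
    (hidx : ¬ p ∣ H.index) (μ : H → ℂ) (hμ : IsIrrCharacter H μ) (hdeg : ¬ p ∣ charDegree μ) :
    ∃ χ : IrrCharacter G, ¬ p ∣ charDegree (χ : G → ℂ) ∧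
      ip (fun h : H => (χ : G → ℂ) h) μ ≠ 0 := by
  classical
  have := Fintype.ofFinite G
  have := Fintype.ofFinite H
  have := finite_irr (G := G)
  have := Fintype.ofFinite (IrrCharacter G)
  obtain ⟨m, hm⟩ := isCharacter_iff.1 (CharactersDeep.IndFun.isCharacter_indFun H
    (isIrr_isCharacter hμ))
  choose e he0 he using fun χ : IrrCharacter G => isIrr_apply_one χ.2
  have h1 : (H.index * charDegree μ : ℕ) = ∑ χ : IrrCharacter G, m χ * e χ := by
    have h2 := congrFun hm 1
    rw [CharactersDeep.NormalInd.indFun_one, irr_one_eq_charDegree hμ, Finset.sum_apply] at h2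
    have h3 : ∑ χ : IrrCharacter G, (m χ • (χ : G → ℂ)) 1 =
        ∑ χ : IrrCharacter G, ((m χ * e χ : ℕ) : ℂ) := by
      refine Finset.sum_congr rfl fun χ _ => ?_
      rw [Pi.smul_apply, he, nsmul_eq_mul]
      push_cast
      rfl
    rw [h3] at h2
    exact_mod_cast h2
  have h2 : ¬ p ∣ ∑ χ : IrrCharacter G, m χ * e χ := by
    rw [← h1, hp.out.dvd_mul]
    exact not_or.2 ⟨hidx, hdeg⟩
  obtain ⟨χ, hχ⟩ : ∃ χ : IrrCharacter G, ¬ p ∣ m χ * e χ := by
    by_contra hcon
    push Not at hcon
    exact h2 (Finset.dvd_sum fun χ _ => hcon χ)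
  refine ⟨χ, ?_, ?_⟩
  · rw [charDegree_of_eq (he χ)]
    exact fun h => hχ (h.mul_left _)
  · have h3 : classInner (indFun H μ) (χ : G → ℂ) = m χ := by
      rw [hm]
      have h4 : ∑ ψ : IrrCharacter G, m ψ • (ψ : G → ℂ) =
          ∑ ψ : IrrCharacter G, (m ψ : ℂ) • (ψ : G → ℂ) := by
        refine Finset.sum_congr rfl fun ψ _ => ?_
        funext x
        simp
      rw [h4, classInner_sum_smul_irr]
    rw [CharactersDeep.NormalInd.classInner_indFun H μ _ (isIrr_isClassFunction χ.2), ← ip_eq,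
      ip_comm (isIrr_isCharacter hμ)
        (Characters.Clifford.isCharacter_restrict H (isIrr_isCharacter χ.2))] at h3
    rw [h3]
    intro h4
    have h5 : m χ = 0 := by exact_mod_cast h4
    exact hχ (by rw [h5, zero_mul]; exact dvd_zero p)

/-- A nontrivial irreducible character of a group trivial on a proper normal subgroup of index
prime to `p`; its degree is prime to `p`. -/
theorem exists_irr_of_normal {N : Type*} [Group N] [Finite N] {p : ℕ}
    (K : Subgroup N) [K.Normal] (hK : K ≠ ⊤) (hidx : ¬ p ∣ K.index) :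
    ∃ μ : N → ℂ, IsIrrCharacter N μ ∧ (μ ≠ fun _ => 1) ∧ (∀ x ∈ K, μ x = μ 1) ∧
      ¬ p ∣ charDegree μ := by
  obtain ⟨g, hg⟩ : ∃ g : N, g ∉ K := by
    by_contra hcon
    push Not at hcon
    exact hK (eq_top_iff.2 fun x _ => hcon x)
  have hg' : (QuotientGroup.mk g : N ⧸ K) ≠ 1 := fun h => hg ((QuotientGroup.eq_one_iff g).1 h)
  obtain ⟨μ, hμ, hμ1⟩ := exists_irr_ne_one hg'
  refine ⟨μ ∘ QuotientGroup.mk' K, isIrr_comp _ (QuotientGroup.mk'_surjective K) hμ, ?_, ?_, ?_⟩
  · intro h
    apply hμ1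
    funext x
    obtain ⟨y, rfl⟩ := QuotientGroup.mk'_surjective K x
    exact congrFun h y
  · intro x hx
    change μ (QuotientGroup.mk x) = μ (QuotientGroup.mk 1)
    rw [(QuotientGroup.eq_one_iff x).2 hx]
    rfl
  · have h1 : charDegree (μ ∘ QuotientGroup.mk' K) = charDegree μ := by
      rw [charDegree, charDegree, Function.comp_apply, map_one]
    rw [h1]
    intro h
    have h2 := h.trans (Blocks.CyclicUpper.charDegree_dvd hμ)
    rw [← Subgroup.index_eq_card] at h2
    exact hidx h2

section crit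

variable {G : Type u} [Group G] [Finite G] {p : ℕ} [hp : Fact p.Prime]

theorem index_normalizer_not_dvd (P : Sylow p G) :
    ¬ p ∣ (Subgroup.normalizer ((P : Subgroup G) : Set G)).index := by
  intro h
  exact P.not_dvd_index (h.trans (Subgroup.index_dvd_of_le Subgroup.le_normalizer))

/-- If a character `l` of `N` is constant on `K ≤ N`, `X` of `G` lies over `l`, then `X` contains
the trivial character of `K`. -/
theorem ip_trivial_of_over (K N : Subgroup G) (hKN : K ≤ N) {X : G → ℂ} (hX : IsCharacter G X)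
    {l : N → ℂ} (hl : IsIrrCharacter N l) (h : ip (fun n : N => X n) l ≠ 0)
    (hK : ∀ x : N, (x : G) ∈ K → l x = l 1) : ip (fun k : K => X k) (fun _ => 1) ≠ 0 := by
  have h1 : IsCharacter N (fun n : N => X n) := Characters.Clifford.isCharacter_restrict N hX
  refine ip_comp_ne_zero_of h1 hl h (Subgroup.inclusion hKN)
    (isIrr_isCharacter isIrrCharacter_one) ?_
  have h2 : l ∘ (Subgroup.inclusion hKN) = (l 1) • (fun _ : K => (1 : ℂ)) := by
    funext k
    rw [Function.comp_apply, hK _ k.2]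
    simp
  rw [h2, ip_smul_left, ip_self isIrrCharacter_one, mul_one]
  exact irr_one_ne_zero hl

/-- (`⇐` of S4934) -/
theorem normalizer_eq_of (P : Sylow p G)
    (h : ∀ χ : IrrCharacter G, (χ : G → ℂ) ≠ (fun _ => (1 : ℂ)) →
      ip (fun x : (P : Subgroup G) => (χ : G → ℂ) x) (fun _ => 1) ≠ 0 →
        p ∣ charDegree (χ : G → ℂ)) :
    Subgroup.normalizer ((P : Subgroup G) : Set G) = (P : Subgroup G) := by
  by_contra hne
  set N := Subgroup.normalizer ((P : Subgroup G) : Set G) with hN
  have hPN : (P : Subgroup G) ≤ N := Subgroup.le_normalizer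
  have hlt : ((P : Subgroup G).subgroupOf N) ≠ ⊤ := by
    intro h1
    rw [Subgroup.subgroupOf_eq_top] at h1
    exact hne (le_antisymm h1 hPN)
  have hnorm : ((P : Subgroup G).subgroupOf N).Normal := Subgroup.normal_in_normalizer
  have hidx : ¬ p ∣ ((P : Subgroup G).subgroupOf N).index := by
    intro h1
    exact P.not_dvd_index (h1.trans (Subgroup.relIndex_dvd_index_of_le hPN))
  obtain ⟨μ, hμ, hμ1, hμK, hμd⟩ := exists_irr_of_normal _ hlt hidx
  obtain ⟨χ, hχd, hχ⟩ := exists_over_index N (index_normalizer_not_dvd P) μ hμ hμd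
  have h2 := ip_trivial_of_over (P : Subgroup G) N hPN (isIrr_isCharacter χ.2) hμ hχ
    (fun x hx => hμK x hx)
  refine hχd (h χ ?_ h2)
  intro h3
  have h4 : (fun n : N => (χ : G → ℂ) n) = fun _ => 1 := by
    funext n
    rw [h3]
  rw [h4] at hχ
  exact hμ1 (eq_of_ip_ne_zero isIrrCharacter_one hμ hχ).symm

/-- A normal Sylow subgroup is contained in every subgroup of index prime to `p`. -/
theorem le_of_not_dvd_index {N : Type*} [Group N] [Finite N] (P : Sylow p N)
    (hP : (P : Subgroup N).Normal) (K : Subgroup N) (hK : ¬ p ∣ K.index) :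
    (P : Subgroup N) ≤ K := by
  obtain ⟨Q⟩ : Nonempty (Sylow p K) := inferInstance
  have h1 : IsPGroup p ((Q : Subgroup K).map K.subtype) := Q.2.map _
  have h2 : ¬ p ∣ ((Q : Subgroup K).map K.subtype).index := by
    rw [Subgroup.index_map_subtype, hp.out.dvd_mul]
    exact not_or.2 ⟨Q.not_dvd_index, hK⟩
  have := Sylow.unique_of_normal P hP
  have h3 : P = h1.toSylow h2 := Subsingleton.elim _ _
  have h4 : (P : Subgroup N) = (Q : Subgroup K).map K.subtype := by
    conv_lhs => rw [h3]
    rfl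
  rw [h4]
  exact Subgroup.map_subtype_le _

/-- If the Sylow `p`-subgroup `P` of `N` is normal then every irreducible character of degree prime
to `p` constant on `P C_N(P)` is in the principal block. -/
theorem mem_principal_of_const {N : Type*} [Group N] [Finite N] {M : Ideal AlgInt}
    (hM : IsPModular p M) (P : Sylow p N) (hP : (P : Subgroup N).Normal) (μ : IrrCharacter N)
    (hdeg : ¬ p ∣ charDegree (μ : N → ℂ))
    (hK : ∀ x ∈ Subgroup.centralizer ((P : Subgroup N) : Set N), (μ : N → ℂ) x = (μ : N → ℂ) 1) :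
    μ ∈ principalBlock M N := by
  have hMp : M.IsPrime := isPrime_of_isPModular hM
  change SameBlock M (fun _ => 1) (μ : N → ℂ)
  intro g
  by_cases hg : g ∈ Subgroup.centralizer ((P : Subgroup N) : Set N)
  · have h1 : centralChar (fun _ : N => (1 : ℂ)) g - centralChar (μ : N → ℂ) g = 0 := by
      rw [centralChar, centralChar, hK g hg, mul_div_assoc, mul_div_assoc,
        div_self (irr_one_ne_zero μ.2), div_one, sub_self]
    rw [h1]
    exact memLocalIdeal_zero
  · have h2 : p ∣ (Subgroup.centralizer ({g} : Set N)).index := by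
      by_contra hcon
      have h3 := le_of_not_dvd_index P hP _ hcon
      apply hg
      rw [Subgroup.mem_centralizer_iff]
      intro y hy
      have := Subgroup.mem_centralizer_singleton_iff.1 (h3 hy)
      exact this
    have h3 : MemLocalIdeal M (((Subgroup.centralizer ({g} : Set N)).index : ℕ) : ℂ) :=
      (memLocalIdeal_natCast_iff hM _).2 h2
    have h4 : centralChar (fun _ : N => (1 : ℂ)) g - centralChar (μ : N → ℂ) g =
        (((Subgroup.centralizer ({g} : Set N)).index : ℕ) : ℂ) *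
          (1 - (μ : N → ℂ) g * ((charDegree (μ : N → ℂ) : ℂ))⁻¹) := by
      rw [centralChar, centralChar, irr_one_eq_charDegree μ.2]
      ring
    rw [h4]
    refine memLocalIdeal_mul_right h3 (memLocalRing_sub memLocalRing_one ?_)
    exact memLocalRing_mul (memLocalRing_of_isIntegral (Blocks.Central.isIntegral_irr μ.2 g))
      (memLocalRing_inv_natCast hM hdeg)

/-- (`⇐` of S4935) -/
theorem normalizer_eq_sup_of {M : Ideal AlgInt} (hM : IsPModular p M) (P : Sylow p G)
    (h : ∀ χ : IrrCharacter G, χ ∈ principalBlock M G → ¬ p ∣ charDegree (χ : G → ℂ) →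
      ip (fun x : ↥((P : Subgroup G) ⊔ Subgroup.centralizer ((P : Subgroup G) : Set G)) =>
        (χ : G → ℂ) x) (fun _ => 1) ≠ 0 → (χ : G → ℂ) = fun _ => (1 : ℂ)) :
    Subgroup.normalizer ((P : Subgroup G) : Set G) =
      (P : Subgroup G) ⊔ Subgroup.centralizer ((P : Subgroup G) : Set G) := by
  by_contra hne
  set N := Subgroup.normalizer ((P : Subgroup G) : Set G) with hN
  have hPN : (P : Subgroup G) ≤ N := Subgroup.le_normalizer
  have hCN : Subgroup.centralizer ((P : Subgroup G) : Set G) ≤ N :=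
    Subgroup.centralizer_le_normalizer _
  let P' : Sylow p N := P.subtype hPN
  have hP'n : (P' : Subgroup N).Normal := Subgroup.normal_in_normalizer
  have hC' : (Subgroup.centralizer ((P : Subgroup G) : Set G)).subgroupOf N =
      Subgroup.centralizer ((P' : Subgroup N) : Set N) := by
    ext x
    rw [Subgroup.mem_subgroupOf, Subgroup.mem_centralizer_iff, Subgroup.mem_centralizer_iff]
    constructor
    · intro hx y hy
      exact Subtype.ext (hx y hy)
    · intro hx y hy
      exact congrArg Subtype.val (hx ⟨y, hPN hy⟩ hy)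
  have hK : ((P : Subgroup G) ⊔ Subgroup.centralizer ((P : Subgroup G) : Set G)).subgroupOf N =
      (P' : Subgroup N) ⊔ Subgroup.centralizer ((P' : Subgroup N) : Set N) := by
    rw [Subgroup.subgroupOf_sup hPN hCN, hC']
    rfl
  have hnorm : (((P : Subgroup G) ⊔
      Subgroup.centralizer ((P : Subgroup G) : Set G)).subgroupOf N).Normal := by
    rw [hK]
    infer_instance
  have hlt : (((P : Subgroup G) ⊔ Subgroup.centralizer ((P : Subgroup G) : Set G)).subgroupOf N) ≠
      ⊤ := by
    intro h1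
    rw [Subgroup.subgroupOf_eq_top] at h1
    exact hne (le_antisymm h1 (sup_le hPN hCN))
  have hidx : ¬ p ∣ (((P : Subgroup G) ⊔
      Subgroup.centralizer ((P : Subgroup G) : Set G)).subgroupOf N).index := by
    intro h1
    refine P'.not_dvd_index (h1.trans (Subgroup.index_dvd_of_le ?_))
    rw [hK]
    exact le_sup_left
  obtain ⟨μ, hμ, hμ1, hμK, hμd⟩ := exists_irr_of_normal _ hlt hidx
  have hμB : (⟨μ, hμ⟩ : IrrCharacter N) ∈ principalBlock M N := by
    refine mem_principal_of_const hM P' hP'n ⟨μ, hμ⟩ hμd fun x hx => hμK x ?_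
    rw [hK]
    exact Subgroup.mem_sup_right hx
  obtain ⟨χ, hχB, hχd, hχ⟩ := exists_over_principal hM P N hPN ⟨μ, hμ⟩ hμB hμd
  rw [ip_comm (isIrr_isCharacter hμ)
    (Characters.Clifford.isCharacter_restrict N (isIrr_isCharacter χ.2))] at hχ
  have h2 := ip_trivial_of_over _ N (sup_le hPN hCN) (isIrr_isCharacter χ.2) hμ hχ
    (fun x hx => hμK x hx)
  have h3 := h χ hχB hχd h2
  have h4 : (fun n : N => (χ : G → ℂ) n) = fun _ => 1 := by
    funext n
    rw [h3]
  change ip (fun n : N => (χ : G → ℂ) n) μ ≠ 0 at hχ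
  rw [h4] at hχ
  exact hμ1 (eq_of_ip_ne_zero isIrrCharacter_one hμ hχ).symm

/-- S4934 from the uniqueness part of S4936 for the trivial character of `P`. -/
theorem s4934_of [Fintype G] (P : Sylow p G) [Fintype ↥(P : Subgroup G)]
    (huniq : Subgroup.normalizer ((P : Subgroup G) : Set G) = (P : Subgroup G) →
      ∀ χ : IrrCharacter G, ¬ p ∣ charDegree (χ : G → ℂ) →
        ip (fun x : (P : Subgroup G) => (χ : G → ℂ) x) (fun _ => 1) ≠ 0 →
          (χ : G → ℂ) = fun _ => 1) :
    Subgroup.normalizer ((P : Subgroup G) : Set G) = (P : Subgroup G) ↔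
      ∀ χ : IrrCharacter G, (χ : G → ℂ) ≠ (fun _ => (1 : ℂ)) →
        classInner (indFun (P : Subgroup G) (fun _ => (1 : ℂ))) (χ : G → ℂ) ≠ 0 →
          p ∣ charDegree (χ : G → ℂ) := by
  have key : ∀ χ : IrrCharacter G, classInner (indFun (P : Subgroup G) (fun _ => (1 : ℂ)))
      (χ : G → ℂ) = ip (fun x : (P : Subgroup G) => (χ : G → ℂ) x) (fun _ => 1) := by
    intro χ
    rw [CharactersDeep.NormalInd.classInner_indFun _ _ _ (isIrr_isClassFunction χ.2), ← ip_eq,
      ip_comm (isIrr_isCharacter isIrrCharacter_one)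
        (Characters.Clifford.isCharacter_restrict _ (isIrr_isCharacter χ.2))]
  constructor
  · intro h χ hχ1 hχ
    by_contra hd
    rw [key] at hχ
    exact hχ1 (huniq h χ hd hχ)
  · intro h
    refine normalizer_eq_of P fun χ hχ1 hχ => h χ hχ1 ?_
    rwa [key]

/-- S4935 from its direction `⇒`. -/
theorem s4935_of [Fintype G] {M : Ideal AlgInt} (hM : IsPModular p M) (P : Sylow p G)
    [Fintype ↥((P : Subgroup G) ⊔ Subgroup.centralizer ((P : Subgroup G) : Set G))]
    (hdir : Subgroup.normalizer ((P : Subgroup G) : Set G) =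
      (P : Subgroup G) ⊔ Subgroup.centralizer ((P : Subgroup G) : Set G) →
      ∀ χ : IrrCharacter G, χ ∈ principalBlock M G → ¬ p ∣ charDegree (χ : G → ℂ) →
        ip (fun x : ↥((P : Subgroup G) ⊔ Subgroup.centralizer ((P : Subgroup G) : Set G)) =>
          (χ : G → ℂ) x) (fun _ => 1) ≠ 0 → (χ : G → ℂ) = fun _ => 1) :
    Subgroup.normalizer ((P : Subgroup G) : Set G) =
      (P : Subgroup G) ⊔ Subgroup.centralizer ((P : Subgroup G) : Set G) ↔
      ∀ χ : IrrCharacter G, χ ∈ principalBlock M G → ¬ p ∣ charDegree (χ : G → ℂ) →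
        classInner (indFun ((P : Subgroup G) ⊔ Subgroup.centralizer ((P : Subgroup G) : Set G))
          (fun _ => (1 : ℂ))) (χ : G → ℂ) ≠ 0 → (χ : G → ℂ) = fun _ => (1 : ℂ) := by
  have key : ∀ χ : IrrCharacter G, classInner (indFun ((P : Subgroup G) ⊔
      Subgroup.centralizer ((P : Subgroup G) : Set G)) (fun _ => (1 : ℂ))) (χ : G → ℂ) =
        ip (fun x : ↥((P : Subgroup G) ⊔ Subgroup.centralizer ((P : Subgroup G) : Set G)) =>
          (χ : G → ℂ) x) (fun _ => 1) := by
    intro χ
    rw [CharactersDeep.NormalInd.classInner_indFun _ _ _ (isIrr_isClassFunction χ.2), ← ip_eq,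
      ip_comm (isIrr_isCharacter isIrrCharacter_one)
        (Characters.Clifford.isCharacter_restrict _ (isIrr_isCharacter χ.2))]
  constructor
  · intro h χ hχB hχd hχ
    rw [key] at hχ
    exact hdir h χ hχB hχd hχ
  · intro h
    refine normalizer_eq_sup_of hM P fun χ hχB hχd hχ => h χ hχB hχd ?_
    rwa [key]

end crit

end Cfsg.Agent.H626
end

-- part: H663/GmnMain
section
/-!
# Restriction of characters to a self-normalizing Sylow subgroup: conclusion (helper663)

`Tab p` : every simple group of order divisible by `p` satisfies `RowS p`, or is `PSL₂(F)`, `F` of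
characteristic `p = 3`.  `good_of_tab` : `Tab p` implies `Good p R.subtype` for every self-normalizing
Sylow `p`-subgroup `R` of a finite group, and `final` is the statement S4936.
-/

set_option autoImplicit false
set_option linter.style.haveILetI false
set_option linter.unusedSectionVars false
open Cfsg

namespace Cfsg.Agent.H663.GmnStep

open Cfsg.Agent.Characters.Core Cfsg.Agent.Characters.Clifford Cfsg.Agent.H672
open Cfsg.Agent.H712 (GmnMin.Hyp GmnMin.indT GmnMin.mem_indT GmnMin.spec)
open scoped ComplexConjugate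

universe u v w

/-- The table: simple groups of order divisible by `p`. -/
def Tab (p : ℕ) : Prop :=
  ∀ (S : Type u) [Group S] [Finite S], IsSimpleGroup S → (¬ ∀ a b : S, a * b = b * a) →
    p ∣ Nat.card S → H712.Gmn.RowS p S ∨ (p = 3 ∧ ∃ (F : Type) (_ : Field F) (_ : Fintype F),
      CharP F 3 ∧ 3 < Fintype.card F ∧
        Nonempty (S ≃* Matrix.ProjectiveSpecialLinearGroup (Fin 2) F))

variable {p : ℕ} [hp : Fact p.Prime]

/-- Non-abelian minimal normal subgroups. -/
theorem sec_of_tab (hT : Tab.{u} p) (G : Type u) [Group G] [Finite G] (R N : Subgroup G) [hN : N.Normal]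
    (hj : SelfNorm p R.subtype) (hmin : ∀ M : Subgroup G, M.Normal → M ≤ N → M = ⊥ ∨ M = N)
    (hna : ¬ ∀ x ∈ N, ∀ y ∈ N, Commute x y) (hdvd : p ∣ Nat.card N) : Sec p R.subtype N := by
  classical
  obtain ⟨m, T, e, hm, hsimple, hnonab, hTinj, hTle, hTnorm, hperm, htrans, hsingle, hcomm⟩ :=
    PermutationGroups.OnanScott.exists_coordinates N hmin hna
  have hc : IsCoord e := ⟨hTinj, hTle, hTnorm, hperm, hsingle, hcomm⟩
  have hRr : R.subtype.range = R := R.range_subtype
  have hRp : IsPGroup p R := by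
    have := hj.pgroup
    rwa [hRr] at this
  have hRi : ¬ p ∣ R.index := by
    have := hj.index
    rwa [hRr] at this
  have hself : Subgroup.normalizer ((R : Subgroup G) : Set G) = R := by
    have := hj.self
    rwa [hRr] at this
  let P : Sylow p G := hRp.toSylow hRi
  have hyp : ∀ i, H712.GmnMin.Hyp N (T i) := fun i =>
    ⟨hN, hTle i, hTnorm i, hsimple i, fun h => by
      obtain ⟨a, b, hab⟩ := hnonab i
      exact hab (h a b)⟩
  have hspec := fun i => H712.GmnMin.spec P (hyp i) hself (H712.GmnMin.indT P (T i))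
    (fun a => H712.GmnMin.mem_indT P)
  have hgood : ∀ i, GoodA p (jQ R.subtype (T i)) (H712.GmnMin.indT P (T i)) := fun i =>
    ⟨(hspec i).1, fun x => (hspec i).2.1 _ x.1.2, (hspec i).2.2.2⟩
  -- the factors are isomorphic
  have hiso : ∀ i j, Nonempty (T i ≃* T j) := by
    intro i j
    obtain ⟨g, hg⟩ := htrans i j
    exact ⟨conjIso g hg⟩
  have hdvdT : ∀ i, p ∣ Nat.card (T i) := by
    intro i
    rw [Nat.card_congr e.toEquiv, Nat.card_pi] at hdvd
    obtain ⟨j, -, hj⟩ := (hp.out.prime.dvd_finsetProd_iff _).1 hdvd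
    obtain ⟨ε⟩ := hiso i j
    rwa [Nat.card_congr ε.toEquiv]
  let i₀ : Fin m := ⟨0, hm⟩
  rcases hT (T i₀) (hsimple i₀) (hyp i₀).nonab (hdvdT i₀) with hrow | ⟨hp3, F, iF, iFin, hF3, hcard, ⟨e₀⟩⟩
  · -- no such configuration
    exfalso
    obtain ⟨s1, s2, ⟨Q, hQ⟩, s4⟩ := hspec i₀
    obtain ⟨y, hy1, hy2, t, ht, hne⟩ := hrow _ s1 Q (fun x hx => s2 x ((hQ x).1 hx))
    have := s4 y hy1 hy2
    apply hne
    rw [this, one_mul, inv_one, mul_one]
  · subst hp3
    have hε : ∀ i, Nonempty (T i ≃* Matrix.ProjectiveSpecialLinearGroup (Fin 2) F) := by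
      intro i
      obtain ⟨ε⟩ := hiso i i₀
      exact ⟨ε.trans e₀⟩
    have hZ : Subgroup.center (Matrix.ProjectiveSpecialLinearGroup (Fin 2) F) = ⊥ := by
      rw [Subgroup.eq_bot_iff_forall]
      intro z hz
      have h1 : e₀.symm z ∈ Subgroup.center (T i₀) := by
        rw [Subgroup.mem_center_iff] at hz ⊢
        intro s
        apply e₀.injective
        rw [map_mul, map_mul, e₀.apply_symm_apply]
        exact hz _
      rw [(hyp i₀).center_eq, Subgroup.mem_bot] at h1
      rw [← e₀.apply_symm_apply z, h1, map_one]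
    have h1 := (GmnPsl.frob_of_good e₀ hZ (syl_q hc hRp hRi i₀) (hgood i₀)).1
    have hodd : Fintype.card F % 4 = 3 := by
      by_contra h4
      exact h1 (FiniteField.isSquare_neg_one_iff.2 h4)
    obtain ⟨h, hq⟩ : ∃ h, Fintype.card F = 2 * h + 1 := ⟨Fintype.card F / 2, by omega⟩
    refine sec_of_exc (A := fun i => H712.GmnMin.indT P (T i)) hc hj (d := h) (fun i => ?_)
      (fun i a ha => ?_) hgood
    · obtain ⟨ε⟩ := hε i
      exact GmnPsl.exc_psl ε hZ h1 hq (by omega)
    · obtain ⟨x, hx, -, hx'⟩ := (H712.GmnMin.mem_indT P).1 ha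
      exact ⟨x, hx, hx'⟩

/-- The theorem for the inclusion of a self-normalizing Sylow subgroup. -/
theorem good_of_tab (hT : Tab.{u} p) (G : Type u) [Group G] [Finite G] (R : Subgroup G)
    (hj : SelfNorm p R.subtype) : Good p R.subtype :=
  good_of_sec (fun G _ _ R N _ hj _ hmin hna hd => sec_of_tab hT G R N hj hmin hna hd)
    (Nat.card G) G R le_rfl hj

theorem selfNorm_of {G : Type u} [Group G] [Finite G] (P : Sylow p G)
    (hself : Subgroup.normalizer ((P : Subgroup G) : Set G) = (P : Subgroup G)) :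
    SelfNorm p (P : Subgroup G).subtype := by
  refine ⟨?_, ?_, ?_⟩
  · rw [Subgroup.range_subtype]; exact P.isPGroup'
  · rw [Subgroup.range_subtype]; exact P.not_dvd_index
  · rw [Subgroup.range_subtype]; exact hself

/-- The statement S4936, from the table. -/
theorem final (hT : Tab.{u} p) {G : Type u} [Group G] [Fintype G] (P : Sylow p G)
    [Fintype ↥(P : Subgroup G)]
    (hself : Subgroup.normalizer ((P : Subgroup G) : Set G) = (P : Subgroup G)) :
    (∀ χ : Cfsg.IrrCharacter G, ¬ p ∣ Cfsg.charDegree (χ : G → ℂ) →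
        ∃! μ : Cfsg.IrrCharacter ↥(P : Subgroup G), Cfsg.charDegree (μ : ↥(P : Subgroup G) → ℂ) = 1 ∧
          Cfsg.classInner (fun x : ↥(P : Subgroup G) => (χ : G → ℂ) x) (μ : ↥(P : Subgroup G) → ℂ) ≠ 0) ∧
    (∀ χ : Cfsg.IrrCharacter G, ¬ p ∣ Cfsg.charDegree (χ : G → ℂ) → ∀ μ : Cfsg.IrrCharacter ↥(P : Subgroup G),
        Cfsg.charDegree (μ : ↥(P : Subgroup G) → ℂ) = 1 →
          Cfsg.classInner (fun x : ↥(P : Subgroup G) => (χ : G → ℂ) x) (μ : ↥(P : Subgroup G) → ℂ) ≠ 0 →
            Cfsg.classInner (fun x : ↥(P : Subgroup G) => (χ : G → ℂ) x) (μ : ↥(P : Subgroup G) → ℂ) = 1) ∧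
    (∀ μ : Cfsg.IrrCharacter ↥(P : Subgroup G), Cfsg.charDegree (μ : ↥(P : Subgroup G) → ℂ) = 1 →
        ∃! χ : Cfsg.IrrCharacter G, ¬ p ∣ Cfsg.charDegree (χ : G → ℂ) ∧
          Cfsg.classInner (fun x : ↥(P : Subgroup G) => (χ : G → ℂ) x) (μ : ↥(P : Subgroup G) → ℂ) ≠ 0) := by
  classical
  have hG := good_of_tab hT G (P : Subgroup G) (selfNorm_of P hself)
  have hm : ∀ (χ : G → ℂ) (l : (P : Subgroup G) →* ℂˣ),
      mult (P : Subgroup G).subtype χ (lf l) =
        classInner (fun x : ↥(P : Subgroup G) => χ x) (lf l) := fun χ l => mult_eq _ _ _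
  have hlin : ∀ μ : Cfsg.IrrCharacter ↥(P : Subgroup G),
      Cfsg.charDegree (μ : ↥(P : Subgroup G) → ℂ) = 1 → ∃ l : (P : Subgroup G) →* ℂˣ,
        (μ : ↥(P : Subgroup G) → ℂ) = lf l := by
    intro μ hμ
    exact Characters.Linear.exists_hom_of_isIrrCharacter μ.2 (by
      rw [← coe_charDegree μ.2, hμ, Nat.cast_one])
  refine ⟨?_, ?_, ?_⟩
  · intro χ hχ
    obtain ⟨l, hl⟩ := H670.PSing.exists_linear_constituent P.isPGroup'
      (isCharacter_restrict (P : Subgroup G) (isIrr_isCharacter χ.2)) (d := charDegree (χ : G → ℂ))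
      (coe_charDegree χ.2).symm hχ
    refine ⟨⟨lf l, isIrr_lf l⟩, ⟨charDegree_of_eq (by simp [lf]), hl⟩, ?_⟩
    rintro μ ⟨hμ1, hμ2⟩
    obtain ⟨l', hl'⟩ := hlin μ hμ1
    apply Subtype.ext
    rw [hl'] at hμ2
    show (μ : ↥(P : Subgroup G) → ℂ) = lf l
    rw [hl', hG.unique χ χ.2 hχ l l' ((over_iff_mult _ _ _).2 (by rw [hm]; exact hl))
      ((over_iff_mult _ _ _).2 (by rw [hm]; exact hμ2))]
  · intro χ hχ μ hμ1 hμ2
    obtain ⟨l, hl⟩ := hlin μ hμ1
    rw [hl] at hμ2 ⊢
    rw [← hm]
    exact hG.mult_one χ χ.2 hχ l ((over_iff_mult _ _ _).2 (by rw [hm]; exact hμ2))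
  · intro μ hμ1
    obtain ⟨l, hl⟩ := hlin μ hμ1
    obtain ⟨χ, hχ1, hχ2⟩ := H626.exists_over_index (P : Subgroup G) P.not_dvd_index
      (μ : ↥(P : Subgroup G) → ℂ) μ.2 (by
        rw [hμ1]
        exact fun h => hp.out.one_lt.not_ge (Nat.le_of_dvd one_pos h))
    rw [H626.ip_eq] at hχ2
    refine ⟨χ, ⟨hχ1, hχ2⟩, ?_⟩
    rintro χ' ⟨h1, h2⟩
    rw [hl] at hχ2 h2
    apply Subtype.ext
    exact hG.inj χ' χ χ'.2 χ.2 h1 hχ1 l ((over_iff_mult _ _ _).2 (by rw [hm]; exact h2))
      ((over_iff_mult _ _ _).2 (by rw [hm]; exact hχ2))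

/-- The hypothesis of `H626.s4934_of` (statement S4934), from the table. -/
theorem eq_one_of_tab (hT : Tab.{u} p) {G : Type u} [Group G] [Finite G] (P : Sylow p G)
    (hself : Subgroup.normalizer ((P : Subgroup G) : Set G) = (P : Subgroup G))
    (χ : IrrCharacter G) (hχ : ¬ p ∣ charDegree (χ : G → ℂ))
    (ho : H626.ip (fun x : (P : Subgroup G) => (χ : G → ℂ) x) (fun _ => 1) ≠ 0) :
    (χ : G → ℂ) = fun _ => 1 := by
  classical
  letI := Fintype.ofFinite G
  letI := Fintype.ofFinite (P : Subgroup G)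
  have h1 := (final hT P hself).2.2 ⟨fun _ => 1, isIrr_one⟩ (charDegree_of_eq (by simp))
  rw [H626.ip_eq] at ho
  have h2 := h1.unique (y₁ := χ) (y₂ := ⟨fun _ => 1, isIrr_one⟩) ⟨hχ, ho⟩ ⟨?_, ?_⟩
  · exact congrArg Subtype.val h2
  · have h3 : charDegree (fun _ : G => (1 : ℂ)) = 1 := charDegree_of_eq (by simp)
    show ¬ p ∣ charDegree (fun _ : G => (1 : ℂ))
    rw [h3]
    exact fun h => hp.out.one_lt.not_ge (Nat.le_of_dvd one_pos h)
  · show classInner (1 : ↥(P : Subgroup G) → ℂ) (1 : ↥(P : Subgroup G) → ℂ) ≠ 0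
    rw [classInner_irr (isIrr_one (G := (P : Subgroup G))) (isIrr_one (G := (P : Subgroup G)))]
    simp

end Cfsg.Agent.H663.GmnStep
end

private theorem dce_ea009aa45929 : _root_.True := by
  try have : _root_.True := by simp only [_root_.Cfsg.Agent.ClassicalGeometry.AutPSL.SylowU.upper.congr_simp]
  try have : _root_.True := by simp only [_root_.Cfsg.Agent.H712.Exc.dg.eq_1]
  try have : _root_.True := by simp only [_root_.Cfsg.Agent.H663.GmnPsl.tr.eq_1]
  exact _root_.True.intro
end

-- part: H142/GmnFinal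
section
set_option linter.all false
open scoped Cfsg.Agent.FastGrp

-- part: H142/GmnEnd
section
/-!
# S4935 from the table and S4936
-/

set_option autoImplicit false

open Cfsg Cfsg.Agent.Characters.Core Cfsg.Agent.Blocks.Basic Cfsg.Agent.H626

namespace Cfsg.Agent.H142.GmnEnd

open Cfsg.Agent.H142.GmnBlock

universe u

/-- S4935 from the table and S4936 -/
theorem s4935 {G : Type u} [Group G] [Fintype G] (p : ℕ) [Fact p.Prime] (M : Ideal AlgInt)
    (hM : IsPModular p M) (hT : GmnPC.Table.{u} p)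
    (h4936 : ∀ {X : Type u} [Group X] [Fintype X] (Q : Sylow p X) [Fintype ↥(Q : Subgroup X)],
      Subgroup.normalizer ((Q : Subgroup X) : Set X) = (Q : Subgroup X) → Corr p (Q : Subgroup X))
    (P : Sylow p G) [Fintype ↥((P : Subgroup G) ⊔ Subgroup.centralizer ((P : Subgroup G) : Set G))] :
    Subgroup.normalizer ((P : Subgroup G) : Set G) =
      (P : Subgroup G) ⊔ Subgroup.centralizer ((P : Subgroup G) : Set G) ↔
      ∀ χ : IrrCharacter G, χ ∈ principalBlock M G → ¬ p ∣ charDegree (χ : G → ℂ) →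
        classInner (indFun ((P : Subgroup G) ⊔ Subgroup.centralizer ((P : Subgroup G) : Set G))
          (fun _ => (1 : ℂ))) (χ : G → ℂ) ≠ 0 → (χ : G → ℂ) = fun _ => (1 : ℂ) := by
  classical
  apply H626.s4935_of hM P
  intro hdec χ hχB hχd hχ
  rw [← hdec] at hχ
  have : Fintype ↥(Subgroup.normalizer ((P : Subgroup G) : Set G)) := Fintype.ofFinite _
  obtain ⟨-, h2⟩ := final p M hM hT h4936 P hdec
  let μ : IrrCharacter ↥(Subgroup.normalizer ((P : Subgroup G) : Set G)) := ⟨fun _ => 1, isIrrCharacter_one⟩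
  let χ₀ : IrrCharacter G := ⟨fun _ => 1, isIrrCharacter_one⟩
  have hd0 : charDegree (fun _ : G => (1 : ℂ)) = 1 := by simp [charDegree]
  have hμd : charDegree (μ : ↥(Subgroup.normalizer ((P : Subgroup G) : Set G)) → ℂ) = 1 := by
    show charDegree (fun _ => (1 : ℂ)) = 1
    simp [charDegree]
  obtain ⟨ψ, -, hψ⟩ := h2 μ (by
    intro g
    rw [sub_self]
    have := Blocks.Local.isPrime_of_isPModular hM
    exact Blocks.Local.memLocalIdeal_zero) hμd
  rw [ip_eq] at hχ
  have e1 : χ = ψ := hψ χ ⟨hχB, hχd, hχ⟩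
  have e2 : χ₀ = ψ := by
    apply hψ
    refine ⟨?_, ?_, ?_⟩
    · intro g
      rw [sub_self]
      have := Blocks.Local.isPrime_of_isPModular hM
      exact Blocks.Local.memLocalIdeal_zero
    · show ¬ p ∣ charDegree (fun _ : G => (1 : ℂ))
      rw [hd0]
      exact (Fact.out : p.Prime).one_lt.not_ge ∘ Nat.le_of_dvd one_pos
    · show classInner (fun _ => (1 : ℂ)) (fun _ => (1 : ℂ)) ≠ 0
      rw [classInner_irr_self isIrrCharacter_one]
      exact one_ne_zero
  rw [e1, ← e2]

end Cfsg.Agent.H142.GmnEnd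
end

-- part: H142/GmnFinal
section
/-!
# S4951, S4935 from the table of the Guralnick–Malle–Navarro theorem
-/

set_option autoImplicit false

namespace Cfsg.Agent.H142.GmnFinal

open Cfsg

universe u

theorem table_of_tab {p : ℕ} [Fact p.Prime] (hT : H663.GmnStep.Tab.{u} p) : GmnPC.Table.{u} p := by
  refine GmnTable.table_of fun S _ _ _ hS hd => ?_
  rcases hT S inferInstance (fun h => hS ⟨⟨h⟩⟩) hd with h | ⟨h3, F, iF, iN, hc, -, he⟩
  · exact Or.inl h
  · exact Or.inr ⟨F, iF, iN, h3 ▸ hc, he⟩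

theorem corr_of_tab {p : ℕ} [Fact p.Prime] (hT : H663.GmnStep.Tab.{u} p) {X : Type u} [Group X] [Fintype X]
    (Q : Sylow p X) [Fintype ↥(Q : Subgroup X)]
    (h : Subgroup.normalizer ((Q : Subgroup X) : Set X) = (Q : Subgroup X)) : GmnBlock.Corr p (Q : Subgroup X) :=
  H663.GmnStep.final hT Q h

end Cfsg.Agent.H142.GmnFinal
end
end
end
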