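import Cfsg.Agent.H696.GmnThree
import Cfsg.Agent.H507.GmnRows_m3
import Cfsg.Agent.H711.Crit_m3
import Cfsg.Agent.ChevalleyStructure.WeylData
import Cfsg.Agent.H709.GmnCrit
import Cfsg.Agent.Lib.NormalAbelian
import Cfsg.Agent.H709.GmnPSU
import Cfsg.Agent.H709.CharPow
import Cfsg.Agent.H183.SemisSU
import Cfsg.Agent.H103.PGUUpper
import Cfsg.Agent.S0279
import Cfsg.Agent.S2378
import Cfsg.Agent.S1063
import Cfsg.Agent.S1035
import Cfsg.Agent.S1093
import Cfsg.Agent.S1054
import Mathlib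
import Cfsg.Agent.H712.GmnJThree
import Cfsg.Agent.CpAut.SporThree.ON
import Cfsg.Agent.FastGrp
import Cfsg.Agent.Prune
set_option linter.all false

section
prune_inst 0x7fb0a9f88fb8a5dfdfff7e77f6d4cffdf9b89fffe6def94b7fe0e1ff0bdf43000fe57b870fe090fe0ed6e03410b87b13fbfffeffe26bfc7ffffd5ff41ffbee4fe5f6b50851d694240f380ff703f07f8e7f3fffffffffffffffffffffffffffbeffbfffffffff

-- part: H142/GmnFive
section
prune_inst 0x4c460320400220000001880808100004402000000104808000020000000800e002802800100000100000080440000000000100010000000000000040001180180108012028089a000200086000000000000000000000000000000000000000004000000000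
set_option linter.all false
open scoped Cfsg.Agent.FastGrp

-- part: H142/GmnCoreFive
section
/-!
# Guralnick-Malle-Navarro rows: the torus with `p = 5` (`E₆`, `²E₆`)

* `rowS_core` : an elementary abelian subgroup `E` of `S` such that no other elementary abelian subgroup of the same order
  normalises `E`, and an element of `S` acting on `E` with determinant `≠ 1` : `RowS p S`.
* `rowS_five` : a finite group containing the `5`-torsion of a torus and a lift of a simple reflection.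
-/

set_option autoImplicit false
set_option linter.unusedSectionVars false
set_option linter.style.haveILetI false

namespace Cfsg.Agent.H142.GmnCoreFive

open Subgroup Cfsg.Agent.H712.Gmn

section Core

/-- a subgroup containing the normaliser of its Sylow subgroup has index prime to `p` -/
theorem not_dvd_index {Γ : Type*} [Group Γ] [Finite Γ] {p : ℕ} [hp : Fact p.Prime] {H : Subgroup Γ} (P : Sylow p ↥H)
    (hN : normalizer (((P : Subgroup ↥H).map H.subtype : Subgroup Γ) : Set Γ) ≤ H) : ¬ p ∣ H.index := by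
  set P' : Subgroup Γ := (P : Subgroup ↥H).map H.subtype with hP'
  have hP'H : P' ≤ H := map_subtype_le _
  have h3 : P'.relIndex H = (P : Subgroup ↥H).index := by
    rw [Subgroup.relIndex, hP', Subgroup.subgroupOf, comap_map_eq_self_of_injective H.subtype_injective]
  obtain ⟨n, hn⟩ := IsPGroup.iff_card.1 (P.isPGroup'.map H.subtype)
  have h1 : P'.relIndex (normalizer (P' : Set Γ)) ≡ P'.index [MOD p] :=
    Sylow.card_quotient_normalizer_modEq_card_quotient hn
  have h2 : P'.relIndex (normalizer (P' : Set Γ)) ∣ (P : Subgroup ↥H).index := by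
    rw [← h3, ← relIndex_mul_relIndex P' _ H le_normalizer hN]
    exact Dvd.intro _ rfl
  intro hd
  have h4 : p ∣ P'.index := hd.trans (index_dvd_of_le hP'H)
  have h5 : p ∣ P'.relIndex (normalizer (P' : Set Γ)) :=
    (Nat.modEq_zero_iff_dvd).1 (h1.trans ((Nat.modEq_zero_iff_dvd).2 h4))
  exact P.not_dvd_index (h5.trans h2)

variable {S : Type*} [Group S] {p : ℕ} [hp : Fact p.Prime] (E : Subgroup S)

/-- the stabiliser of `E` in the automorphism group -/
def St : Subgroup (MulAut S) where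
  carrier := {α | ∀ x, α x ∈ E ↔ x ∈ E}
  one_mem' := fun _ => Iff.rfl
  mul_mem' := fun {a b} ha hb x => (ha (b x)).trans (hb x)
  inv_mem' := fun {a} ha x => by
    have h1 := ha (a⁻¹ x)
    rw [MulAut.apply_inv_self] at h1
    exact h1.symm

variable {E}

theorem conj_mem_St [Finite S] {s : S} (hs : ∀ y ∈ E, s * y * s⁻¹ ∈ E) : MulAut.conj s ∈ St E := by
  have h1 : s ∈ normalizer (E : Set S) := by
    rw [Subgroup.mem_normalizer_iff]
    intro x
    refine ⟨hs x, fun hx => ?_⟩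
    let f : ↥E → ↥E := fun x => ⟨s * x * s⁻¹, hs x x.2⟩
    have hf : Function.Injective f := by
      intro a b hab
      have := congrArg Subtype.val hab
      exact Subtype.ext (mul_left_cancel (mul_right_cancel this))
    obtain ⟨y, hy⟩ := (Finite.injective_iff_surjective.1 hf) ⟨s * x * s⁻¹, hx⟩
    have h2 := congrArg Subtype.val hy
    have h3 : (y : S) = x := mul_left_cancel (mul_right_cancel h2)
    rw [← h3]
    exact y.2
  intro x
  rw [MulAut.conj_apply]
  exact ((Subgroup.mem_normalizer_iff.1 h1) x).symm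

variable (hEc : ∀ x ∈ E, ∀ y ∈ E, x * y = y * x) (hEp : ∀ x ∈ E, x ^ p = 1)

include hEc hEp in
/-- the index of the stabiliser -/
theorem index_St [Finite S] (huniq : ∀ E' : Subgroup S, (∀ x ∈ E', ∀ y ∈ E', x * y = y * x) → (∀ x ∈ E', x ^ p = 1) →
      Nat.card E' = Nat.card E → (∀ x ∈ E', ∀ y ∈ E, x * y * x⁻¹ ∈ E) → E' = E) : ¬ p ∣ (St E).index := by
  have hfin := finite_mulAut (S := S)
  obtain ⟨P⟩ : Nonempty (Sylow p ↥(St E)) := inferInstance
  refine not_dvd_index P fun γ hγ => ?_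
  -- `conj E` is contained in `P`
  have hEE : ∀ x ∈ E, MulAut.conj x ∈ St E := fun x hx => conj_mem_St fun y hy =>
    mul_mem (mul_mem hx hy) (inv_mem hx)
  let Ê : Subgroup ↥(St E) := ((E.map MulAut.conj : Subgroup (MulAut S))).subgroupOf (St E)
  have hn : Ê.Normal := by
    refine ⟨?_⟩
    rintro ⟨a, ha⟩ ⟨x, hx, e⟩ ⟨g, hg⟩
    have e' : MulAut.conj x = a := e
    refine ⟨g x, (hg x).2 hx, ?_⟩
    show MulAut.conj (g x) = g * a * g⁻¹
    rw [← e', mul_conj_inv]
  have hÊp : IsPGroup p Ê := by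
    rintro ⟨⟨a, ha⟩, ⟨x, hx, e⟩⟩
    have e' : MulAut.conj x = a := e
    refine ⟨1, Subtype.ext (Subtype.ext ?_)⟩
    show a ^ p ^ 1 = 1
    rw [pow_one, ← e', ← map_pow, hEp x hx, map_one]
  have hÊP : Ê ≤ P := by
    have h1 : IsPGroup p (↥((P : Subgroup ↥(St E)) ⊔ Ê)) := P.2.to_sup_of_normal_right hÊp
    have h2 : (P : Subgroup ↥(St E)) ⊔ Ê = P := P.3 h1 le_sup_left
    rw [← h2]
    exact le_sup_right
  have hPmem : ∀ x ∈ E, MulAut.conj x ∈ (P : Subgroup ↥(St E)).map (St E).subtype := fun x hx =>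
    ⟨⟨MulAut.conj x, hEE x hx⟩, hÊP ⟨x, hx, rfl⟩, rfl⟩
  -- the image of `E`
  have h3 : E.map γ.toMonoidHom = E := by
    refine huniq _ ?_ ?_ ?_ ?_
    · rintro _ ⟨x, hx, rfl⟩ _ ⟨y, hy, rfl⟩
      show γ x * γ y = γ y * γ x
      rw [← map_mul, hEc x hx y hy, map_mul]
    · rintro _ ⟨x, hx, rfl⟩
      show (γ x) ^ p = 1
      rw [← map_pow, hEp x hx, map_one]
    · exact Subgroup.card_map_of_injective (f := γ.toMonoidHom) γ.injective
    · rintro _ ⟨x, hx, rfl⟩ y hy
      have h4 := (Subgroup.mem_normalizer_iff.1 hγ _).1 (hPmem x hx)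
      obtain ⟨⟨a, ha⟩, -, e⟩ := h4
      have e' : a = γ * MulAut.conj x * γ⁻¹ := e
      have h5 := (ha y).2 hy
      rw [e', mul_conj_inv] at h5
      exact h5
  intro x
  constructor
  · intro h4
    rw [← h3] at h4
    obtain ⟨y, hy, e⟩ := h4
    rw [← γ.injective e]
    exact hy
  · intro h4
    rw [← h3]
    exact ⟨x, h4, rfl⟩

/-- the determinant of an action on a vector space over `ZMod p` -/
theorem exists_det_aux {H V : Type*} [Group H] [AddCommGroup V] [Finite V] [Module (ZMod p) V] (a : H → V → V)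
    (h1 : ∀ v, a 1 v = v) (hmul : ∀ x y v, a (x * y) v = a x (a y v)) (hadd : ∀ x v w, a x (v + w) = a x v + a x w) :
    ∃ f : H →* (ZMod p)ˣ, (∀ x, (∀ v, a x v = v) → f x = 1) ∧
      ∀ (x : H) (F : V →+ ZMod p) (u : V), (∀ v, a x v = v + F v • u) → ((f x : (ZMod p)ˣ) : ZMod p) = 1 + F u := by
  let g : H → V →+ V := fun x => AddMonoidHom.mk' (a x) (hadd x)
  let e : H →* (V ≃ₗ[ZMod p] V) :=
    { toFun := fun x =>
        { toFun := a x
          invFun := a x⁻¹
          map_add' := hadd x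
          map_smul' := fun c v => ZMod.map_smul (g x) c v
          left_inv := fun v => by rw [← hmul, inv_mul_cancel, h1]
          right_inv := fun v => by rw [← hmul, mul_inv_cancel, h1] }
      map_one' := LinearEquiv.ext h1
      map_mul' := fun x y => LinearEquiv.ext (hmul x y) }
  refine ⟨(LinearEquiv.det).comp e, fun x hx => ?_, fun x F u hu => ?_⟩
  · have h2 : e x = 1 := LinearEquiv.ext hx
    rw [MonoidHom.comp_apply, h2, map_one]
  · rw [MonoidHom.comp_apply, LinearEquiv.coe_det]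
    have h2 : ((e x : V ≃ₗ[ZMod p] V) : V →ₗ[ZMod p] V) = LinearMap.transvection (AddMonoidHom.toZModLinearMap p F) u :=
      LinearMap.ext fun v => by
        rw [LinearMap.transvection.apply]
        exact hu v
    rw [h2, LinearMap.transvection.det]
    rfl

/-- the determinant on `E` -/
theorem exists_det [Finite S] (hEc : ∀ x ∈ E, ∀ y ∈ E, x * y = y * x) (hEp : ∀ x ∈ E, x ^ p = 1) :
    ∃ f : ↥(St E) →* (ZMod p)ˣ, (∀ α : ↥(St E), (∀ x ∈ E, (α : MulAut S) x = x) → f α = 1) ∧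
      ∀ (α : ↥(St E)) (m : ↥E → ZMod p) (u : ↥E), (∀ x y, m (x * y) = m x + m y) →
        (∀ x : ↥E, (α : MulAut S) x = x * (u : S) ^ (m x).val) → ((f α : (ZMod p)ˣ) : ZMod p) = 1 + m u := by
  classical
  have hc : ∀ x y : ↥E, x * y = y * x := fun x y => Subtype.ext (hEc x x.2 y y.2)
  letI : CommGroup ↥E := { (inferInstance : Group ↥E) with mul_comm := hc }
  have hEp' : ∀ x : Additive ↥E, p • x = 0 := by
    intro x
    have h1 : (x.toMul : ↥E) ^ p = 1 := Subtype.ext (hEp _ x.toMul.2)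
    exact congrArg Additive.ofMul h1
  letI : Module (ZMod p) (Additive ↥E) := AddCommGroup.zmodModule hEp'
  obtain ⟨f, hf1, hf2⟩ := exists_det_aux (p := p) (H := ↥(St E)) (V := Additive ↥E)
    (fun α x => Additive.ofMul ⟨(α : MulAut S) (x.toMul : ↥E), (α.2 _).2 x.toMul.2⟩) (fun v => rfl) (fun x y v => rfl)
    (fun x v w => congrArg Additive.ofMul (Subtype.ext (map_mul (x : MulAut S) _ _)))
  refine ⟨f, fun α hα => hf1 α fun v => congrArg Additive.ofMul (Subtype.ext (hα _ v.toMul.2)), fun α m u hm hu => ?_⟩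
  let mm : Additive ↥E →+ ZMod p := AddMonoidHom.mk' (fun x => m x.toMul) (fun x y => hm _ _)
  refine hf2 α mm (Additive.ofMul u) fun x => ?_
  have h2 : (mm x) • (Additive.ofMul u : Additive ↥E) = (m x.toMul).val • (Additive.ofMul u : Additive ↥E) := by
    show (m x.toMul) • (Additive.ofMul u : Additive ↥E) = _
    rw [← Nat.cast_smul_eq_nsmul (ZMod p), ZMod.natCast_val, ZMod.cast_id', id]
  rw [h2]
  refine congrArg Additive.ofMul (Subtype.ext ?_)
  exact hu x.toMul

include hEc hEp in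
/-- **The core.** -/
theorem rowS_core [Finite S] (hZ : center S = ⊥)
    (huniq : ∀ E' : Subgroup S, (∀ x ∈ E', ∀ y ∈ E', x * y = y * x) → (∀ x ∈ E', x ^ p = 1) →
      Nat.card E' = Nat.card E → (∀ x ∈ E', ∀ y ∈ E, x * y * x⁻¹ ∈ E) → E' = E) (s : S)
    (hs : ∀ y ∈ E, s * y * s⁻¹ ∈ E) (u : ↥E) (m : ↥E → ZMod p) (hm : ∀ x y, m (x * y) = m x + m y)
    (hsm : ∀ x : ↥E, s * x * s⁻¹ = x * (u : S) ^ (m x).val) (hu : m u ≠ 0) : RowS p S := by
  have hfin := finite_mulAut (S := S)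
  obtain ⟨f, hf1, hf2⟩ := exists_det (p := p) hEc hEp
  intro B hB Q hQ
  refine H507.Gmn.cover_strong hZ (MonoidHom.id (MulAut S)) (St E) (index_St hEc hEp huniq) (K := (ZMod p)ˣ) ?_ f ?_ E
    ?_ ?_ ?_ B hB (fun x _ => ⟨x, rfl⟩) Q ?_
  · rw [Nat.card_eq_fintype_card, ZMod.card_units]
    intro hd
    have := Nat.le_of_dvd (by have := hp.out.two_le; omega) hd
    have := hp.out.two_le
    omega
  · refine ⟨⟨MulAut.conj s, conj_mem_St hs⟩, ⟨s, rfl⟩, fun h1 => ?_⟩
    have h2 := hf2 ⟨MulAut.conj s, conj_mem_St hs⟩ m u hm fun x => hsm x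
    rw [h1, Units.val_one, left_eq_add] at h2
    exact hu h2
  · rintro ⟨x, hx⟩
    exact ⟨1, Subtype.ext (by rw [pow_one]; exact hEp x hx)⟩
  · intro w _ t ht
    exact (w.2 t).2 ht
  · intro w _ _ hw
    by_contra hcon
    push Not at hcon
    exact hw (hf1 w hcon)
  · rintro _ ⟨x, hx, rfl⟩
    exact hQ x hx

end Core

end Cfsg.Agent.H142.GmnCoreFive
end

-- part: H142/GmnFive
section
/-!
# Guralnick-Malle-Navarro rows: a torus of `E₆` and the prime `5`

* `eq_one_of_sq` : `w ∈ W`, `w ^ 5 = 1`, `(w - 1) ^ 2 = 0` modulo `5` : `w = 1`;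
* `rowS_of_setup` : a finite group `S` with a `TorSetup` at `5`, the index of connection prime to `5`, `25 ∤ |W|`;
* `rowS_five` : the case of `E₆`.
-/

set_option autoImplicit false
set_option linter.unusedSectionVars false

namespace Cfsg.Agent.H142.GmnFive

open CoxeterSystem Subgroup Cfsg Cfsg.Lie Cfsg.Lie.ChevalleyDatum
open Cfsg.Agent.ChevalleyStructure Cfsg.Agent.ChevalleyStructure.Elts Cfsg.Agent.ChevalleyStructure.CoxeterGeom
  Cfsg.Agent.ChevalleyStructure.CoxeterGeomTypes Cfsg.Agent.ChevalleyStructure.NPerm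
open Cfsg.Agent.Tits.Roots Cfsg.Agent.Tits.Core Cfsg.Agent.Nodes Cfsg.Agent.Nodes.Reps Cfsg.Agent.Nodes.BNOf
  Cfsg.Agent.Nodes.RGDChev Cfsg.Agent.Nodes.Bruhat
open Cfsg.Agent.KFacts.RgdField Cfsg.Agent.KFacts.RgdChevCoord
open Cfsg.Agent.BpExc Cfsg.Agent.BpExc.TorCent Cfsg.Agent.BpExc.TorChev Cfsg.Agent.BpExc.Tow
open Cfsg.Agent.BpExc.TowChev Cfsg.Agent.BpExc.NChev
open Cfsg.Agent.BpExc.RowsUntw Cfsg.Agent.BpExc.FamInst Cfsg.Agent.BpExc.FamExt
open Cfsg.Agent.H696.GmnToral Cfsg.Agent.H696.GmnTor Cfsg.Agent.H696.GmnInv Cfsg.Agent.H696.GmnTorSetup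
open Cfsg.Agent.H712.Gmn
open Cfsg.Agent.H129.TorusChar (cX IsMC cX_root exists_cX isMC_cX cX_inj cX_mul cX_sr cX_one cX_pow)

universe u v

section Five

variable {I W : Type*} [Fintype I] [DecidableEq I] [Group W] {M : CoxeterMatrix I}
  {cs : CoxeterSystem M W} {A : I → I → ℤ} {h : IsCartan M A}

theorem eq_one_of_sq [Finite W] {w : W} (hw5 : w ^ 5 = 1)
    (hw : ∀ (x : I → ℤ) i, (5 : ℤ) ∣ (rep cs h w (rep cs h w x) - (2 : ℤ) • rep cs h w x + x) i) : w = 1 := by
  by_contra hne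
  obtain ⟨a, ha, hsum⟩ := Fix.exists_root_sum_eq_zero (cs := cs) (h := h) hne (by decide : 0 < 5) hw5
  have hex : ∀ x : I → ℤ, ∃ b : I → ℤ, rep cs h w (rep cs h w x) - (2 : ℤ) • rep cs h w x + x = (5 : ℤ) • b := by
    intro x
    choose b hb using hw x
    exact ⟨b, funext hb⟩
  obtain ⟨b, hb⟩ := hex a
  obtain ⟨c, hc⟩ := hex b
  obtain ⟨n, hn⟩ : ∃ n, n = rep cs h w a - a := ⟨_, rfl⟩
  obtain ⟨m, hm⟩ : ∃ m, m = rep cs h w b - b := ⟨_, rfl⟩
  have e1 : rep cs h w a = a + n := by rw [hn]; abel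
  have e2 : rep cs h w b = b + m := by rw [hm]; abel
  have e3 : rep cs h w n = n + (5 : ℤ) • b := by
    rw [← hb, hn, map_sub]
    module
  have e4 : rep cs h w m = m + (5 : ℤ) • c := by
    rw [← hc, hm, map_sub]
    module
  have p2 : rep cs h (w ^ 2) a = a + (2 : ℤ) • n + (5 : ℤ) • b := by
    rw [pow_succ', pow_one, rep_mul_apply, e1, map_add, e1, e3]; module
  have p3 : rep cs h (w ^ 3) a = a + (3 : ℤ) • n + (15 : ℤ) • b + (5 : ℤ) • m := by
    rw [pow_succ', rep_mul_apply, p2, map_add, map_add, map_smul, map_smul, e1, e3, e2]; module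
  have p4 : rep cs h (w ^ 4) a = a + (4 : ℤ) • n + (30 : ℤ) • b + (20 : ℤ) • m + (25 : ℤ) • c := by
    rw [pow_succ', rep_mul_apply, p3, map_add, map_add, map_add, map_smul, map_smul, map_smul, e1, e3, e2, e4]; module
  rw [Finset.sum_range_succ, Finset.sum_range_succ, Finset.sum_range_succ, Finset.sum_range_succ,
    Finset.sum_range_one, pow_zero, map_one, Module.End.one_apply, pow_one, e1, p2, p3, p4] at hsum
  have h5 : (5 : ℤ) • (a + (2 : ℤ) • n + (10 : ℤ) • b + (5 : ℤ) • m + (5 : ℤ) • c) = 0 := by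
    rw [← hsum]; module
  have h6 : a + (2 : ℤ) • n + (10 : ℤ) • b + (5 : ℤ) • m + (5 : ℤ) • c = 0 := by
    rcases smul_eq_zero.1 h5 with h7 | h7
    · exact absurd h7 (by decide)
    · exact h7
  have h7 := congrArg (rep cs h w) h6
  rw [map_add, map_add, map_add, map_add, map_smul, map_smul, map_smul, map_smul, map_zero, e1, e2, e3, e4] at h7
  have h8 : n + (10 : ℤ) • b + (10 : ℤ) • m + (25 : ℤ) • c + (5 : ℤ) • (rep cs h w c - c) = 0 := by
    have h9 : a + n + (2 : ℤ) • (n + (5 : ℤ) • b) + (10 : ℤ) • (b + m) + (5 : ℤ) • (m + (5 : ℤ) • c) +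
        (5 : ℤ) • rep cs h w c - (a + (2 : ℤ) • n + (10 : ℤ) • b + (5 : ℤ) • m + (5 : ℤ) • c) = 0 := by
      rw [h7, h6, sub_zero]
    rw [← h9]; module
  have h9 : a = (5 : ℤ) • (((2 : ℤ) • b + (3 : ℤ) • m + (9 : ℤ) • c + (2 : ℤ) • (rep cs h w c - c)) : I → ℤ) := by
    have h10 : a + (2 : ℤ) • n + (10 : ℤ) • b + (5 : ℤ) • m + (5 : ℤ) • c - (2 : ℤ) • (n + (10 : ℤ) • b +
      (10 : ℤ) • m + (25 : ℤ) • c + (5 : ℤ) • (rep cs h w c - c)) = 0 := by rw [h6, h8, smul_zero, sub_zero]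
    rw [← sub_eq_zero, ← h10]; module
  obtain ⟨i, hi⟩ := not_dvd_root ha (p := (5 : ℤ)) (fun hu => by
    have := Int.isUnit_iff.1 hu
    omega)
  apply hi
  rw [h9]
  exact ⟨_, rfl⟩

end Five

/-! ### the torus -/

section Tor

variable {D : ChevalleyDatum} {l : ℕ} {M : CoxeterMatrix (Fin l)} (hp : IsType D l M) {k : Type u} [Field k]
  [IsAlgClosed k] (hk : LocFin k) (r : ℕ) [Fact r.Prime] [CharP k r] {W : Type v} [Group W] (cs : CoxeterSystem M W)

/-- Elements of order dividing `p` of the torus, `p` prime to the index of connection. -/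
theorem tors_mem {d : ℕ} {B : Fin l → Fin l → ℤ} (hB : InvC D l d B) {p : ℕ} (hpd : Nat.Coprime p d)
    {P : Subgroup ↥(D.group k)} (hP : ∀ (j : Fin l) (c : k), c ^ p = 1 → hc hp j c ∈ P)
    {t : ↥(D.group k)} (ht : t ∈ TT D k) (htp : t ^ p = 1) : t ∈ P := by
  classical
  refine mem_of_pow htp hpd ?_
  have hcX := isMC_cX hp ht
  let b : Fin l → k := fun m => cX hp t (sr m)
  have hb0 : ∀ m, b m ≠ 0 := fun m => hcX.ne_zero _
  have hbp : ∀ m, b m ^ p = 1 := fun m => by
    show cX hp t (sr m) ^ p = 1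
    rw [← cX_pow hp ht, htp, cX_one]
  let a : Fin l → k := fun j => ∏ m, b m ^ B m j
  have ha0 : ∀ j, a j ≠ 0 := fun j => Finset.prod_ne_zero_iff.2 fun m _ => zpow_ne_zero _ (hb0 m)
  have hap : ∀ j, a j ^ p = 1 := fun j => by
    show (∏ m, b m ^ B m j) ^ p = 1
    rw [← Finset.prod_pow]
    refine Finset.prod_eq_one fun m _ => ?_
    rw [← zpow_natCast, ← zpow_mul, mul_comm, zpow_mul, zpow_natCast, hbp, one_zpow]
  -- the product of the coroot elements
  have hex : ∀ S : Finset (Fin l), ∃ g ∈ P, g ∈ TT D k ∧ ∀ x : Fin l → ℤ,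
      cX hp g x = ∏ j ∈ S, a j ^ pairing (cartanOf D l) j x := by
    intro S
    induction S using Finset.induction_on with
    | empty => exact ⟨1, one_mem _, one_mem _, fun x => by rw [cX_one, Finset.prod_empty]⟩
    | insert j S hj ih =>
      obtain ⟨g, hg, hgT, e⟩ := ih
      refine ⟨hc hp j (a j) * g, mul_mem (hP j _ (hap j)) hg, mul_mem (hc_mem hp j (ha0 j)) hgT, fun x => ?_⟩
      rw [cX_mul hp (hc_mem hp j (ha0 j)) hgT, e, Finset.prod_insert hj]
      congr 1
      have h1 : IsMC fun x : Fin l → ℤ => a j ^ pairing (cartanOf D l) j x := by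
        refine ⟨?_, fun x y => ?_⟩
        · have : pairing (cartanOf D l) j 0 = 0 := by unfold pairing; simp
          rw [this, zpow_zero]
        · rw [pairing_add, zpow_add₀ (ha0 j)]
      refine (isMC_cX hp (hc_mem hp j (ha0 j))).ext h1 (fun i => ?_) x
      rw [cX_sr, ← vec_simple hp i, ch_hc hp j (ha0 j) (simple_lt hp.inList (lt_rank hp i)),
        pairing_vec hp j (simple_lt hp.inList (lt_rank hp i))]
  obtain ⟨g, hg, hgT, e⟩ := hex Finset.univ
  have h1 : g = t ^ d := by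
    refine cX_inj hp hgT (pow_mem ht d) fun i => ?_
    rw [e, cX_pow hp ht]
    have h2 : ∀ j, a j ^ pairing (cartanOf D l) j (sr i) = ∏ m, b m ^ (B m j * pairing (cartanOf D l) j (sr i)) := by
      intro j
      show (∏ m, b m ^ B m j) ^ _ = _
      rw [← Finset.prod_zpow]
      exact Finset.prod_congr rfl fun m _ => (zpow_mul _ _ _).symm
    have h3 : ∀ m, ∏ j, b m ^ (B m j * pairing (cartanOf D l) j (sr i)) = if m = i then b m ^ d else 1 := by
      intro m
      have h4 : ∀ S : Finset (Fin l), ∏ j ∈ S, b m ^ (B m j * pairing (cartanOf D l) j (sr i)) =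
          b m ^ (∑ j ∈ S, B m j * pairing (cartanOf D l) j (sr i)) := by
        intro S
        induction S using Finset.induction_on with
        | empty => rw [Finset.prod_empty, Finset.sum_empty, zpow_zero]
        | insert j S hj ih => rw [Finset.prod_insert hj, Finset.sum_insert hj, zpow_add₀ (hb0 m), ih]
      rw [h4]
      have h5 : ∑ j, B m j * pairing (cartanOf D l) j (sr i) = if m = i then (d : ℤ) else 0 := by
        rw [← hB m i]
        refine Finset.sum_congr rfl fun j _ => ?_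
        rw [sr, pairing_single, mul_one]
      rw [h5]
      split_ifs
      · rw [zpow_natCast]
      · rw [zpow_zero]
    rw [Finset.prod_congr rfl fun j _ => h2 j, Finset.prod_comm, Finset.prod_congr rfl fun m _ => h3 m,
      Finset.prod_ite_eq' Finset.univ i]
    rw [if_pos (Finset.mem_univ i)]
  rw [← h1]
  exact hg

include hk r in
/-- representatives and characters -/
theorem cX_rp {w : W} {g : ↥(D.group k)} (hg : Rp cs (tow hp cs hk r (k := k)).nsys w g) {t : ↥(D.group k)}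
    (ht : t ∈ TT D k) : g * t * g⁻¹ ∈ TT D k ∧ ∀ x, cX hp (g * t * g⁻¹) (rep cs hp.isCartan w x) = cX hp t x := by
  have hTL : TL (Tj hp (k := k)) = TT D k := TL_eq hp hk
  have hXL : XL (Xj hp (k := k)) = XX D l k := XL_eq hp hk
  have C : Coords cs hp.isCartan (TL (Tj hp (k := k))) (nc hp k) (XL (Xj hp (k := k))) (xc hp) (ch hp) := by
    rw [hTL, hXL]; exact coordsL hp cs hk r
  have h1 : g * t * g⁻¹ ∈ TT D k := by
    have h2 := (Subgroup.mem_normalizer_iff.1 hg.mem_normalizer t).1 (by rw [hTL]; exact ht)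
    rwa [hTL] at h2
  refine ⟨h1, fun x => ?_⟩
  refine ((isMC_cX hp h1).comp (rep cs hp.isCartan w).toAddMonoidHom).ext (isMC_cX hp ht) (fun i => ?_) x
  have h2 := C.chi_rp (tow hp cs hk r (k := k)).nsys hg (isRoot_sr cs hp.isCartan i) (t := t) (by rw [hTL]; exact ht)
  show cX hp (g * t * g⁻¹) (rep cs hp.isCartan w (sr i)) = cX hp t (sr i)
  rw [cX_root hp cs h1 ((isRoot_sr cs hp.isCartan i).act w), h2, cX_sr]

/-- the basic torsion elements -/
theorem exists_basic {d : ℕ} {B : Fin l → Fin l → ℤ} (hB : InvC D l d B) (hd : d ≠ 0) {p : ℕ} {ζ : k}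
    (hp0 : p ≠ 0) (hζ : IsPrimitiveRoot ζ p) :
    ∃ t : Fin l → ↥(D.group k), ∀ i, t i ∈ TT D k ∧ t i ^ p = 1 ∧ ∀ x, cX hp (t i) x = ζ ^ x i := by
  have hζ0 : ζ ≠ 0 := hζ.ne_zero hp0
  obtain ⟨t, ht⟩ := exists_tors hp M.toCoxeterSystem hB hd hζ0
  have h1 : ∀ i x, cX hp (t i) x = ζ ^ x i := by
    intro i x
    have h2 : IsMC fun x : Fin l → ℤ => ζ ^ x i :=
      ⟨by rw [Pi.zero_apply, zpow_zero], fun x y => by rw [Pi.add_apply, zpow_add₀ hζ0]⟩
    refine (isMC_cX hp (ht i).1).ext h2 (fun j => ?_) x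
    rw [cX_sr]
    exact (ht i).2 _ (isRoot_sr M.toCoxeterSystem hp.isCartan j)
  refine ⟨t, fun i => ⟨(ht i).1, ?_, h1 i⟩⟩
  refine cX_inj hp (pow_mem (ht i).1 p) (one_mem _) fun j => ?_
  rw [cX_pow hp (ht i).1, h1, cX_one, ← zpow_natCast, ← zpow_mul, mul_comm, zpow_mul, zpow_natCast, hζ.pow_eq_one,
    one_zpow]

include hk r in
/-- the element of `W` is unique -/
theorem rp_unique [Finite W] {d : ℕ} {B : Fin l → Fin l → ℤ} (hB : InvC D l d B) (hd : d ≠ 0) {p : ℕ}
    (hpp : p.Prime) (hp2 : p ≠ 2) {ζ : k} (hζ : IsPrimitiveRoot ζ p) {w w' : W} {g : ↥(D.group k)}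
    (h1 : Rp cs (tow hp cs hk r (k := k)).nsys w g) (h2 : Rp cs (tow hp cs hk r (k := k)).nsys w' g) : w = w' := by
  have h3 := h1.inv.mul h2
  rw [inv_mul_cancel] at h3
  obtain ⟨t, ht⟩ := exists_basic hp hB hd hpp.pos.ne' hζ
  rw [← inv_mul_eq_one]
  refine minkowski (cs := cs) (h := hp.isCartan) hpp hp2 fun a ha i => ?_
  have h4 := (cX_rp hp hk r cs h3 (ht i).1).2 a
  have h5 : (1 : ↥(D.group k)) * t i * 1⁻¹ = t i := by group
  rw [h5, (ht i).2.2, (ht i).2.2] at h4
  refine (hζ.zpow_eq_one_iff_dvd _).1 ?_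
  rw [Pi.sub_apply, zpow_sub₀ (hζ.ne_zero hpp.pos.ne'), h4, div_self (zpow_ne_zero _ (hζ.ne_zero hpp.pos.ne'))]

end Tor

/-! ### the finite group -/

section Fin

variable {D : ChevalleyDatum} {l : ℕ} {M : CoxeterMatrix (Fin l)} (hp : IsType D l M) {k : Type u} [Field k]
  [IsAlgClosed k] (hk : LocFin k) (r : ℕ) [Fact r.Prime] [CharP k r] {W : Type v} [Group W] (cs : CoxeterSystem M W)
  {S : Type*} [Group S] {j : S →* ↥(D.group k)} (hj : Function.Injective j)

include hp hj in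
/-- the elements of order dividing `p` in the torus -/
def EE (p : ℕ) : Subgroup S where
  carrier := {s | j s ∈ TT D k ∧ s ^ p = 1}
  one_mem' := ⟨by rw [map_one]; exact one_mem _, one_pow p⟩
  mul_mem' := by
    rintro a b ⟨ha, ha'⟩ ⟨hb, hb'⟩
    refine ⟨by rw [map_mul]; exact mul_mem ha hb, ?_⟩
    have h1 : Commute a b := hj (by rw [map_mul, map_mul]; exact TT_comm hp _ ha _ hb)
    rw [h1.mul_pow, ha', hb', one_mul]
  inv_mem' := by
    rintro a ⟨ha, ha'⟩
    exact ⟨by rw [map_inv]; exact inv_mem ha, by rw [inv_pow, ha', inv_one]⟩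

theorem EE_comm {p : ℕ} : ∀ x ∈ EE hp hj p, ∀ y ∈ EE hp hj p, x * y = y * x := by
  rintro x ⟨hx, -⟩ y ⟨hy, -⟩
  exact hj (by rw [map_mul, map_mul]; exact TT_comm hp _ hx _ hy)

omit [IsAlgClosed k] in
theorem cX_inv' {t : ↥(D.group k)} (ht : t ∈ TT D k) (x : Fin l → ℤ) : cX hp t⁻¹ x = (cX hp t x)⁻¹ := by
  have h1 := cX_mul hp (inv_mem ht) ht x
  rw [inv_mul_cancel, cX_one] at h1
  exact eq_inv_of_mul_eq_one_left h1.symm

include hk r cs in
/-- **Uniqueness of `E`.** -/
theorem EE_unique [Finite S] [Finite W] {d : ℕ} {B : Fin l → Fin l → ℤ} (hB : InvC D l d B) (hd5 : Nat.Coprime 5 d)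
    {ζ : k} (hζ : IsPrimitiveRoot ζ 5) (hW : ¬ 5 ^ 2 ∣ Nat.card W)
    (htors : ∀ (i : Fin l) (c : k), c ^ 5 = 1 → hc hp i c ∈ j.range)
    {E' : Subgroup S} (hE'c : ∀ x ∈ E', ∀ y ∈ E', x * y = y * x) (hE'p : ∀ x ∈ E', x ^ 5 = 1)
    (hcard : Nat.card E' = Nat.card (EE hp hj 5))
    (hnorm : ∀ x ∈ E', ∀ y ∈ EE hp hj 5, x * y * x⁻¹ ∈ EE hp hj 5) : E' = EE hp hj 5 := by
  classical
  have h5p : Nat.Prime 5 := by norm_num
  have hf5 : Fact (Nat.Prime 5) := ⟨h5p⟩
  have hd : d ≠ 0 := by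
    rintro rfl
    exact absurd hd5 (by decide)
  have hζ0 : ζ ≠ 0 := hζ.ne_zero (by decide)
  have hTL : TL (Tj hp (k := k)) = TT D k := TL_eq hp hk
  have hXL : XL (Xj hp (k := k)) = XX D l k := XL_eq hp hk
  set E := EE hp hj 5 with hE
  obtain ⟨t, ht⟩ := exists_basic hp hB hd (by decide : 5 ≠ 0) hζ
  have hex : ∀ i, ∃ e ∈ E, j e = t i := by
    intro i
    obtain ⟨e, he⟩ := tors_mem hp hB hd5 (P := j.range) htors (ht i).1 (ht i).2.1
    refine ⟨e, ⟨by rw [he]; exact (ht i).1, hj ?_⟩, he⟩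
    rw [map_pow, he, (ht i).2.1, map_one]
  choose e heE he using hex
  -- `E'` normalises the torus
  have hnt : ∀ x ∈ E', ∀ s ∈ TT D k, j x * s * (j x)⁻¹ ∈ TT D k := by
    intro x hx s hs
    refine cent_tors hp hk r cs h5p (by decide) hζ (fun i => (ht i).1) (fun i a ha => by
      rw [← cX_root hp cs (ht i).1 ha]; exact (ht i).2.2 a) fun i => ?_
    have h1 := hnorm x⁻¹ (inv_mem hx) (e i) (heE i)
    rw [inv_inv] at h1
    have h2 : j (x⁻¹ * e i * x) ∈ TT D k := h1.1
    rw [map_mul, map_mul, map_inv, he] at h2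
    have h3 := TT_comm hp _ hs _ h2
    calc j x * s * (j x)⁻¹ * t i = j x * (s * ((j x)⁻¹ * t i * j x)) * (j x)⁻¹ := by group
      _ = j x * ((j x)⁻¹ * t i * j x * s) * (j x)⁻¹ := by rw [h3]
      _ = _ := by group
  have hrp : ∀ x : ↥E', ∃ w : W, Rp cs (tow hp cs hk r (k := k)).nsys w (j x) := by
    intro x
    refine rp_of_normalizer (tow hp cs hk r (k := k)) (GG_eq_top hp cs hk) (fun a ha => by
      rw [hTL, hXL]; exact sep hp cs hk r ha) fun s => ?_
    rw [hTL]
    refine ⟨fun h1 => ?_, hnt x x.2 s⟩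
    have h2 := hnt (x : S)⁻¹ (inv_mem x.2) _ h1
    rw [map_inv] at h2
    have h3 : (j x)⁻¹ * (j x * s * (j x)⁻¹) * (j x)⁻¹⁻¹ = s := by group
    rwa [h3] at h2
  choose θ hθ using hrp
  have huq : ∀ {w w' : W} {g : ↥(D.group k)}, Rp cs (tow hp cs hk r (k := k)).nsys w g →
      Rp cs (tow hp cs hk r (k := k)).nsys w' g → w = w' := fun h1 h2 =>
    rp_unique hp hk r cs hB hd h5p (by decide) hζ h1 h2
  let Θ : ↥E' →* W :=
    { toFun := θ
      map_one' := huq (hθ 1) (by
        have : j ((1 : ↥E') : S) = 1 := map_one j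
        rw [this]
        exact rp_one)
      map_mul' := fun x y => huq (hθ (x * y)) (by
        have : j ((x * y : ↥E') : S) = j x * j y := map_mul j _ _
        rw [this]
        exact (hθ x).mul (hθ y)) }
  have hΘ : ∀ x : ↥E', Θ x = 1 → (x : S) ∈ E := by
    intro x hx
    have h1 := hθ x
    rw [show θ x = 1 from hx] at h1
    have h2 := h1.mem_of_one
    rw [hTL] at h2
    exact ⟨h2, hE'p x x.2⟩
  by_contra hne
  have hnle : ¬ E' ≤ E := fun hle => hne (Subgroup.eq_of_le_of_card_ge hle hcard.ge)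
  obtain ⟨x, hx, hxE⟩ := SetLike.not_le_iff_exists.1 hnle
  -- the order of the intersection
  have hcap : Nat.card E ≤ Nat.card ↥(E ⊓ E' : Subgroup S) * 5 := by
    have h1 : Nat.card Θ.ker ≤ Nat.card ↥(E ⊓ E' : Subgroup S) := by
      refine Nat.card_le_card_of_injective (fun y : Θ.ker => (⟨((y : ↥E') : S), hΘ _ y.2, (y : ↥E').2⟩ :
        ↥(E ⊓ E' : Subgroup S))) fun a b hab => ?_
      have h := congrArg (fun z : ↥(E ⊓ E' : Subgroup S) => (z : S)) hab
      exact Subtype.ext (Subtype.ext h)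
    have h2 : Nat.card Θ.range ≤ 5 := by
      have h3 : IsPGroup 5 Θ.range := by
        rintro ⟨_, y, rfl⟩
        refine ⟨1, Subtype.ext ?_⟩
        show (Θ y) ^ 5 ^ 1 = 1
        rw [pow_one, ← map_pow]
        have : y ^ 5 = 1 := Subtype.ext (hE'p y y.2)
        rw [this, map_one]
      obtain ⟨n, hn⟩ := IsPGroup.iff_card.1 h3
      have h4 : Nat.card Θ.range ∣ Nat.card W := Subgroup.card_subgroup_dvd_card _
      rw [hn] at h4 ⊢
      have h5 : n < 2 := by
        by_contra h6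
        exact hW ((pow_dvd_pow 5 (not_lt.1 h6)).trans h4)
      calc 5 ^ n ≤ 5 ^ 1 := Nat.pow_le_pow_right (by decide) (by omega)
        _ = 5 := pow_one 5
    have h3 : Nat.card E' = Nat.card Θ.ker * Nat.card Θ.range := by
      rw [← Subgroup.index_ker, Subgroup.card_mul_index]
    rw [← hcard, h3]
    exact Nat.mul_le_mul h1 h2
  -- the commutator map
  have hcomm := EE_comm hp hj (p := 5)
  have hφmem : ∀ y : ↥E, x * y * x⁻¹ * (y : S)⁻¹ ∈ E := fun y => mul_mem (hnorm x hx y y.2) (inv_mem y.2)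
  let φ : ↥E →* ↥E :=
    { toFun := fun y => ⟨x * y * x⁻¹ * (y : S)⁻¹, hφmem y⟩
      map_one' := Subtype.ext (by show x * 1 * x⁻¹ * 1⁻¹ = (1 : S); group)
      map_mul' := fun y z => Subtype.ext (by
        show x * (y * z) * x⁻¹ * ((y : S) * z)⁻¹ = x * y * x⁻¹ * (y : S)⁻¹ * (x * z * x⁻¹ * (z : S)⁻¹)
        have h1 := hcomm _ (inv_mem y.2) _ (hφmem z)
        calc x * (y * z) * x⁻¹ * ((y : S) * z)⁻¹ = x * y * x⁻¹ * ((x * z * x⁻¹ * (z : S)⁻¹) * (y : S)⁻¹) := by group
          _ = _ := by rw [← h1]; group) }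
  have hφ : ∀ y : ↥E, ((φ y : ↥E) : S) = x * y * x⁻¹ * (y : S)⁻¹ := fun _ => rfl
  have hrange : Nat.card φ.range ≤ 5 := by
    have h1 : Nat.card ↥(E ⊓ E' : Subgroup S) ≤ Nat.card φ.ker := by
      refine Nat.card_le_card_of_injective (fun y : ↥(E ⊓ E' : Subgroup S) => (⟨⟨(y : S), y.2.1⟩, ?_⟩ : φ.ker))
        fun a b hab => ?_
      · rw [MonoidHom.mem_ker]
        apply Subtype.ext
        rw [hφ]
        show x * (y : S) * x⁻¹ * (y : S)⁻¹ = 1
        rw [hE'c x hx y y.2.2]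
        group
      · exact Subtype.ext (congrArg (fun z : φ.ker => ((z : ↥E) : S)) hab)
    have h2 : Nat.card E = Nat.card φ.ker * Nat.card φ.range := by
      rw [← Subgroup.index_ker, Subgroup.card_mul_index]
    have h3 : Nat.card φ.ker * Nat.card φ.range ≤ Nat.card φ.ker * 5 := by
      rw [← h2]
      exact hcap.trans (Nat.mul_le_mul_right 5 h1)
    exact Nat.le_of_mul_le_mul_left h3 Nat.card_pos
  have hφφ : ∀ y : ↥E, φ (φ y) = 1 := by
    intro y
    obtain ⟨z, hz⟩ : ∃ z, z = φ y := ⟨_, rfl⟩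
    rw [← hz]
    by_cases hz1 : z = 1
    · rw [hz1, map_one]
    have hord : orderOf z = 5 := orderOf_eq_prime (Subtype.ext z.2.2) hz1
    have hle : Subgroup.zpowers z ≤ φ.range := by
      rw [Subgroup.zpowers_le]
      exact ⟨y, hz.symm⟩
    have heq : Subgroup.zpowers z = φ.range := by
      refine Subgroup.eq_of_le_of_card_ge hle ?_
      rw [Nat.card_zpowers, hord]
      exact hrange
    have h1 : φ z ∈ Subgroup.zpowers z := by
      rw [heq]
      exact ⟨z, rfl⟩
    obtain ⟨c, hc⟩ := Subgroup.mem_zpowers_iff.1 h1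
    have h2 : (x⁻¹)⁻¹ * (z : S) * x⁻¹ = (z : S) ^ (c + 1) := by
      have h3 := congrArg Subtype.val hc
      rw [hφ] at h3
      have h4 : (z : S) ^ c = x * z * x⁻¹ * (z : S)⁻¹ := h3
      rw [zpow_add_one, h4]
      group
    have h3 := H696.GmnUntw.conj_iter h2 5
    have hx5 := hE'p x hx
    rw [inv_pow, hx5, inv_one, inv_one, one_mul, mul_one] at h3
    have h4 : (z : S) ^ ((c + 1) ^ 5 - 1) = 1 := by rw [zpow_sub_one, ← h3, mul_inv_cancel]
    have h5 : orderOf (z : S) = 5 := by rw [Subgroup.orderOf_coe, hord]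
    rw [← orderOf_dvd_iff_zpow_eq_one, h5] at h4
    have h6 : ((5 : ℕ) : ℤ) ∣ c := by
      rw [← ZMod.intCast_zmod_eq_zero_iff_dvd] at h4 ⊢
      push_cast at h4
      rw [ZMod.pow_card] at h4
      linear_combination h4
    rw [← hc]
    apply Subtype.ext
    show (z : S) ^ c = 1
    rw [← orderOf_dvd_iff_zpow_eq_one, h5]
    exact h6
  -- the element of `W`
  have hw := hθ ⟨x, hx⟩
  have hw5 : (θ ⟨x, hx⟩) ^ 5 = 1 := by
    have h1 : Θ (⟨x, hx⟩ ^ 5) = 1 := by
      have : (⟨x, hx⟩ : ↥E') ^ 5 = 1 := Subtype.ext (hE'p x hx)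
      rw [this, map_one]
    rw [map_pow] at h1
    exact h1
  have hw1 : θ ⟨x, hx⟩ = 1 := by
    refine eq_one_of_sq (cs := cs) (h := hp.isCartan) hw5 fun z i => ?_
    set w := θ ⟨x, hx⟩
    set g := j x with hg
    have hti := (ht i).1
    obtain ⟨hg1, hg2⟩ := cX_rp hp hk r cs hw hti
    -- `τ' = g t g⁻¹ t⁻¹`
    have hτ : j (φ ⟨e i, heE i⟩ : ↥E) = g * t i * g⁻¹ * (t i)⁻¹ := by
      rw [hφ]
      show j (x * e i * x⁻¹ * (e i)⁻¹) = _
      rw [map_mul, map_mul, map_mul, map_inv, map_inv, he]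
    have hτT : g * t i * g⁻¹ * (t i)⁻¹ ∈ TT D k := mul_mem hg1 (inv_mem hti)
    have hτf : g * (g * t i * g⁻¹ * (t i)⁻¹) * g⁻¹ = g * t i * g⁻¹ * (t i)⁻¹ := by
      have h1 := congrArg (fun y : ↥E => j (y : S)) (hφφ ⟨e i, heE i⟩)
      simp only [hφ (φ _), map_mul, map_inv] at h1
      rw [hτ] at h1
      have h2 : j ((1 : ↥E) : S) = 1 := map_one j
      rw [h2] at h1
      exact mul_inv_eq_one.1 h1
    obtain ⟨-, hg4⟩ := cX_rp hp hk r cs hw hτT
    rw [hτf] at hg4
    have h5 : ∀ u, cX hp (g * t i * g⁻¹ * (t i)⁻¹) (rep cs hp.isCartan w u) =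
        ζ ^ (u i) * (ζ ^ ((rep cs hp.isCartan w u) i))⁻¹ := by
      intro u
      rw [cX_mul hp hg1 (inv_mem hti), hg2, cX_inv' hp hti, (ht i).2.2, (ht i).2.2]
    have h6 := h5 (rep cs hp.isCartan w z)
    rw [hg4, h5] at h6
    refine (hζ.zpow_eq_one_iff_dvd _).1 ?_
    simp only [Pi.add_apply, Pi.sub_apply, Pi.smul_apply, smul_eq_mul]
    rw [zpow_add₀ hζ0, zpow_sub₀ hζ0, mul_comm (2 : ℤ), zpow_mul]
    have n1 : ζ ^ ((rep cs hp.isCartan w z) i) ≠ 0 := zpow_ne_zero _ hζ0
    have n2 : ζ ^ ((rep cs hp.isCartan w (rep cs hp.isCartan w z)) i) ≠ 0 := zpow_ne_zero _ hζ0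
    have e2 : ∀ y : k, y ^ (2 : ℤ) = y * y := fun y => by rw [zpow_ofNat, sq]
    rw [e2]
    field_simp at h6 ⊢
    linear_combination h6
  exact hxE (hΘ ⟨x, hx⟩ hw1)

/-- the character of a coroot element -/
theorem cX_hc (i : Fin l) {c : k} (hc0 : c ≠ 0) (x : Fin l → ℤ) :
    cX hp (hc hp i c) x = c ^ pairing (cartanOf D l) i x := by
  have h1 : IsMC fun x : Fin l → ℤ => c ^ pairing (cartanOf D l) i x := by
    refine ⟨?_, fun x y => ?_⟩
    · have : pairing (cartanOf D l) i 0 = 0 := by unfold pairing; simp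
      rw [this, zpow_zero]
    · rw [pairing_add, zpow_add₀ hc0]
  refine (isMC_cX hp (hc_mem hp i hc0)).ext h1 (fun m => ?_) x
  rw [cX_sr, ← vec_simple hp m, ch_hc hp i hc0 (simple_lt hp.inList (lt_rank hp m)),
    pairing_vec hp i (simple_lt hp.inList (lt_rank hp m))]

include hk r cs in
/-- **The row.** A finite group with a torus setup at the prime `5`. -/
theorem rowS_of_setup [Finite S] [Finite W] {d : ℕ} {B : Fin l → Fin l → ℤ} (hB : InvC D l d B)
    (hd5 : Nat.Coprime 5 d) {ζ : k} (hζ : IsPrimitiveRoot ζ 5) (hW : ¬ 5 ^ 2 ∣ Nat.card W) (hZ : center S = ⊥)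
    (i0 : Fin l) {ι : S →* ↥(D.group k)} {v : ↥(D.group k)} (H : TorSetup hp hk r cs 5 ι v) : RowS 5 S := by
  have hf5 : Fact (Nat.Prime 5) := ⟨by norm_num⟩
  have hζ0 : ζ ≠ 0 := hζ.ne_zero (by decide)
  let j : S →* ↥(D.group k) := (MulAut.conj v⁻¹).toMonoidHom.comp ι
  have hjv : ∀ s, j s = v⁻¹ * ι s * v := fun s => by
    show v⁻¹ * ι s * v⁻¹⁻¹ = _
    rw [inv_inv]
  have hj : Function.Injective j := (MulAut.conj v⁻¹).injective.comp H.inj
  have htors : ∀ (i : Fin l) (c : k), c ^ 5 = 1 → hc hp i c ∈ j.range := by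
    intro i c hc5
    obtain ⟨s, hs⟩ := H.tors i c hc5
    refine ⟨s, ?_⟩
    rw [hjv, hs]
    group
  obtain ⟨s, hs⟩ := H.lift (cs.simple i0)
  rw [← hjv] at hs
  have hEc := EE_comm hp hj (p := 5)
  have hEp : ∀ x ∈ EE hp hj 5, x ^ 5 = 1 := fun x hx => hx.2
  -- logarithms
  have hlog : ∀ x : ↥(EE hp hj 5), ∃ n : ℕ, ζ ^ n = cX hp (j x) (sr i0) := by
    intro x
    have h1 : (cX hp (j x) (sr i0)) ^ 5 = 1 := by
      rw [← cX_pow hp x.2.1, ← map_pow, x.2.2, map_one, cX_one]
    obtain ⟨n, -, hn⟩ := hζ.eq_pow_of_pow_eq_one h1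
    exact ⟨n, hn⟩
  choose lg hlg using hlog
  have hpe : ∀ n m : ℕ, ζ ^ n = ζ ^ m ↔ ((n : ZMod 5) = (m : ZMod 5)) := by
    intro n m
    rw [← zpow_natCast, ← zpow_natCast, ← div_eq_one_iff_eq (zpow_ne_zero _ hζ0), ← zpow_sub₀ hζ0,
      hζ.zpow_eq_one_iff_dvd, ← ZMod.intCast_zmod_eq_zero_iff_dvd]
    push_cast
    exact sub_eq_zero
  have hval : ∀ x : ↥(EE hp hj 5), ζ ^ (((lg x : ℕ) : ZMod 5)).val = cX hp (j x) (sr i0) := by
    intro x
    rw [← hlg x, hpe, ZMod.natCast_val, ZMod.cast_id]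
  -- the coroot element
  obtain ⟨u0, hu0⟩ := htors i0 ζ hζ.pow_eq_one
  have hu0E : u0 ∈ EE hp hj 5 := by
    refine ⟨by rw [hu0]; exact hc_mem hp i0 hζ0, hj ?_⟩
    rw [map_pow, hu0, map_one]
    refine cX_inj hp (pow_mem (hc_mem hp i0 hζ0) 5) (one_mem _) fun i => ?_
    rw [cX_pow hp (hc_mem hp i0 hζ0), cX_one, cX_hc hp i0 hζ0, ← zpow_natCast, ← zpow_mul, mul_comm, zpow_mul,
      zpow_natCast, hζ.pow_eq_one, one_zpow]
  have hju : ∀ x, cX hp (j u0⁻¹) x = (ζ ^ pairing (cartanOf D l) i0 x)⁻¹ := by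
    intro x
    rw [map_inv, cX_inv' hp hu0E.1, hu0, cX_hc hp i0 hζ0]
  have huT : j u0⁻¹ ∈ TT D k := (inv_mem hu0E).1
  refine H142.GmnCoreFive.rowS_core hEc hEp hZ ?_ s ?_ ⟨u0⁻¹, inv_mem hu0E⟩ (fun x => ((lg x : ℕ) : ZMod 5)) ?_ ?_ ?_
  · intro E' h1 h2 h3 h4
    exact EE_unique hp hk r cs hj hB hd5 hζ hW htors h1 h2 h3 h4
  · intro y hy
    refine ⟨?_, ?_⟩
    · rw [map_mul, map_mul, map_inv]
      exact (cX_rp hp hk r cs hs hy.1).1
    · rw [conj_pow, hy.2, mul_one, mul_inv_cancel]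
  · intro x y
    show ((lg (x * y) : ℕ) : ZMod 5) = ((lg x : ℕ) : ZMod 5) + ((lg y : ℕ) : ZMod 5)
    rw [← Nat.cast_add, ← hpe, hlg, pow_add, hlg, hlg]
    show cX hp (j ((x : S) * y)) (sr i0) = _
    rw [map_mul, cX_mul hp x.2.1 y.2.1]
  · intro x
    show s * x * s⁻¹ = x * u0⁻¹ ^ (((lg x : ℕ) : ZMod 5)).val
    obtain ⟨h1, h2⟩ := cX_rp hp hk r cs hs x.2.1
    apply hj
    rw [map_mul, map_mul, map_inv, map_mul, map_pow]
    refine cX_inj hp h1 (mul_mem x.2.1 (pow_mem huT _)) fun i => ?_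
    obtain ⟨n, hn⟩ : ∃ n, n = (((lg x : ℕ) : ZMod 5)).val := ⟨_, rfl⟩
    have h3 : rep cs hp.isCartan (cs.simple i0) (rep cs hp.isCartan (cs.simple i0) (sr i)) = sr i := by
      rw [← rep_mul_apply, cs.simple_mul_simple_self, map_one, Module.End.one_apply]
    have h4 := h2 (rep cs hp.isCartan (cs.simple i0) (sr i))
    rw [h3] at h4
    rw [h4, cX_mul hp x.2.1 (pow_mem huT _), cX_pow hp huT, hju, rep_simple, refl_apply]
    have hcX := isMC_cX hp x.2.1
    have h5 : sr i - Pi.single i0 (pairing (cartanOf D l) i0 (sr i)) =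
        sr i + (-pairing (cartanOf D l) i0 (sr i)) • (sr i0 : Fin l → ℤ) := by
      generalize pairing (cartanOf D l) i0 (sr i) = c
      rw [sub_eq_add_neg, ← Pi.single_neg]
      congr 1
      show Pi.single i0 (-c) = (-c) • (Pi.single i0 (1 : ℤ) : Fin l → ℤ)
      rw [← Pi.single_smul, smul_eq_mul, mul_one]
    rw [h5, hcX.add, hcX.zsmul, ← hval x, ← hn]
    congr 1
    rw [← zpow_natCast ζ n, ← zpow_natCast, ← zpow_mul, ← zpow_neg, ← zpow_mul]
    congr 1
    ring
  · intro h0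
    have h1 := hval ⟨u0⁻¹, inv_mem hu0E⟩
    have h2 : (((lg ⟨u0⁻¹, inv_mem hu0E⟩ : ℕ) : ZMod 5)) = 0 := h0
    rw [h2, ZMod.val_zero, pow_zero] at h1
    have h3 := hju (sr i0)
    have h4 : cX hp (j u0⁻¹) (sr i0) = 1 := h1.symm
    rw [h4] at h3
    have h5 : pairing (cartanOf D l) i0 (sr i0) = 2 := by
      rw [sr, pairing_single, mul_one]
      exact hp.isCartan.diag i0
    rw [h5] at h3
    have h6 : ζ ^ (2 : ℤ) = 1 := inv_eq_one.1 h3.symm
    have h7 := (hζ.zpow_eq_one_iff_dvd 2).1 h6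
    revert h7
    decide

end Fin

/-- **`E₆`, the prime `5`.** -/
theorem rowS_five {k : Type u} [Field k] [IsAlgClosed k] (hk : LocFin k) (r : ℕ) [Fact r.Prime] [CharP k r]
    (hr : r ≠ 5) {W : Type v} [Group W] (cs : CoxeterSystem CoxeterMatrix.E₆ W) {S : Type*} [Group S] [Finite S]
    (hZ : center S = ⊥) {ι : S →* ↥(chevE6.group k)} {v : ↥(chevE6.group k)} (H : TorSetup e6T hk r cs 5 ι v) :
    RowS 5 S := by
  have hfin : Finite W := finite_W e6T cs
  have h5 : ((5 : ℕ) : k) ≠ 0 := by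
    rw [Ne, CharP.cast_eq_zero_iff k r]
    intro h
    exact hr ((Nat.prime_dvd_prime_iff_eq Fact.out (by norm_num)).1 h)
  have h5' : NeZero ((5 : ℕ) : k) := ⟨h5⟩
  obtain ⟨ζ, hζ⟩ := IsAlgClosed.exists_root (Polynomial.cyclotomic 5 k)
    (by rw [Polynomial.degree_cyclotomic]; decide)
  have hζ' : IsPrimitiveRoot ζ 5 := Polynomial.isRoot_cyclotomic_iff.1 hζ
  refine rowS_of_setup e6T hk r cs inv_E6 (by norm_num) hζ' ?_ hZ 0 H
  rw [Nat.card_congr cs.mulEquiv.toEquiv, ChevalleyStructure.WeylData.certE6.card_group.trans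
    ChevalleyStructure.WeylData.size_E6]
  norm_num

end Cfsg.Agent.H142.GmnFive
end
end

-- part: H709/GmnPSUNot
section
prune_inst 0x4f560030041a2020000188092910020645600019010230801d1800940028eff0108038f01f4801b1201e8a264004c4040000000d90010000000000600411901a090aa52021281a10c66008f808004000000000000000000000000000000041004000000000
set_option linter.all false
open scoped Cfsg.Agent.FastGrp

-- part: H709/GmnFus
section
/-!
Fusion criterion for the Guralnick-Malle-Navarro rows: if every element `z` of order `p` of `S` is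
conjugate to a power `z ^ k` with `k ≢ 1 (mod p)`, then every `p`-group of automorphisms containing
a Sylow `p`-subgroup of `S` is normalised and not centralised by a `p'`-element of `S`.
-/

set_option autoImplicit false

namespace Cfsg.Agent.H709.GmnFus

open Subgroup Cfsg.Agent.H709.GmnCrit

theorem good_of_fusion {S : Type*} [Group S] [Finite S] {p : ℕ} [hp : Fact p.Prime]
    (hZ : Subgroup.center S = ⊥) (hdvd : p ∣ Nat.card S)
    (h : ∀ z : S, orderOf z = p → ∃ k : ℕ, ¬ k ≡ 1 [MOD p] ∧ IsConj z (z ^ k))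
    (A : Subgroup (MulAut S)) (hA : IsPGroup p A) (Q : Sylow p S)
    (hQ : (Q : Subgroup S).map MulAut.conj ≤ A) : Good p A := by
  have hInn := inn_normal S
  have hfin : Finite (MulAut S) :=
    Finite.of_injective (fun α : MulAut S => (α : S → S)) (fun α β h => MulEquiv.ext fun x => congrFun h x)
  -- a central element of order `p`
  obtain ⟨z, hz1, hz2, hz3⟩ : ∃ z : S, orderOf z = p ∧ MulAut.conj z ∈ A ∧
      ∀ a ∈ A, a * MulAut.conj z = MulAut.conj z * a := by
    let N : Subgroup A := (Inn S).subgroupOf A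
    have hN : N.Normal := inferInstance
    have hNe : N ≠ ⊥ := by
      intro h0
      have hQne : (Q : Subgroup S) ≠ ⊥ := Q.ne_bot_of_dvd_card hdvd
      obtain ⟨x, hx, hx1⟩ := (Subgroup.ne_bot_iff_exists_ne_one (H := (Q : Subgroup S))).1 hQne |>.elim
        (fun x hx => (⟨x.1, x.2, fun h => hx (Subtype.ext h)⟩ : ∃ x : S, x ∈ (Q : Subgroup S) ∧ x ≠ 1))
      have h1 : (⟨MulAut.conj x, hQ (Subgroup.mem_map_of_mem _ hx)⟩ : A) ∈ N := ⟨x, rfl⟩
      rw [h0, Subgroup.mem_bot] at h1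
      apply hx1
      apply conj_injective hZ
      rw [map_one]
      exact congrArg Subtype.val h1
    have : Group.IsNilpotent A := hA.isNilpotent
    have h2 := Cfsg.Agent.Lib.NormalAbelian.normal_inf_center_ne_bot N hNe
    have h3 : IsPGroup p (N ⊓ Subgroup.center A : Subgroup A) := hA.to_subgroup _
    obtain ⟨k, hk⟩ := h3.exists_card_eq
    have h4 : p ∣ Nat.card (N ⊓ Subgroup.center A : Subgroup A) := by
      rw [hk]
      apply dvd_pow_self
      rintro rfl
      rw [pow_zero] at hk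
      exact h2 (Subgroup.eq_bot_of_card_eq _ hk)
    obtain ⟨⟨y, hy1, hy2⟩, hy⟩ := exists_prime_orderOf_dvd_card' p h4
    obtain ⟨z, hz⟩ := hy1
    have h5 : orderOf (y : A) = p := by rw [← hy]; exact Subgroup.orderOf_coe (a := (⟨y, _⟩ : (N ⊓ Subgroup.center A : Subgroup A)))
    refine ⟨z, ?_, ?_, ?_⟩
    · rw [← orderOf_injective _ (conj_injective hZ) z]
      change orderOf (MulAut.conj z) = p
      have hz' : MulAut.conj z = (y : MulAut S) := hz
      rw [hz', ← h5, Subgroup.orderOf_coe]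
    · have hz' : MulAut.conj z = (y : MulAut S) := hz
      rw [hz']
      exact y.2
    · intro a ha
      have hz' : MulAut.conj z = (y : MulAut S) := hz
      rw [hz']
      have := Subgroup.mem_center_iff.1 hy2 ⟨a, ha⟩
      exact congrArg Subtype.val this
  obtain ⟨k, hk1, hk2⟩ := h z hz1
  -- the group `G = A · Inn S`
  let G : Subgroup (MulAut S) := A ⊔ Inn S
  have hAG : A ≤ G := le_sup_left
  let P : Sylow p G :=
    { toSubgroup := A.subgroupOf G
      isPGroup' := hA.comap_of_injective G.subtype Subtype.val_injective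
      is_maximal' := by
        intro B hB hAB
        have h1 : B.map G.subtype = A := by
          apply max_of_sylow hZ Q A hQ _ (hB.map _)
          · rw [← Subgroup.map_subgroupOf_eq_of_le hAG]
            exact Subgroup.map_mono hAB
          · exact (Subgroup.map_le_range _ _).trans (by rw [Subgroup.range_subtype])
        rw [← h1]
        exact (Subgroup.comap_map_eq_self_of_injective Subtype.val_injective B).symm }
  obtain ⟨g, hg⟩ := isConj_iff.1 hk2
  have hgG : (MulAut.conj g : MulAut S) ∈ G := (le_sup_right : Inn S ≤ G) ⟨g, rfl⟩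
  have hzG : (MulAut.conj z : MulAut S) ∈ G := hAG hz2
  let x : G := ⟨MulAut.conj z, hzG⟩
  let g' : G := ⟨MulAut.conj g, hgG⟩
  have hxg : g'⁻¹⁻¹ * x * g'⁻¹ = x ^ k := by
    apply Subtype.ext
    change (MulAut.conj g)⁻¹⁻¹ * MulAut.conj z * (MulAut.conj g)⁻¹ = (MulAut.conj z) ^ k
    rw [inv_inv, ← map_inv, ← map_mul, ← map_mul, hg, map_pow]
  have hxP : x ∈ centralizer ((P : Subgroup G) : Set G) := by
    rw [Subgroup.mem_centralizer_iff]
    intro a ha
    exact Subtype.ext (hz3 a ha)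
  obtain ⟨n, hn, hn'⟩ := P.conj_eq_normalizer_conj_of_mem_centralizer x g'⁻¹ hxP (by
    rw [hxg]
    exact Subgroup.pow_mem _ hxP k)
  rw [hxg] at hn'
  -- the `p'`-part of `n`
  obtain ⟨j, hj⟩ := exists_pPrime_pow (p := p) n⁻¹
  have hnN : n⁻¹ ∈ normalizer ((P : Subgroup G) : Set G) := Subgroup.inv_mem _ hn
  have hy1 : (n⁻¹) ^ p ^ j ∈ normalizer ((P : Subgroup G) : Set G) := Subgroup.pow_mem _ hnN _
  have hconj : ∀ i : ℕ, (n⁻¹) ^ i * x * ((n⁻¹) ^ i)⁻¹ = x ^ (k ^ i) := by
    intro i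
    induction i with
    | zero => simp
    | succ i ih =>
      rw [pow_succ' n⁻¹ i, mul_inv_rev]
      calc n⁻¹ * n⁻¹ ^ i * x * ((n⁻¹ ^ i)⁻¹ * n⁻¹⁻¹) = n⁻¹ * (n⁻¹ ^ i * x * (n⁻¹ ^ i)⁻¹) * n := by group
        _ = n⁻¹ * x ^ (k ^ i) * n := by rw [ih]
        _ = (n⁻¹ * x * n) ^ (k ^ i) := by
          have := conj_pow (i := k ^ i) (a := n⁻¹) (b := x)
          rw [inv_inv] at this
          exact this.symm
        _ = x ^ (k ^ (i + 1)) := by rw [← hn', ← pow_mul, pow_succ']
  have hxo : orderOf x = p := by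
    rw [← hz1, ← orderOf_injective _ (conj_injective hZ) z]
    exact (Subgroup.orderOf_coe (a := x)).symm
  have hmove : (n⁻¹) ^ p ^ j * x * ((n⁻¹) ^ p ^ j)⁻¹ ≠ x := by
    rw [hconj]
    intro h1
    apply hk1
    have h2 : k ^ p ^ j ≡ 1 [MOD p] := by
      have h4 : k ^ p ^ j ≡ 1 [MOD orderOf x] := (pow_eq_pow_iff_modEq (x := x)).1 (by rw [h1, pow_one])
      rwa [hxo] at h4
    have h3 : k ^ p ^ j ≡ k [MOD p] := by
      rw [← ZMod.natCast_eq_natCast_iff]
      push_cast
      exact ZMod.pow_card_pow (k : ZMod p)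
    exact h3.symm.trans h2
  have hsup : ((n⁻¹ ^ p ^ j : G) : MulAut S) ∈ A ⊔ Inn S := (n⁻¹ ^ p ^ j : G).2
  have hinner := inner_of_mem_sup (p := p) hA hsup (by rwa [Subgroup.orderOf_coe])
  obtain ⟨s, hs⟩ := hinner
  refine ⟨s, ?_, ?_, MulAut.conj z, hz2, ?_⟩
  · rw [← orderOf_injective _ (conj_injective hZ) s, hs, Subgroup.orderOf_coe]
    exact hj
  · rw [hs]
    have h1 := Subgroup.le_normalizer_map G.subtype (Subgroup.mem_map_of_mem G.subtype hy1)
    have h2 : (P : Subgroup G).map G.subtype = A := Subgroup.map_subgroupOf_eq_of_le hAG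
    rw [h2] at h1
    exact h1
  · rw [hs]
    intro h1
    apply hmove
    apply Subtype.ext
    change ((n⁻¹ ^ p ^ j : G) : MulAut S) * MulAut.conj z * (((n⁻¹ ^ p ^ j : G) : MulAut S))⁻¹ = MulAut.conj z
    rw [← h1, mul_inv_cancel_right]

end Cfsg.Agent.H709.GmnFus
end

-- part: H709/GmnPSUNot
section
/-!
`PSU_n(q)`, `r` a prime dividing neither `q` nor `q + 1`: elements of order `r` are conjugate to
their `(-q)`-th powers.
-/

set_option autoImplicit false
set_option linter.unusedSectionVars false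

namespace Cfsg.Agent.H709.GmnPSUNot

open Cfsg Matrix
open Cfsg.Agent.LieClassical.SUBasic
open Cfsg.Agent.ClassicalGeometry.PSUAutCount Cfsg.Agent.ClassicalGeometry.UnitAutBasic
open Cfsg.Agent.H709.GmnCrit

variable {K : Type*} [Field K] [Fintype K] {q n : ℕ}

theorem exists_char (hK : Fintype.card K = q ^ 2) : ∃ (p f : ℕ), p.Prime ∧ 1 ≤ f ∧ q = p ^ f ∧ CharP K p := by
  obtain ⟨p, hp⟩ := CharP.exists K
  obtain ⟨k, hpp, hk⟩ := FiniteField.card K p
  obtain ⟨f, -, hf⟩ := (Nat.dvd_prime_pow hpp).1 (show q ∣ p ^ (k : ℕ) from ⟨q, by rw [← hk, hK, sq]⟩)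
  refine ⟨p, f, hpp, ?_, hf, hp⟩
  rcases Nat.eq_zero_or_pos f with h0 | h0
  · exfalso
    have := LieClassical.GUOrder.two_le hK
    rw [hf, h0, pow_zero] at this
    omega
  · exact h0

/-- In `SU`, `g ^ q` is conjugate to `g⁻¹` for `g` of order prime to the characteristic. -/
theorem su_conj (hK : Fintype.card K = q ^ 2) (g : SU n K q) {r : ℕ} (hr : r.Prime) (hrq : ¬ r ∣ q)
    (hg : g ^ r = 1) : IsConj (g ^ q) g⁻¹ := by
  obtain ⟨p, f, hpp, hf, hq, hch⟩ := exists_char hK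
  have : Fact p.Prime := ⟨hpp⟩
  have hrp : Nat.Coprime r p := (Nat.coprime_primes hr hpp).2 (by
    rintro rfl
    exact hrq (hq ▸ dvd_pow_self r (by omega)))
  have ho : ∀ x : SU n K q, x ^ r = 1 → (orderOf x).Coprime p := fun x hx =>
    Nat.Coprime.coprime_dvd_left (orderOf_dvd_of_pow_eq_one hx) hrp
  apply Cfsg.Agent.H183.Semis.su_isConj hK p
  · apply ho
    rw [← pow_mul, mul_comm, pow_mul, hg, one_pow]
  · apply ho
    rw [inv_pow, hg, inv_one]
  · have hmem : ((g : Matrix.SpecialLinearGroup (Fin n) K) : GL (Fin n) K) ∈ GU n K q := g.2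
    have h1 := Cfsg.Agent.H103.PGUUpper.charpoly_inv_map (p := p) hq hK
      (((g : Matrix.SpecialLinearGroup (Fin n) K) : GL (Fin n) K)⁻¹) ((GU n K q).inv_mem hmem)
    rw [inv_inv] at h1
    have h2 : (((g ^ q : SU n K q) : Matrix.SpecialLinearGroup (Fin n) K) : Matrix (Fin n) (Fin n) K)
        = ((g : Matrix.SpecialLinearGroup (Fin n) K) : Matrix (Fin n) (Fin n) K) ^ (p ^ f) := by
      rw [← hq, Subgroup.coe_pow, Matrix.SpecialLinearGroup.coe_pow]
    rw [h2, Cfsg.Agent.H709.CharPow.charpoly_pow_char]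
    exact h1

/-- Lifting elements of order `r` modulo a finite central subgroup of order prime to `r`. -/
theorem exists_lift {G : Type*} [Group G] {r : ℕ} (hr : r.Prime) (Z : Subgroup G) [Z.Normal]
    (hZ : ¬ r ∣ Nat.card Z) (_hfin : Finite Z) (z : G ⧸ Z) (hz : z ^ r = 1) :
    ∃ g : G, QuotientGroup.mk g = z ∧ g ^ r = 1 := by
  obtain ⟨x, rfl⟩ := QuotientGroup.mk_surjective z
  have hcop : Nat.Coprime r (Nat.card Z) := (Nat.Prime.coprime_iff_not_dvd hr).2 hZ
  obtain ⟨m, -, hm⟩ := Nat.exists_mul_mod_eq_one_of_coprime hcop.symm hr.one_lt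
  have hx : x ^ r ∈ Z := by
    rw [← QuotientGroup.eq_one_iff, QuotientGroup.mk_pow]
    exact hz
  have hx2 : (x ^ r) ^ Nat.card Z = 1 := by
    have := pow_card_eq_one' (x := (⟨x ^ r, hx⟩ : Z))
    exact congrArg Subtype.val this
  refine ⟨x ^ (Nat.card Z * m), ?_, ?_⟩
  · rw [QuotientGroup.mk_pow]
    have h1 : Nat.card Z * m ≡ 1 [MOD r] := by
      rw [Nat.ModEq, hm, Nat.mod_eq_of_lt hr.one_lt]
    have h2 : Nat.card Z * m ≡ 1 [MOD orderOf (QuotientGroup.mk x : G ⧸ Z)] :=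
      h1.of_dvd (orderOf_dvd_of_pow_eq_one hz)
    rw [pow_eq_pow_iff_modEq.2 h2, pow_one]
  · have h1 : Nat.card Z * m * r = r * Nat.card Z * m := by ring
    rw [← pow_mul, h1, pow_mul, pow_mul, hx2, one_pow]

/-- **Row** `PSU_n(q)`, `p ∤ q (q + 1)`. -/
theorem good (hK : Fintype.card K = q ^ 2) (hn : 3 ≤ n)
    (h32 : ¬ (n = 3 ∧ q = 2)) {p : ℕ} [hp : Fact p.Prime] (hpq : ¬ p ∣ q) (hpq1 : ¬ p ∣ q + 1)
    (hdvd : p ∣ Nat.card (PSU n K q))
    (A : Subgroup (MulAut (PSU n K q))) (hA : IsPGroup p A) (Q : Sylow p (PSU n K q))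
    (hQ : (Q : Subgroup (PSU n K q)).map MulAut.conj ≤ A) : Good p A := by
  have hfin : Finite (GU n K q) := LieClassical.GUOrder.finite_GU n
  have hfinP : Finite (PSU n K q) := Finite.of_surjective _ (pr_surjective (n := n) (F := K) (q := q))
  have hsimple : IsSimpleGroup (PSU n K q) := Cfsg.Agent.S0283.result hK n hn h32
  have hperf : commutator (PSU n K q) = ⊤ := by
    have h3 := Cfsg.Agent.LieClassical.HermPerfect.commutator_SU_eq_top hK hn h32
    have h4 : (commutator (SU n K q)).map (pr n K q) = commutator (PSU n K q) := by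
      rw [commutator_def, commutator_def, Subgroup.map_commutator, ← MonoidHom.range_eq_map,
        MonoidHom.range_eq_top.2 pr_surjective]
    rw [← h4, h3, ← MonoidHom.range_eq_map, MonoidHom.range_eq_top.2 pr_surjective]
  have hZ := H183.OutPSU.center_eq_bot_of_perfect hperf
  refine GmnFus.good_of_fusion hZ hdvd ?_ A hA Q hQ
  intro z hz
  have hcard : Nat.card (Subgroup.center (SU n K q)) = Nat.gcd n (q + 1) := Cfsg.Agent.S0279.result hK n hn
  have hfinS : Finite (SU n K q) := inferInstance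
  obtain ⟨g, hg1, hg2⟩ := exists_lift hp.out (Subgroup.center (SU n K q)) (by
    rw [hcard]
    intro h
    exact hpq1 (h.trans (Nat.gcd_dvd_right _ _))) inferInstance z (by rw [← hz, pow_orderOf_eq_one])
  refine ⟨(p - 1) * q, ?_, ?_⟩
  · intro h
    apply hpq1
    have h1 : (p - 1) * q + q = p * q := by
      have := hp.out.one_lt
      obtain ⟨m, hm⟩ : ∃ m, p = m + 1 := ⟨p - 1, by omega⟩
      rw [hm]
      simp
      ring
    have h2 : (p - 1) * q + q ≡ 1 + q [MOD p] := Nat.ModEq.add_right q h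
    rw [h1] at h2
    have h3 : 0 ≡ 1 + q [MOD p] := (Nat.modEq_zero_iff_dvd.2 (dvd_mul_right p q)).symm.trans h2
    rw [add_comm]
    exact (Nat.modEq_zero_iff_dvd.1 h3.symm)
  · have h1 := su_conj hK g hp.out hpq hg2
    have h2 : IsConj (g⁻¹) (g ^ q) := h1.symm
    obtain ⟨c, hc⟩ := isConj_iff.1 h2
    have h3 : IsConj g (g ^ ((p - 1) * q)) := by
      rw [isConj_iff]
      refine ⟨c, ?_⟩
      have h4 : c * g * c⁻¹ = (g ^ q)⁻¹ := by
        rw [← hc]
        group
      rw [h4, pow_mul]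
      have h5 : g ^ (p - 1) = g⁻¹ := by
        rw [eq_inv_iff_mul_eq_one, ← pow_succ]
        have : p - 1 + 1 = p := by have := hp.out.one_lt; omega
        rw [this, hg2]
      rw [h5, inv_pow]
    have h6 := MonoidHom.map_isConj (QuotientGroup.mk' (Subgroup.center (SU n K q))) h3
    rw [map_pow] at h6
    change IsConj (QuotientGroup.mk g) ((QuotientGroup.mk g : PSU n K q) ^ ((p - 1) * q)) at h6
    rwa [hg1] at h6

end Cfsg.Agent.H709.GmnPSUNot

namespace Cfsg.Agent.H709.GmnPSUNot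

/-- **Rows R6 and R7**: `PSU_n(q)`, all odd primes different from the characteristic. -/
theorem good_all {K : Type*} [Field K] [Fintype K] {q n : ℕ} (hK : Fintype.card K = q ^ 2) (hn : 3 ≤ n)
    (h32 : ¬ (n = 3 ∧ q = 2)) {p : ℕ} [Fact p.Prime] (hp2 : p ≠ 2) (hpq : ¬ p ∣ q)
    (hdvd : p ∣ Nat.card (PSU n K q))
    (A : Subgroup (MulAut (PSU n K q))) (hA : IsPGroup p A) (Q : Sylow p (PSU n K q))
    (hQ : (Q : Subgroup (PSU n K q)).map MulAut.conj ≤ A) : GmnCrit.Good p A := by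
  by_cases h : p ∣ q + 1
  · exact GmnPSU.good hK hn h32 hp2 h A hA Q hQ
  · exact good hK hn h32 hpq h hdvd A hA Q hQ

end Cfsg.Agent.H709.GmnPSUNot
end
end

-- part: H142/GmnE6
section
prune_inst 0x10070001180020000000000100000001400000000080000802002000200800000000000000000000020000000040000001000000000000000000000000100000000000082080008440008000000000000000000000000000000000000000000000000000
set_option linter.all false
open scoped Cfsg.Agent.FastGrp

-- part: H142/GmnSplit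
section
/-!
# Guralnick-Malle-Navarro rows: the split torus

* `det_eq_one` : an element of the Weyl group acting trivially modulo the radical of the Cartan matrix modulo an odd prime
  `p` has determinant `1`;
* `rowS_split` : `Y` with a simply laced root group datum, `E` a `p`-subgroup of `T` normalised by `N`, on which the
  elements of `W` of determinant `-1` act nontrivially, the index of `N` prime to `p` : `RowS p Y`;
* `rowS_chev` : the Chevalley groups with `p ∣ q - 1`.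
-/

set_option autoImplicit false
set_option linter.unusedSectionVars false

namespace Cfsg.Agent.H142.GmnSplit

open CoxeterSystem Cfsg.Agent.ChevalleyStructure.CoxeterGeom Cfsg.Agent.Tits.Roots Cfsg.Agent.Tits.Core
  Cfsg.Agent.Tits.RootComb Cfsg.Agent.Tits.Exchange Cfsg.Agent.Nodes.Reps Cfsg.Agent.Nodes.BNOf
  Cfsg.Agent.Nodes.Comb Cfsg.Agent.Nodes.StabComb
  Cfsg.Agent.Nodes.Bruhat Cfsg.Agent.Nodes.OppDec Cfsg.Agent.Nodes.LeviDec Cfsg.Agent.Nodes.NormalForm
  Cfsg.Agent.KFacts.RgdOpp Cfsg.Agent.KFacts.RgdAut Cfsg.Agent.KFacts.RgdDiag Cfsg.Agent.KFacts.RgdRigid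
  Cfsg.Agent.KFacts.RgdField Cfsg.Agent.KFacts.RgdTau
  Cfsg.Agent.BpExc.Fr Cfsg.Agent.BpExc.FamFrame Cfsg.Agent.H712.Gmn

/-! ### determinants -/

section Det

variable {I W : Type*} [Fintype I] [DecidableEq I] [Group W] {M : CoxeterMatrix I}
  {cs : CoxeterSystem M W} {A : I → I → ℤ} {h : IsCartan M A}

/-- the pairing with a simple coroot, as a linear form -/
def pr (A : I → I → ℤ) (i : I) : Module.Dual ℤ (I → ℤ) where
  toFun := pairing A i
  map_add' := pairing_add A i
  map_smul' c v := pairing_smul A i c v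

theorem det_simple (i : I) : LinearMap.det (rep cs h (cs.simple i)) = -1 := by
  have h1 : rep cs h (cs.simple i) = LinearMap.transvection (-pr A i) (sr i) := by
    refine LinearMap.ext fun x => ?_
    rw [rep_simple_eq, LinearMap.transvection.apply]
    show x - pairing A i x • sr i = x + (-(pairing A i x)) • sr i
    rw [neg_smul, sub_eq_add_neg]
  rw [h1, LinearMap.transvection.det]
  show 1 + -(pairing A i (sr i)) = -1
  rw [sr, pairing_single, h.diag]
  norm_num

/-- modulo `p` the Weyl group fixes the vectors of the radical -/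
theorem rep_sub_dvd {p : ℕ} (w : W) {v : I → ℤ} (hv : ∀ j, (p : ℤ) ∣ pairing A j v) :
    ∀ k, (p : ℤ) ∣ (rep cs h w v - v) k := by
  obtain ⟨ω, rfl⟩ := cs.wordProd_surjective w
  suffices H : (∀ k, (p : ℤ) ∣ (rep cs h (cs.wordProd ω) v - v) k) ∧
      ∀ j, (p : ℤ) ∣ pairing A j (rep cs h (cs.wordProd ω) v) from H.1
  induction ω with
  | nil =>
    rw [wordProd_nil, map_one, Module.End.one_apply, sub_self]
    exact ⟨fun k => dvd_zero _, hv⟩
  | cons i ω ih =>
    rw [wordProd_cons, rep_mul_apply, rep_simple_eq]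
    set x := rep cs h (cs.wordProd ω) v
    obtain ⟨c, hc⟩ := ih.2 i
    refine ⟨fun k => ?_, fun j => ?_⟩
    · have e : (x - pairing A i x • sr i - v) k = (x - v) k - (p : ℤ) * (c * sr i k) := by
        simp only [Pi.sub_apply, Pi.smul_apply, smul_eq_mul]
        rw [hc]; ring
      rw [e]
      exact dvd_sub (ih.1 k) (Dvd.intro _ rfl)
    · have e : pairing A j (x - pairing A i x • sr i) = pairing A j x - (p : ℤ) * (c * pairing A j (sr i)) := by
        rw [sub_eq_add_neg, ← neg_smul, pairing_add, pairing_smul, hc]; ring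
      rw [e]
      exact dvd_sub (ih.2 j) (Dvd.intro _ rfl)

/-- An element of `W` acting trivially modulo the radical modulo `p` has determinant `1`. -/
theorem det_eq_one {p : ℕ} [hp : Fact p.Prime] (hp2 : p ≠ 2) (w : W)
    (hw : ∀ i j, (p : ℤ) ∣ pairing A j (rep cs h w (sr i) - sr i)) : LinearMap.det (rep cs h w) = 1 := by
  classical
  set L := rep cs h w with hL
  let N : Matrix I I ℤ := LinearMap.toMatrix' (L - 1)
  have hdet : LinearMap.det L = (N + 1).det := by
    rw [← LinearMap.det_toMatrix', show N + 1 = LinearMap.toMatrix' L by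
      show LinearMap.toMatrix' (L - 1) + 1 = _
      rw [map_sub, Module.End.one_eq_id, LinearMap.toMatrix'_id, sub_add_cancel]]
  let B : Matrix I I (ZMod p) := N.map (Int.castRingHom (ZMod p))
  have hB2 : B * B = 0 := by
    have h1 : B * B = (N * N).map (Int.castRingHom (ZMod p)) := (Matrix.map_mul (f := Int.castRingHom (ZMod p))).symm
    have h2 : N * N = LinearMap.toMatrix' ((L - 1) * (L - 1)) := (LinearMap.toMatrix'_mul _ _).symm
    rw [h1, h2]
    ext a b
    rw [Matrix.map_apply, LinearMap.toMatrix'_apply, Matrix.zero_apply, eq_intCast, ZMod.intCast_zmod_eq_zero_iff_dvd]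
    have h3 : (Pi.single b 1 : I → ℤ) = sr b := rfl
    have h4 : (fun j' => if j' = b then (1 : ℤ) else 0) = sr b := by
      rw [← h3]
      funext k
      rw [Pi.single_apply]
    show (p : ℤ) ∣ ((L - 1) * (L - 1)) _ a
    rw [show (Pi.single b 1 : I → ℤ) = sr b from rfl, Module.End.mul_apply]
    exact rep_sub_dvd w (fun j => hw b j) a
  have hB : (B + 1) ^ p = 1 := by
    have hc : Commute (B + 1) 1 := Commute.one_right _
    have : CharP (Matrix I I (ZMod p)) p ∨ IsEmpty I := by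
      rcases isEmpty_or_nonempty I with h0 | h0
      · exact Or.inr h0
      · exact Or.inl inferInstance
    rcases this with h0 | h0
    · have h1 := sub_pow_char_of_commute (p := p) hc
      rw [add_sub_cancel_right, one_pow] at h1
      have h2 : B ^ p = 0 := by
        have h2 : B ^ (2 + (p - 2)) = 0 := by rw [pow_add, sq, hB2, zero_mul]
        have h3 : 2 + (p - 2) = p := by have := hp.out.two_le; omega
        rwa [h3] at h2
      rw [h2] at h1
      exact (sub_eq_zero.1 h1.symm)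
    · ext a
      exact h0.elim a
  have hd : ((N + 1).det : ZMod p) = 1 := by
    have h1 : ((N + 1).det : ZMod p) = (B + 1).det := by
      have h2 : B + 1 = (N + 1).map (Int.castRingHom (ZMod p)) := by
        rw [Matrix.map_add _ (map_add _)]
        congr 1
        exact ((Int.castRingHom (ZMod p)).mapMatrix.map_one).symm
      rw [h2]
      exact (RingHom.map_det (Int.castRingHom (ZMod p)) (N + 1)).trans rfl
    have h3 : (B + 1).det ^ p = 1 := by rw [← Matrix.det_pow, hB, Matrix.det_one]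
    rw [ZMod.pow_card] at h3
    rw [h1, h3]
  have hu : IsUnit (LinearMap.det L) := by
    have h1 : L * rep cs h w⁻¹ = 1 := by rw [hL, ← map_mul, mul_inv_cancel, map_one]
    have h2 := congrArg LinearMap.det h1
    rw [map_mul, map_one] at h2
    exact IsUnit.of_mul_eq_one _ h2
  rcases Int.isUnit_iff.1 hu with h1 | h1
  · exact h1
  · exfalso
    rw [← hdet, h1] at hd
    have h2 : ((2 : ℕ) : ZMod p) = 0 := by
      push_cast at hd ⊢
      linear_combination -hd
    rw [ZMod.natCast_eq_zero_iff] at h2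
    exact hp2 ((Nat.prime_dvd_prime_iff_eq hp.out Nat.prime_two).1 h2)

end Det

/-! ### the group of frame automorphisms -/

section Frm

variable {I W Y : Type*} [Fintype I] [DecidableEq I] [Group W] [Group Y] {M : CoxeterMatrix I}
  {cs : CoxeterSystem M W} {A : I → I → ℤ} {h : IsCartan M A} {r : ℕ} {T : Subgroup Y} {n : I → Y}
  {X : (I → ℤ) → Subgroup Y} (R : RGD cs h r T n X)

include R

/-- the order of `N` -/
theorem rp_inj [Finite W] {w w' : W} {g : Y} (h1 : Rp cs R.nsys w g) (h2 : Rp cs R.nsys w' g) : w = w' := by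
  have h3 := h1.inv.mul h2
  rw [inv_mul_cancel] at h3
  exact inv_mul_eq_one.1 (R.eq_one_of_mem_B h3 (one_mem _))

theorem card_NN [Finite W] : Nat.card ↥(NN cs R.nsys) = Nat.card W * Nat.card ↥T := by
  classical
  choose k hk using exists_rp cs R.nsys
  rw [← Nat.card_prod]
  symm
  refine Nat.card_congr (Equiv.ofBijective (fun x : W × ↥T => (⟨k x.1 * x.2, x.1, (hk x.1).mul_mem_right x.2.2⟩ :
    ↥(NN cs R.nsys))) ⟨?_, ?_⟩)
  · rintro ⟨w, t⟩ ⟨w', t'⟩ e
    have e' : k w * t = k w' * t' := congrArg Subtype.val e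
    have h1 := (hk w).mul_mem_right t.2
    rw [e'] at h1
    have h2 := rp_inj R h1 ((hk w').mul_mem_right t'.2)
    subst h2
    rw [Prod.mk.injEq]
    exact ⟨rfl, Subtype.ext (mul_left_cancel e')⟩
  · rintro ⟨g, w, hg⟩
    refine ⟨⟨w, ⟨(k w)⁻¹ * g, (hk w).unique hg⟩⟩, Subtype.ext ?_⟩
    show k w * ((k w)⁻¹ * g) = g
    rw [mul_inv_cancel_left]

theorem fr_rp {w : W} {g : Y} (hg : Rp cs R.nsys w g) : Fr cs h T X (MulAut.conj g) (repAut cs h w) where
  tor t := by
    rw [MulAut.conj_apply]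
    exact ((Subgroup.mem_normalizer_iff.1 hg.mem_normalizer) t).symm
  root a := by
    rw [repAut_apply]
    constructor
    · intro h1
      have := h1.act w⁻¹
      rwa [← rep_mul_apply, inv_mul_cancel, map_one, Module.End.one_apply] at this
    · exact fun h1 => h1.act w
  map a ha y := by
    rw [repAut_apply, ← R.conj_rp hg ha, MulAut.conj_apply]
    constructor
    · intro h1
      have h2 := mem_cj.1 h1
      have e : g⁻¹ * (g * y * g⁻¹) * g = y := by group
      rwa [e] at h2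
    · intro h1
      exact conj_mem_cj.2 h1

omit R [Fintype I] [DecidableEq I] in
/-- a permutation of the coordinates -/
def permAut (σ : Equiv.Perm I) : (I → ℤ) ≃+ (I → ℤ) where
  toFun x := x ∘ σ.symm
  invFun x := x ∘ σ
  left_inv x := by funext i; simp
  right_inv x := by funext i; simp
  map_add' x y := rfl

omit R in
theorem isRoot_comp {σ : Equiv.Perm I} (hσ : ∀ i j, M (σ i) (σ j) = M i j) (hA : ∀ i j, A (σ i) (σ j) = A i j)
    {x : I → ℤ} (hx : IsRoot cs h x) : IsRoot cs h (x ∘ σ.symm) := by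
  obtain ⟨w, i, rfl⟩ := hx
  rw [← rep_hat hσ hA, sr_comp]
  exact ⟨_, _, rfl⟩

theorem fr_diag [Finite W] {β : MulAut Y} {σ : Equiv.Perm I} (D : _root_.Cfsg.Agent.KFacts.RgdDiag.Diag T X β σ)
    (hA : ∀ i j, A (σ i) (σ j) = A i j) : Fr cs h T X β (permAut σ) where
  tor := D.tor
  root a := by
    have hσ := D.matrix R
    refine ⟨fun h1 => ?_, isRoot_comp hσ hA⟩
    have h2 := isRoot_comp (cs := cs) (h := h) (σ := σ.symm) (fun i j => by
      rw [← hσ, Equiv.apply_symm_apply, Equiv.apply_symm_apply]) (fun i j => by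
      rw [← hA, Equiv.apply_symm_apply, Equiv.apply_symm_apply]) h1
    have e : ((permAut σ a) ∘ σ.symm.symm : I → ℤ) = a := by
      funext i
      show a (σ.symm (σ i)) = a i
      rw [Equiv.symm_apply_apply]
    rwa [e] at h2
  map a ha y := D.root_comp R hA ha y

/-- the action on the lattice is unique -/
theorem fr_unique [Finite W] {α : MulAut Y} {g g' : (I → ℤ) ≃+ (I → ℤ)} (F : Fr cs h T X α g)
    (F' : Fr cs h T X α g') : g = g' := by
  have h1 : ∀ i, g (sr i) = g' (sr i) := by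
    intro i
    have hi := isRoot_sr cs h i
    refine X_injective R ((F.root _).2 hi) ((F'.root _).2 hi) ?_
    ext y
    have h2 := F.map _ hi (α⁻¹ y)
    have h3 := F'.map _ hi (α⁻¹ y)
    rw [MulAut.apply_inv_self] at h2 h3
    rw [h2, h3]
  refine AddEquiv.ext fun x => ?_
  have hx : x = ∑ i, x i • sr i := by
    funext m
    rw [Finset.sum_apply, Finset.sum_eq_single m]
    · rw [Pi.smul_apply, sr_self, smul_eq_mul, mul_one]
    · intro b _ hb
      rw [Pi.smul_apply, sr_ne (Ne.symm hb), smul_zero]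
    · intro h; exact absurd (Finset.mem_univ m) h
  rw [hx, map_sum, map_sum]
  refine Finset.sum_congr rfl fun i _ => ?_
  rw [map_zsmul, map_zsmul, h1]

omit R in
variable (cs h T X) in
/-- the group of frame automorphisms (all signs) -/
def FrG : Subgroup (MulAut Y) where
  carrier := {α | ∃ g, Fr cs h T X α g}
  one_mem' := ⟨_, Fr.one⟩
  mul_mem' := by
    rintro α β ⟨g, F⟩ ⟨g', F'⟩
    exact ⟨_, F.mul F'⟩
  inv_mem' := by
    rintro α ⟨g, F⟩
    exact ⟨_, F.inv⟩

/-- the determinant -/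
noncomputable def dt [Finite W] : ↥(FrG cs h T X) →* ℤˣ where
  toFun α := LinearEquiv.det (α.2.choose.toIntLinearEquiv)
  map_one' := by
    have h1 := fr_unique R (1 : ↥(FrG cs h T X)).2.choose_spec Fr.one
    rw [h1]
    exact map_one LinearEquiv.det
  map_mul' α β := by
    have h1 := fr_unique R (α * β).2.choose_spec (α.2.choose_spec.mul β.2.choose_spec)
    rw [h1]
    exact map_mul LinearEquiv.det α.2.choose.toIntLinearEquiv β.2.choose.toIntLinearEquiv

theorem dt_apply [Finite W] {α : ↥(FrG cs h T X)} {g : (I → ℤ) ≃+ (I → ℤ)} (F : Fr cs h T X (α : MulAut Y) g) :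
    dt R α = LinearEquiv.det g.toIntLinearEquiv := by
  have h1 := fr_unique R α.2.choose_spec F
  show LinearEquiv.det (α.2.choose.toIntLinearEquiv) = _
  rw [h1]

theorem dt_rp [Finite W] {α : ↥(FrG cs h T X)} {w : W} (F : Fr cs h T X (α : MulAut Y) (repAut cs h w)) :
    ((dt R α : ℤˣ) : ℤ) = LinearMap.det (rep cs h w) := by
  rw [dt_apply R F, LinearEquiv.coe_det]
  rfl

/-- An inner frame automorphism comes from `N`. -/
theorem rp_of_fr' [Finite W] [Finite Y] [Fact r.Prime] (hG : GG cs h T X = ⊤) {y : Y} {g : (I → ℤ) ≃+ (I → ℤ)}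
    (F : Fr cs h T X (MulAut.conj y) g) : ∃ w, Rp cs R.nsys w y ∧ g = repAut cs h w := by
  obtain ⟨v, -, hv⟩ := exists_adjust (cs := cs) (h := h) {a | IsRoot cs h a} ⊤ (by
    rintro a ⟨w, i, e⟩
    exact ⟨w, i, e, Subgroup.mem_top _⟩) g fun a ha => (F.root a).2 ha
  obtain ⟨k, hk⟩ := exists_rp cs R.nsys v
  have F1 := F.mul (fr_rp R hk)
  rw [← map_mul] at F1
  have hpos : ∀ a, ((repAut cs h v).trans g) a ∈ RGD.Pos cs h ↔ a ∈ RGD.Pos cs h := by
    intro a
    constructor
    · rintro ⟨h1, h2⟩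
      have ha := (F1.root a).1 h1
      refine ⟨ha, ?_⟩
      rcases ha.pos_or_neg with h3 | h3
      · exact h3
      · exfalso
        have h4 : 0 ≤ g (rep cs h v (-a)) := hv (-a) ha.neg (neg_nonneg.2 h3)
        rw [map_neg, map_neg, Left.nonneg_neg_iff] at h4
        exact h1.ne_zero (le_antisymm h4 h2)
    · rintro ⟨h1, h2⟩
      exact ⟨(F1.root a).2 h1, hv a h1 h2⟩
  have hneg : ∀ a, ((repAut cs h v).trans g) a ∈ _root_.Cfsg.Agent.Nodes.OppDec.Neg cs h ↔ a ∈ _root_.Cfsg.Agent.Nodes.OppDec.Neg cs h := by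
    intro a
    have h1 : ∀ b, b ∈ _root_.Cfsg.Agent.Nodes.OppDec.Neg cs h ↔ -b ∈ RGD.Pos cs h := by
      intro b
      constructor
      · rintro ⟨h2, h3⟩
        exact ⟨h2.neg, neg_nonneg.2 h3⟩
      · rintro ⟨h2, h3⟩
        have := h2.neg
        rw [neg_neg] at this
        exact ⟨this, neg_nonneg.1 h3⟩
    rw [h1, h1, ← map_neg, hpos]
  have h1 : _root_.Cfsg.Agent.KFacts.RgdAut.Fix (MulAut.conj (y * k)) (RGD.Sup X (RGD.Pos cs h)) := fun z =>
    F1.mem_Sup (S := RGD.Pos cs h) (fun a ha => ha.1) hpos z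
  have h2 : _root_.Cfsg.Agent.KFacts.RgdAut.Fix (MulAut.conj (y * k)) (UN cs h X) := fun z =>
    F1.mem_Sup (S := _root_.Cfsg.Agent.Nodes.OppDec.Neg cs h) (fun a ha => ha.1) hneg z
  have h3 := mem_T_of_frame R hG h1 h2
  have h4 : Rp cs R.nsys v⁻¹ y := by
    have h5 := (rp_of_mem (cs := cs) (hN := R.nsys) h3).mul hk.inv
    rwa [one_mul, mul_inv_cancel_right] at h5
  exact ⟨_, h4, fr_unique R F (fr_rp R h4)⟩

/-- The index of the group of frame automorphisms divides the index of `N`. -/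
theorem index_dvd [Finite W] [Finite Y] [Fact r.Prime] (hG : GG cs h T X = ⊤)
    (hl : ∀ i j, i ≠ j → M i j = 2 ∨ M i j = 3) : (FrG cs h T X).index ∣ (NN cs R.nsys).index := by
  have hfin := finite_mulAut (S := Y)
  let J : Subgroup (MulAut Y) := (MulAut.conj : Y →* MulAut Y).range
  have hJn : J.Normal := by
    refine ⟨?_⟩
    rintro _ ⟨s, rfl⟩ g
    exact ⟨g s, (mul_conj_inv g s).symm⟩
  have htop : FrG cs h T X ⊔ J = ⊤ := by
    rw [eq_top_iff]
    intro x _
    obtain ⟨g, -, -, σ, D⟩ := exists_frame_any R hG x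
    have h1 : MulAut.conj g * x ∈ FrG cs h T X := ⟨_, fr_diag R D (cartan_of_laced h hl (D.matrix R))⟩
    have h2 : x = (MulAut.conj g)⁻¹ * (MulAut.conj g * x) := by group
    rw [h2]
    exact mul_mem (inv_mem (Subgroup.mem_sup_right ⟨g, rfl⟩)) (Subgroup.mem_sup_left h1)
  have h1 : (FrG cs h T X).index = (FrG cs h T X).relIndex J := by
    have h2 := H507.Gmn.relIndex_sup_self (FrG cs h T X) J
    rwa [htop, Subgroup.relIndex_top_right] at h2
  rw [h1]
  have h2 : (FrG cs h T X).relIndex J = ((FrG cs h T X).comap MulAut.conj).index := by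
    rw [Subgroup.index_comap]
  rw [h2]
  refine Subgroup.index_dvd_of_le ?_
  rintro g ⟨w, hg⟩
  exact ⟨_, fr_rp R hg⟩

/-- **The split torus.** -/
theorem rowS_split [Finite W] [Finite Y] [Fact r.Prime] [Nonempty I] {p : ℕ} [hp : Fact p.Prime] (hp2 : p ≠ 2)
    (hG1 : RGD.Sup X {x | IsRoot cs h x} = ⊤) (hZ : Subgroup.center Y = ⊥)
    (hl : ∀ i j, i ≠ j → M i j = 2 ∨ M i j = 3) (hidx : ¬ p ∣ (NN cs R.nsys).index) (E : Subgroup Y)
    (hEp : IsPGroup p E) (hEn : ∀ w k, Rp cs R.nsys w k → ∀ t ∈ E, k * t * k⁻¹ ∈ E)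
    (hE : ∀ w k, Rp cs R.nsys w k → (∀ t ∈ E, k * t * k⁻¹ = t) → LinearMap.det (rep cs h w) = 1) : RowS p Y := by
  have hfin := finite_mulAut (S := Y)
  have hG := GG_eq_top (T := T) hG1
  intro B hB Q hQ
  obtain ⟨i⟩ : Nonempty I := inferInstance
  have key : ∀ w : ↥(FrG cs h T X), (w : MulAut Y) ∈ (MulAut.conj : Y →* MulAut Y).range →
      ∃ (v : W) (k : Y), Rp cs R.nsys v k ∧ (w : MulAut Y) = MulAut.conj k ∧
        ((dt R w : ℤˣ) : ℤ) = LinearMap.det (rep cs h v) := by
    rintro ⟨_, g, F⟩ ⟨k, rfl⟩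
    obtain ⟨v, hv, rfl⟩ := rp_of_fr' R hG F
    exact ⟨v, k, hv, rfl, dt_rp R F⟩
  refine H507.Gmn.cover_strong hZ (MonoidHom.id (MulAut Y)) (FrG cs h T X) (fun hd => hidx (hd.trans
    (index_dvd R hG hl))) (K := ℤˣ) ?_ (dt R) ?_ E hEp ?_ ?_ B hB (fun x _ => ⟨x, rfl⟩) Q ?_
  · intro hd
    have h1 : Nat.card ℤˣ = 2 := by simp
    rw [h1] at hd
    exact hp2 ((Nat.prime_dvd_prime_iff_eq hp.out Nat.prime_two).1 hd)
  · have F := fr_rp R (rp_simple cs R.nsys i)
    refine ⟨⟨MulAut.conj (n i), _, F⟩, ⟨n i, rfl⟩, fun h1 => ?_⟩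
    have h2 := dt_rp R (α := ⟨MulAut.conj (n i), _, F⟩) F
    rw [det_simple, h1] at h2
    norm_num at h2
  · intro w hw t ht
    obtain ⟨v, k, hv, e, -⟩ := key w hw
    show (w : MulAut Y) t ∈ E
    rw [e, MulAut.conj_apply]
    exact hEn v k hv t ht
  · intro w _ hw hdt
    by_contra hcon
    push Not at hcon
    obtain ⟨v, k, hv, e, hdet⟩ := key w hw
    apply hdt
    apply Units.ext
    rw [hdet, hE v k hv fun t ht => ?_]
    · rfl
    · have h1 : (w : MulAut Y) t = t := hcon t ht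
      rw [e, MulAut.conj_apply] at h1
      exact h1
  · rintro _ ⟨x, hx, rfl⟩
    exact hQ x hx

end Frm

end Cfsg.Agent.H142.GmnSplit
end

-- part: H142/GmnE6
section
/-!
# Guralnick-Malle-Navarro row: `E₆(q)`

* `rowS_chev` : a simply laced Chevalley group over a field with `q` elements, `p ∣ q - 1`, the index of `N` prime
  to `p`;
* `rowS_e6` : `E₆(q)`, `p` odd, `p ∤ q`.
-/

set_option autoImplicit false
set_option linter.unusedSectionVars false

namespace Cfsg.Agent.H142.GmnE6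

open CoxeterSystem Subgroup Cfsg Cfsg.Lie Cfsg.Lie.ChevalleyDatum
open Cfsg.Agent.ChevalleyStructure Cfsg.Agent.ChevalleyStructure.Elts Cfsg.Agent.ChevalleyStructure.CoxeterGeom
  Cfsg.Agent.ChevalleyStructure.CoxeterGeomTypes Cfsg.Agent.ChevalleyStructure.NPerm
open Cfsg.Agent.Tits.Roots Cfsg.Agent.Tits.Core Cfsg.Agent.Nodes Cfsg.Agent.Nodes.Reps Cfsg.Agent.Nodes.BNOf
  Cfsg.Agent.Nodes.RGDChev Cfsg.Agent.Nodes.Bruhat
open Cfsg.Agent.KFacts.RgdField Cfsg.Agent.KFacts.RgdChevCoord Cfsg.Agent.KFacts.RgdRigid Cfsg.Agent.KFacts.RgdDiag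
open Cfsg.Agent.BpExc Cfsg.Agent.BpExc.TorCent Cfsg.Agent.BpExc.TorChev
open Cfsg.Agent.BpExc.FamFrame Cfsg.Agent.BpExc.RowsUntw Cfsg.Agent.BpExc.FamInst Cfsg.Agent.BpExc.FamUntw
open Cfsg.Agent.H696.GmnUntw Cfsg.Agent.H712.Gmn Cfsg.Agent.H142.GmnSplit

section Chev

variable {D : ChevalleyDatum} {l : ℕ} {M : CoxeterMatrix (Fin l)} (hp : IsType D l M) {F : Type} [Field F] [Fintype F]

include hp in
/-- the elements of order dividing `p` of the torus -/
def TP (F : Type) [Field F] (p : ℕ) : Subgroup ↥(D.group F) where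
  carrier := {t | t ∈ TT D F ∧ t ^ p = 1}
  one_mem' := ⟨one_mem _, one_pow _⟩
  mul_mem' := by
    rintro a b ⟨ha, ha'⟩ ⟨hb, hb'⟩
    refine ⟨mul_mem ha hb, ?_⟩
    rw [(show Commute a b from TT_comm hp a ha b hb).mul_pow, ha', hb', one_mul]
  inv_mem' := by
    rintro a ⟨ha, ha'⟩
    exact ⟨inv_mem ha, by rw [inv_pow, ha', inv_one]⟩

/-- an element of the torus with trivial characters -/
theorem eq_one_of_ch (r : ℕ) [Fact r.Prime] [CharP F r] (hZ : center ↥(D.group F) = ⊥) {t : ↥(D.group F)}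
    (ht : t ∈ TT D F) (hc : ∀ i, ch hp (sr i) t = 1) : t = 1 := by
  have hW := finite_W hp M.toCoxeterSystem
  have R := rgd (K := F) hp M.toCoxeterSystem r
  have C := coords (K := F) hp M.toCoxeterSystem r
  have hG1 : RGD.Sup (XX D l F) {x | IsRoot M.toCoxeterSystem hp.isCartan x} = ⊤ := G1_eq_top hp M.toCoxeterSystem
  have h1 := Diag.eq_one R hG1 (FamFrame.diag_conj R ht) fun i x hx => by
    have Ci := C.coord _ (isRoot_sr M.toCoxeterSystem hp.isCartan i)
    obtain ⟨a, rfl⟩ := (Ci.mem x).1 hx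
    rw [MulAut.conj_apply, Ci.act t ht, hc i, one_mul]
  have h2 : t ∈ center ↥(D.group F) := by
    rw [mem_center_iff]
    intro g
    have h3 : MulAut.conj t g = g := by rw [h1]; rfl
    rw [MulAut.conj_apply, mul_inv_eq_iff_eq_mul] at h3
    exact h3.symm
  rw [hZ] at h2
  exact h2

include hp in
/-- **The Chevalley groups with `p ∣ q - 1`.** -/
theorem rowS_chev {p : ℕ} [hpp : Fact p.Prime] (hp2 : p ≠ 2) (hZ : center ↥(D.group F) = ⊥) (r : ℕ) [Fact r.Prime]
    [CharP F r] (hl0 : 0 < l) (hl : ∀ i j : Fin l, i ≠ j → M i j = 2 ∨ M i j = 3) (hpq : p ∣ Fintype.card F - 1)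
    (hidx : ∀ n : ℕ, n * (Nat.card M.Group * Nat.card ↥(D.diagonalSubgroup F)) = Nat.card ↥(D.group F) → ¬ p ∣ n) :
    RowS p ↥(D.group F) := by
  classical
  have hW := finite_W hp M.toCoxeterSystem
  have R := rgd (K := F) hp M.toCoxeterSystem r
  have C := coords (K := F) hp M.toCoxeterSystem r
  have hG1 : RGD.Sup (XX D l F) {x | IsRoot M.toCoxeterSystem hp.isCartan x} = ⊤ := G1_eq_top hp M.toCoxeterSystem
  have : Nonempty (Fin l) := ⟨⟨0, hl0⟩⟩
  have hT : Nat.card ↥(TT D F) = Nat.card ↥(D.diagonalSubgroup F) :=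
    Nat.card_congr (subgroupOfEquivOfLe (diagonal_le_group hp.inList F)).toEquiv
  refine rowS_split R hp2 hG1 hZ hl ?_ (TP hp F p) ?_ ?_ ?_
  · refine hidx _ ?_
    rw [← (NN M.toCoxeterSystem R.nsys).index_mul_card, card_NN R, hT]
  · rintro ⟨t, ht, ht'⟩
    exact ⟨1, Subtype.ext (by rw [pow_one]; exact ht')⟩
  · rintro w k hk t ⟨ht, ht'⟩
    refine ⟨(Subgroup.mem_normalizer_iff.1 hk.mem_normalizer t).1 ht, ?_⟩
    rw [conj_pow, ht', mul_one, mul_inv_cancel]
  · intro w k hk hfix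
    refine det_eq_one hp2 w fun i j => ?_
    -- an element of order `p` of the field
    obtain ⟨c, hcp⟩ : ∃ c : Fˣ, orderOf c = p := by
      refine exists_prime_orderOf_dvd_card' p ?_
      rw [Nat.card_units, Nat.card_eq_fintype_card]
      exact hpq
    have hc0 : (c : F) ≠ 0 := c.ne_zero
    have hroot := isRoot_sr M.toCoxeterSystem hp.isCartan i
    have hch : ∀ {x : Fin l → ℤ}, IsRoot M.toCoxeterSystem hp.isCartan x →
        ch hp x (hc hp j (c : F)) = ((c ^ pairing (cartanOf D l) j x : Fˣ) : F) := by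
      intro x hx
      obtain ⟨s, hs, rfl⟩ := (isRoot_iff hp M.toCoxeterSystem x).1 hx
      rw [ch_hc hp j hc0 hs, pairing_vec hp j hs, Units.val_zpow_eq_zpow_val]
    have hmem := hc_mem hp j hc0
    have hpow : (hc hp j (c : F)) ^ p = 1 := by
      refine eq_one_of_ch hp r hZ (pow_mem hmem p) fun i => ?_
      have Ci := C.coord _ (isRoot_sr M.toCoxeterSystem hp.isCartan i)
      have h1 : ∀ m : ℕ, ch hp (sr i) (hc hp j (c : F) ^ m) =
          ch hp (sr i) (hc hp j (c : F)) ^ m := by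
        intro m
        induction m with
        | zero =>
          have h2 := Ci.chi_mul (one_mem _) (one_mem _)
          rw [mul_one] at h2
          rw [pow_zero, pow_zero]
          exact (mul_eq_left₀ (Ci.chi_ne_zero (one_mem _))).1 h2.symm
        | succ m ih => rw [pow_succ, pow_succ, Ci.chi_mul (pow_mem hmem m) hmem, ih]
      rw [h1, hch (isRoot_sr M.toCoxeterSystem hp.isCartan i), ← Units.val_pow_eq_pow_val, ← zpow_natCast, ← zpow_mul,
        mul_comm, zpow_mul, zpow_natCast, ← hcp, pow_orderOf_eq_one, one_zpow, Units.val_one]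
    have h1 := C.chi_rp R.nsys hk hroot hmem
    rw [hfix _ ⟨hmem, hpow⟩, hch (hroot.act w), hch hroot] at h1
    have h2 := Units.ext h1
    have h3 : c ^ (pairing (cartanOf D l) j (rep M.toCoxeterSystem hp.isCartan w (sr i)) -
        pairing (cartanOf D l) j (sr i)) = 1 := by rw [zpow_sub, h2, mul_inv_cancel]
    rw [← orderOf_dvd_iff_zpow_eq_one, hcp] at h3
    have h4 : pairing (cartanOf D l) j (rep M.toCoxeterSystem hp.isCartan w (sr i) - sr i) =
        pairing (cartanOf D l) j (rep M.toCoxeterSystem hp.isCartan w (sr i)) - pairing (cartanOf D l) j (sr i) :=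
      map_sub (pr (cartanOf D l) j) _ _
    rw [h4]
    exact h3

end Chev

/-! ### numbers -/

section Num

variable {p : ℕ} [hpp : Fact p.Prime]

theorem lte (hp2 : p ≠ 2) {q d : ℕ} (hq : 1 < q) (hpq : p ∣ q - 1) (hd : d ≠ 0) :
    padicValNat p (q ^ d - 1) = padicValNat p (q - 1) + padicValNat p d := by
  have hodd : Odd p := hpp.out.odd_of_ne_two hp2
  have h1 : ¬ p ∣ q := by
    intro h2
    have h3 := (Nat.dvd_sub h2 hpq)
    rw [Nat.sub_sub_self hq.le] at h3
    exact hpp.out.one_lt.ne' (Nat.dvd_one.1 h3)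
  have h2 := padicValNat.pow_sub_pow (p := p) hodd (x := q) (y := 1) hq hpq h1 hd
  rwa [one_pow] at h2

theorem not_dvd_idx (hp2 : p ≠ 2) {q n t g N : ℕ} (hq : 1 < q) (hpq : p ∣ q - 1)
    (h1 : n * (51840 * t) = N)
    (h2 : g * N = q ^ 36 * (q ^ 2 - 1) * (q ^ 5 - 1) * (q ^ 6 - 1) * (q ^ 8 - 1) * (q ^ 9 - 1) * (q ^ 12 - 1))
    (h3 : g * t = (q - 1) ^ 6) : ¬ p ∣ n := by
  have hq1 : q - 1 ≠ 0 := by omega
  have hpos : ∀ d : ℕ, d ≠ 0 → q ^ d - 1 ≠ 0 := by
    intro d hd
    have := Nat.one_lt_pow hd hq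
    omega
  have hpq' : ¬ p ∣ q := by
    intro h2
    have h3 := (Nat.dvd_sub h2 hpq)
    rw [Nat.sub_sub_self hq.le] at h3
    exact hpp.out.one_lt.ne' (Nat.dvd_one.1 h3)
  have hq0 : q ≠ 0 := by omega
  have h4 : n * ((2 * 5 * 6 * 8 * 9 * 12) * (q - 1) ^ 6) =
      q ^ 36 * ((q ^ 2 - 1) * (q ^ 5 - 1) * (q ^ 6 - 1) * (q ^ 8 - 1) * (q ^ 9 - 1) * (q ^ 12 - 1)) := by
    rw [← h3]
    calc n * ((2 * 5 * 6 * 8 * 9 * 12) * (g * t)) = g * (n * (51840 * t)) := by ring
      _ = _ := by rw [h1, h2]; ring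
  have hn0 : n ≠ 0 := by
    rintro rfl
    rw [zero_mul] at h4
    have := hpos 2 (by decide)
    have := hpos 5 (by decide)
    have := hpos 6 (by decide)
    have := hpos 8 (by decide)
    have := hpos 9 (by decide)
    have := hpos 12 (by decide)
    have : q ^ 36 ≠ 0 := pow_ne_zero _ hq0
    exact absurd h4.symm (by positivity)
  have h5 := congrArg (padicValNat p) h4
  have e36 : padicValNat p (q ^ 36) = 0 := padicValNat.eq_zero_of_not_dvd fun h => hpq' (hpp.out.dvd_of_dvd_pow h)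
  have a2 := hpos 2 (by decide)
  have a5 := hpos 5 (by decide)
  have a6 := hpos 6 (by decide)
  have a8 := hpos 8 (by decide)
  have a9 := hpos 9 (by decide)
  have a12 := hpos 12 (by decide)
  rw [padicValNat.mul hn0 (by positivity), padicValNat.mul (by positivity) (by positivity),
    padicValNat.mul (pow_ne_zero _ hq0) (by (clear * - a2 a5 a6 a8 a9 a12; positivity)), e36,
    padicValNat.mul (by (clear * - a2 a5 a6 a8 a9; positivity)) a12, padicValNat.mul (by (clear * - a2 a5 a6 a8; positivity)) a9, padicValNat.mul (by (clear * - a2 a5 a6; positivity)) a8,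
    padicValNat.mul (by (clear * - a2 a5; positivity)) a6, padicValNat.mul a2 a5, lte hp2 hq hpq (by decide), lte hp2 hq hpq (by decide),
    lte hp2 hq hpq (by decide), lte hp2 hq hpq (by decide), lte hp2 hq hpq (by decide), lte hp2 hq hpq (by decide),
    padicValNat.pow, padicValNat.mul (by decide) (by decide), padicValNat.mul (by decide) (by decide),
    padicValNat.mul (by decide) (by decide), padicValNat.mul (by decide) (by decide),
    padicValNat.mul (by decide) (by decide)] at h5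
  intro hd
  have h6 := one_le_padicValNat_of_dvd hn0 hd
  omega

end Num

/-! ### homocyclic groups -/

theorem card_torsion_le {p a m : ℕ} [hpp : Fact p.Prime] [NeZero m] {P : Type*} [Group P]
    (e : P ≃* (Fin a → Multiplicative (ZMod m))) : Nat.card {x : P // x ^ p = 1} ≤ p ^ a := by
  classical
  have h1 : Nat.card {x : P // x ^ p = 1} = Nat.card (Fin a → {y : Multiplicative (ZMod m) // y ^ p = 1}) := by
    refine Nat.card_congr ⟨fun x i => ⟨e x.1 i, ?_⟩, fun f => ⟨e.symm fun i => (f i).1, ?_⟩, fun x => ?_, fun f => ?_⟩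
    · have h2 := congrFun (congrArg e x.2) i
      rw [map_pow, map_one] at h2
      exact h2
    · rw [← map_pow]
      have h2 : (fun i => (f i).1) ^ p = 1 := by
        funext i
        exact (f i).2
      rw [h2, map_one]
    · apply Subtype.ext
      exact e.symm_apply_apply x.1
    · funext i
      apply Subtype.ext
      exact congrFun (e.apply_symm_apply fun i => (f i).1) i
  have h2 : Nat.card {y : Multiplicative (ZMod m) // y ^ p = 1} ≤ p := by
    rw [Nat.card_eq_fintype_card, Fintype.card_subtype]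
    exact IsCyclic.card_pow_eq_one_le hpp.out.pos
  rw [h1, Nat.card_fun, Nat.card_fin]
  exact Nat.pow_le_pow_left h2 a

/-! ### the row -/

theorem laced_E6 : ∀ i j : Fin 6, i ≠ j → CoxeterMatrix.E₆ i j = 2 ∨ CoxeterMatrix.E₆ i j = 3 := by
  intro i j
  (revert i j; simp only [CoxeterMatrix.E₆, _root_.Fin.forall_fin_succ, _root_.ne_eq, _root_.Matrix.of_apply, _root_.Matrix.cons_val', _root_.Matrix.cons_val_fin_one, Fin.isValue, _root_.Matrix.cons_val_zero, _root_.Matrix.cons_val_succ, _root_.Fin.succ_zero_eq_one, _root_.Fin.succ_one_eq_two, Fin.reduceSucc, _root_.IsEmpty.forall_iff, _root_.and_true, _root_.not_true_eq_false, _root_.OfNat.one_ne_ofNat, _root_.or_self, _root_.imp_self, _root_.zero_ne_one, _root_.not_false_eq_true, Nat.reduceEqDiff, _root_.or_false, Fin.reduceEq, _root_.Nat.succ_ne_self, _root_.or_true, _root_.and_self, _root_.Fin.succ_ne_zero, _root_.forall_const, _root_.implies_true, _root_.imp_false, _root_.Decidable.not_not, _root_.true_and])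

theorem rowS_e6 {p : ℕ} [hpp : Fact p.Prime] (hp2 : p ≠ 2) (F : Type) [Field F] [Fintype F] (hF : (p : F) ≠ 0)
    (hd : p ∣ Nat.card ↥(chevE6.group F)) : RowS p ↥(chevE6.group F) := by
  classical
  obtain ⟨r, hr⟩ := CharP.exists F
  have hrp : Fact r.Prime := ⟨CharP.char_is_prime F r⟩
  have hpr : p ≠ r := by
    rintro rfl
    exact hF (CharP.cast_eq_zero F p)
  have hsimple : IsSimpleGroup ↥(chevE6.group F) ∧ ¬ IsMulCommutative ↥(chevE6.group F) :=
    S1054.result chevE6 (by simp)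
  have hZ := center_eq_bot_of_simple hsimple
  obtain ⟨q, hq⟩ : ∃ q, Fintype.card F = q := ⟨_, rfl⟩
  have hq1 : 1 < q := hq ▸ Fintype.one_lt_card
  have hpq : ¬ p ∣ q := by
    intro h1
    obtain ⟨m, hrp', hm⟩ := FiniteField.card F r
    rw [← hq, hm] at h1
    exact hpr ((Nat.prime_dvd_prime_iff_eq hpp.out hrp').1 (hpp.out.dvd_of_dvd_pow h1))
  by_cases h1 : p ∣ q - 1
  · refine rowS_chev e6T hp2 hZ r (by decide) laced_E6 (by rw [hq]; exact h1) fun n hn => ?_
    have h2 := S1093.result ⟨⟨6, CoxeterMatrix.E₆⟩, 51840⟩ (by simp)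
    have h3 := S1063.result hq
    have h4 := S1035.result hq (chevE6, Nat.gcd 3 (q - 1)) (by simp only [_root_.List.mem_cons, _root_.Prod.mk.injEq, _root_.List.not_mem_nil, _root_.or_false, _root_.true_or, _root_.or_true])
    rw [show Nat.card CoxeterMatrix.E₆.Group = 51840 from h2] at hn
    exact not_dvd_idx hp2 hq1 h1 hn h3 h4
  by_cases h3 : q ^ 3 ≡ 1 [MOD p]
  · -- `p ≥ 7`
    have hp3 : p ≠ 3 := by
      rintro rfl
      apply h1
      refine (Nat.modEq_iff_dvd' hq1.le).1 ?_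
      have h4 : q ^ 3 ≡ q [MOD 3] := by
        have := Nat.ModEq.symm (Nat.mod_modEq q 3)
        have h5 : q % 3 = 0 ∨ q % 3 = 1 ∨ q % 3 = 2 := by omega
        have h6 : q ^ 3 ≡ (q % 3) ^ 3 [MOD 3] := this.pow 3
        refine h6.trans (Nat.ModEq.trans ?_ this.symm)
        rcases h5 with h5 | h5 | h5 <;> rw [h5] <;> decide
      exact (h3.symm.trans h4)
    have hp5 : p ≠ 5 := by
      rintro rfl
      apply h1
      refine (Nat.modEq_iff_dvd' hq1.le).1 ?_
      have h4 : q ^ 3 ≡ (q % 5) ^ 3 [MOD 5] := (Nat.ModEq.symm (Nat.mod_modEq q 5)).pow 3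
      have h5 : (q % 5) ^ 3 ≡ 1 [MOD 5] := h4.symm.trans h3
      have h6 : q % 5 < 5 := Nat.mod_lt _ (by decide)
      have h7 : q % 5 = 1 := by
        interval_cases hqq : q % 5
        · exact absurd h5 (by decide)
        · rfl
        · exact absurd h5 (by decide)
        · exact absurd h5 (by decide)
        · exact absurd h5 (by decide)
      have h8 := Nat.mod_modEq q 5
      rw [h7] at h8
      exact h8
    have hp7 : 7 ≤ p := by
      by_contra h
      push Not at h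
      have := hpp.out.two_le
      interval_cases p
      · exact hp2 rfl
      · exact hp3 rfl
      · exact absurd hpp.out (by decide)
      · exact hp5 rfl
      · exact absurd hpp.out (by decide)
    have hW : ¬ p ∣ [2, 5, 6, 8, 9, 12].prod := by
      intro h4
      have h5 : p ∣ 2 ^ 7 * 3 ^ 4 * 5 := by
        have : [2, 5, 6, 8, 9, 12].prod = 2 ^ 7 * 3 ^ 4 * 5 := by decide
        rwa [this] at h4
      rcases (Nat.Prime.dvd_mul hpp.out).1 h5 with h6 | h6
      · rcases (Nat.Prime.dvd_mul hpp.out).1 h6 with h7 | h7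
        · have := Nat.le_of_dvd (by decide) (hpp.out.dvd_of_dvd_pow h7)
          omega
        · have := Nat.le_of_dvd (by decide) (hpp.out.dvd_of_dvd_pow h7)
          omega
      · have := Nat.le_of_dvd (by decide) h6
        omega
    have hsyl := S2378.result hq (chevE6, [2, 5, 6, 8, 9, 12]) (by simp) p hpq hW hd
    have := hsimple.1
    refine RowS.of_abelian (fun hc => hsimple.2 ⟨⟨hc⟩⟩) hd (fun Q x hx y hy => ?_) fun Q => ?_
    · obtain ⟨e⟩ := hsyl Q
      have h4 : (⟨x, hx⟩ : ↥(Q : Subgroup ↥(chevE6.group F))) * ⟨y, hy⟩ = ⟨y, hy⟩ * ⟨x, hx⟩ := by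
        apply e.injective
        rw [map_mul, map_mul]
        exact mul_comm _ _
      exact congrArg Subtype.val h4
    · obtain ⟨e⟩ := hsyl Q
      have h5 : Nat.card {x : ↥(chevE6.group F) // x ∈ Q ∧ x ^ p = 1} =
          Nat.card {x : ↥(Q : Subgroup ↥(chevE6.group F)) // x ^ p = 1} :=
        Nat.card_congr ⟨fun x => ⟨⟨x, x.2.1⟩, Subtype.ext x.2.2⟩,
          fun x => ⟨x, x.1.2, congrArg Subtype.val x.2⟩, fun x => rfl, fun x => rfl⟩
      rw [h5]
      have : NeZero (p ^ padicValNat p ((Polynomial.cyclotomic (orderOf (q : ZMod p)) ℤ).eval (q : ℤ)).natAbs) :=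
        ⟨pow_ne_zero _ hpp.out.ne_zero⟩
      refine (card_torsion_le e).trans_lt (Nat.pow_lt_pow_right hpp.out.one_lt ?_)
      refine lt_of_le_of_lt (List.length_filter_le _ _) ?_
      exact lt_of_lt_of_le (by decide : 6 < 7) hp7
  · refine RowS.of_powConj hZ hd fun z _ hz => ⟨q ^ 3, h3, ?_⟩
    have h4 := isConj_pow (F := F) e6T inv_E6 three_ne_zero
      (center_eq_bot_of_simple (S1054.result chevE6 (by simp))) (r := r) hpp.out hpr hz
    rwa [hq] at h4

end Cfsg.Agent.H142.GmnE6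
end

private theorem dce_878ba1847a37 : _root_.True := by
  try have : _root_.True := by simp only [_root_.CoxeterMatrix.E₆.eq_1]
  try have : _root_.True := by simp only [_root_.CoxeterMatrix.mk.congr_simp]
  exact _root_.True.intro
end

-- part: H712/GmnON
section
set_option linter.all false
open scoped Cfsg.Agent.FastGrp

/-!
# The row `p = 3` of the O'Nan group: abelian Sylow 3-subgroups (helper712)
-/

set_option autoImplicit false

open Subgroup

namespace Cfsg.Agent.H712.GmnON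

open Cfsg Cfsg.Agent.H711.Crit Cfsg.Agent.H712.Gmn

theorem nn_on : NN 3 Spor.ON := by
  have : Fact (Nat.Prime 3) := ⟨Nat.prime_three⟩
  have hc : Nat.card Spor.ON = 460815505920 := NotCT.Orders.on ⟨MulEquiv.refl _⟩
  have hfin : Finite Spor.ON := Nat.finite_of_card_ne_zero (by rw [hc]; norm_num)
  have hs : IsSimpleGroup Spor.ON := Cfsg.Agent.S1699.result.1
  obtain ⟨E, hE, hab, -⟩ := CpAut.SporThree.ON.exists_E
  have hEc : Nat.card E = 3 ^ (Nat.card Spor.ON).factorization 3 := by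
    rw [hE, hc]
    have h1 : (460815505920 : ℕ) = 3 ^ 4 * 5689080320 := by norm_num
    rw [h1, Nat.factorization_mul (by norm_num) (by norm_num), Finsupp.add_apply, Nat.Prime.factorization_pow Nat.prime_three,
      Finsupp.single_eq_same, Nat.factorization_eq_zero_of_not_dvd (by norm_num)]
  exact NN.of_abelian (by rw [hc]; norm_num) (by rw [hc]; norm_num) (Sylow.ofCard E hEc) hab

universe u

theorem on {K : Type u} [Group K] [IsSimpleGroup K] (h : Spor.IsoON K) : RowS 3 K := by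
  have : Fact (Nat.Prime 3) := ⟨Nat.prime_three⟩
  have hc : Nat.card Spor.ON = 460815505920 := NotCT.Orders.on ⟨MulEquiv.refl _⟩
  have hfin : Finite Spor.ON := Nat.finite_of_card_ne_zero (by rw [hc]; norm_num)
  have hs : IsSimpleGroup Spor.ON := Cfsg.Agent.S1699.result.1
  obtain ⟨e⟩ := h
  refine (rowS_of_NN (H711.RowCount.center_eq_bot (by rw [hc]; norm_num)) ?_ nn_on).congr e.symm
  intro h0
  have h1 : 3 ∣ Nat.card (Out Spor.ON) := h0
  rw [S2078.result] at h1
  norm_num at h1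

end Cfsg.Agent.H712.GmnON
end
end
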